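import Mathlib

/-!
S3339: a Sylow 3-subgroup of the alternating group of degree six is normalised by an element of
order four.
-/

set_option autoImplicit false
set_option maxRecDepth 40000

namespace Cfsg.Agent.A9Three

/-- The subgroup generated by two disjoint three-cycles. -/
def e6Fun (z : Multiplicative (ZMod 3 × ZMod 3)) : Equiv.Perm (Fin 6) :=
  (Equiv.swap (0 : Fin 6) 1 * Equiv.swap 1 2) ^ z.toAdd.1.val *
    (Equiv.swap (3 : Fin 6) 4 * Equiv.swap 4 5) ^ z.toAdd.2.val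

theorem e6_sign : ∀ z, Equiv.Perm.sign (e6Fun z) = 1 := by decide +kernel

theorem e6_mul : ∀ a b, e6Fun (a * b) = e6Fun a * e6Fun b := by decide +kernel

/-- The same as a homomorphism. -/
def e6 : Multiplicative (ZMod 3 × ZMod 3) →* alternatingGroup (Fin 6) :=
  MonoidHom.mk' (fun z => ⟨e6Fun z, Equiv.Perm.mem_alternatingGroup.2 (e6_sign z)⟩) fun a b => Subtype.ext (e6_mul a b)

/-- The element of order four. -/
def g6Perm : Equiv.Perm (Fin 6) :=
  Equiv.swap 0 4 * Equiv.swap 0 1 * Equiv.swap 0 3 * Equiv.swap 2 5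

theorem g6_facts : Equiv.Perm.sign g6Perm = 1 ∧ g6Perm ^ 4 = 1 ∧ g6Perm ^ 2 ≠ 1 ∧
    ∀ z, ∃ w, g6Perm * e6Fun z * g6Perm⁻¹ = e6Fun w := by decide +kernel

theorem e6_inj : ∀ a b, e6Fun a = e6Fun b → a = b := by decide +kernel

/-- Every Sylow 3-subgroup is normalised by an element of order four. -/
theorem a6_quarter (P : Sylow 3 (alternatingGroup (Fin 6))) :
    ∃ g : alternatingGroup (Fin 6), g ^ 4 = 1 ∧ g ^ 2 ≠ 1 ∧
      ∀ x ∈ (P : Subgroup (alternatingGroup (Fin 6))),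
        g * x * g⁻¹ ∈ (P : Subgroup (alternatingGroup (Fin 6))) := by
  haveI : Fact (Nat.Prime 3) := ⟨Nat.prime_three⟩
  have hc : Nat.card e6.range = 9 := by
    rw [← Nat.card_congr (MonoidHom.ofInjective (f := e6)
      (fun a b h => e6_inj a b (congrArg Subtype.val h))).toEquiv, Nat.card_eq_fintype_card]
    rfl
  have hA : Nat.card (alternatingGroup (Fin 6)) = 360 := by
    rw [nat_card_alternatingGroup, Nat.card_fin]; rfl
  have hp : IsPGroup 3 e6.range := IsPGroup.of_card (n := 2) hc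
  have hi : ¬ 3 ∣ e6.range.index := by
    have h := e6.range.card_mul_index
    rw [hc, hA] at h
    omega
  obtain ⟨hs, h5, h6, h7⟩ := g6_facts
  have h4 : g6Perm ∈ alternatingGroup (Fin 6) := Equiv.Perm.mem_alternatingGroup.2 hs
  obtain ⟨h, hh⟩ := MulAction.exists_smul_eq (alternatingGroup (Fin 6)) (hp.toSylow hi) P
  refine ⟨h * ⟨g6Perm, h4⟩ * h⁻¹, ?_, ?_, fun x hx => ?_⟩
  · rw [conj_pow, show (⟨g6Perm, h4⟩ : alternatingGroup (Fin 6)) ^ 4 = 1 from Subtype.ext h5,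
      mul_one, mul_inv_cancel]
  · rw [conj_pow, ne_eq, conj_eq_one_iff]
    exact fun e => h6 (congrArg Subtype.val e)
  · rw [← hh, Sylow.coe_subgroup_smul, Subgroup.mem_pointwise_smul_iff_inv_smul_mem] at hx ⊢
    obtain ⟨z, hz⟩ := hx
    obtain ⟨w, hw⟩ := h7 z
    refine ⟨w, ?_⟩
    have hz' : e6 z = h⁻¹ * x * h := by
      rw [hz]; simp [MulAut.smul_def, mul_assoc]
    have hw' : e6 w = (⟨g6Perm, h4⟩ : alternatingGroup (Fin 6)) * e6 z * ⟨g6Perm, h4⟩⁻¹ :=
      Subtype.ext hw.symm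
    rw [hw', hz']
    simp [MulAut.smul_def, mul_assoc]

end Cfsg.Agent.A9Three
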