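import Cfsg.Agent.Lib.A9Three.CentC
import Cfsg.Agent.Lib.A9Three.Quarter
import Cfsg.Agent.Lib.Recog.NineA6

/-!
S3339: the centraliser of a translation of the first class.
-/

set_option autoImplicit false
set_option maxRecDepth 40000

namespace Cfsg.Agent.A9Three

open Cfsg.Agent.ThreeTI.Mono
open Cfsg.Agent.ThreeTI.Cube (V)

universe u

/-- The translation of the first class. -/
def va : V := vec 0 0 1

/-- The third coordinate. -/
def piz : V →* Multiplicative (ZMod 3) where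
  toFun u := Multiplicative.ofAdd u.toAdd.2.2
  map_one' := rfl
  map_mul' := fun _ _ => rfl

theorem noThree_a : NoThree va := by unfold NoThree; decide +kernel

theorem piz_inv : ∀ q : Rot, actFn q va = va → ∀ u : V, piz (actFn q u) = piz u := by
  decide +kernel

theorem va_cube : va ^ 3 = 1 := by decide +kernel

theorem cl_va : orderOf (inJ va) = 3 := by
  have h : inJ va ^ 3 = 1 := by rw [← map_pow, va_cube, map_one]
  have h1 : inJ va ≠ 1 := by decide +kernel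
  haveI := Fact.mk Nat.prime_three
  exact orderOf_eq_prime h h1

set_option synthInstance.maxSize 1000 in
theorem a_near : ∀ u : V, piz u = 1 → u ≠ 1 →
    (cl (inJ u) = cl (inJ vb) ∨ cl (inJ (u * va)) = cl (inJ vb)) ∧
    ∀ q : Rot, actFn q va = va → actFn q u = u → q = 1 := by decide +kernel

set_option synthInstance.maxSize 1000 in
theorem a_irred : ∀ u : V, piz u = 1 → u ≠ 1 → ∀ w : V, piz w = 1 →
    ∃ i j : Fin 3, w = u ^ i.val * actFn ⟨10⟩ u ^ j.val := by decide +kernel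

theorem a_split : ∀ u : V, ∃ i : Fin 3, piz (u * va ^ i.val) = 1 := by decide +kernel

theorem ten_fix : actFn ⟨10⟩ va = va := by decide +kernel

theorem ten_four : (⟨10⟩ : Rot) * ⟨10⟩ * (⟨10⟩ * ⟨10⟩) = 1 := by decide +kernel

theorem fix_ten : ∀ q : Rot, actFn q va = va → q * q ≠ 1 → q = ⟨10⟩ ∨ q⁻¹ = ⟨10⟩ := by
  decide +kernel

theorem fix_pow : ∀ q : Rot, actFn q va = va → q = 1 ∨ q = ⟨10⟩ ∨ q = ⟨10⟩ * ⟨10⟩ ∨
    q = ⟨10⟩ * ⟨10⟩ * ⟨10⟩ := by decide +kernel

theorem a_card : (Finset.univ.filter fun u : V => piz u = 1).card = 9 := by decide +kernel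

theorem sq_right : ∀ q : Rot, ∀ v : V, q * q = 1 → (⟨v, q⟩ : Mo) ^ 4 = 1 →
    (⟨v, q⟩ : Mo) ^ 2 = 1 := by decide +kernel

/-- The translations `(1, 0, 0)` and `(1, 1, 0)`. -/
theorem two_cls : piz (vec 1 0 0) = 1 ∧ piz (vec 1 1 0) = 1 ∧
    cl (inJ (vec 1 0 0)) ≠ cl (inJ (vec 1 1 0)) ∧ vec 1 0 0 ≠ 1 ∧ vec 1 1 0 ≠ 1 := by
  decide +kernel

theorem m3_gen : ∀ z : Multiplicative (ZMod 3), z ≠ 1 → ∀ w, ∃ i : Fin 3, w * z ^ i.val = 1 := by
  decide

theorem piz_va : piz va ≠ 1 := by decide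

theorem m3_four : ∀ z : Multiplicative (ZMod 3), z * z * (z * z) = 1 → z = 1 := by decide

namespace Cfg

variable {G : Type u} [Group G] {ι : Mo →* G} (C : Cfg ι)
include C

/-- The centraliser of `a` lies in the normaliser or has a factor `A₆`. -/
theorem cg_a [Finite G] : cg ι va ≤ ι.range ∨ ∃ K : Subgroup G, K ≤ cg ι va ∧
    (∀ u : V, ι (inJ u) ∈ K ↔ piz u = 1) ∧ ι (inQ ⟨10⟩) ∈ K ∧
    (∀ g ∈ cg ι va, ∀ x ∈ K, g * x * g⁻¹ ∈ K) ∧
    (∀ g ∈ cg ι va, ∃ i : ℕ, g * ι (inJ va) ^ i ∈ K) ∧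
    Nonempty (K ≃* alternatingGroup (Fin 6)) := by
  classical
  haveI : Fact (Nat.Prime 3) := ⟨Nat.prime_three⟩
  haveI := Fintype.ofFinite G
  refine or_iff_not_imp_left.2 fun hbig => ?_
  obtain ⟨f, hf⟩ := C.split noThree_a piz piz_inv
  set K : Subgroup (cg ι va) := f.ker with hKdef
  have hcore : Cfsg.pPrimeCore 3 K = ⊥ := by
    have h := Cfsg.Agent.PBasic.map_pPrimeCore_le_of_normal (p := 3) K
    rw [show Cfsg.pPrimeCore 3 (cg ι va) = ⊥ from C.cores _ cl_va, le_bot_iff,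
      Subgroup.map_eq_bot_iff_of_injective _ K.subtype_injective] at h
    exact h
  obtain ⟨P, hP⟩ := C.exists_sylow_cg noThree_a
  obtain ⟨Q, hQ⟩ := Cfsg.Agent.PBasic.exists_sylow_subgroupOf P K
  have hmemQ : ∀ {x : K}, x ∈ (Q : Subgroup K) ↔ ((x : cg ι va) : G) ∈ J ι := by
    intro x
    rw [hQ, Subgroup.mem_subgroupOf, hP, Subgroup.mem_subgroupOf]
  have hu : ∀ {x : K}, x ∈ (Q : Subgroup K) →
      ∃ u : V, piz u = 1 ∧ ι (inJ u) = ((x : cg ι va) : G) := by
    intro x hx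
    obtain ⟨u, hu⟩ := hmemQ.1 hx
    refine ⟨u, (hf u (J_le_cg va (mem_J u))).1 ?_, hu⟩
    rw [show (⟨ι (inJ u), _⟩ : cg ι va) = x from Subtype.ext hu]
    exact x.2
  have hmk : ∀ {u : V}, piz u = 1 → (⟨ι (inJ u), J_le_cg va (mem_J u)⟩ : cg ι va) ∈ K :=
    fun h => (hf _ _).2 h
  let q : {u : V // piz u = 1} → (Q : Subgroup K) := fun u =>
    ⟨⟨_, hmk u.2⟩, hmemQ.2 (mem_J u.1)⟩
  have hQ9 : Nat.card (Q : Subgroup K) = 9 := by
    rw [← Nat.card_eq_of_bijective q ⟨fun u u' e => Subtype.ext (SemidirectProduct.inl_injective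
      (C.inj (congrArg (fun x : (Q : Subgroup K) => (((x : K) : cg ι va) : G)) e))), fun x => by
      obtain ⟨u, h1, h2⟩ := hu x.2
      exact ⟨⟨u, h1⟩, Subtype.ext (Subtype.ext (Subtype.ext h2))⟩⟩,
      Nat.card_eq_fintype_card, Fintype.card_subtype, a_card]
  have hQexp : ∀ x ∈ (Q : Subgroup K), x ^ 3 = 1 := by
    intro x hx
    obtain ⟨u, -, h2⟩ := hu hx
    refine Subtype.ext (Subtype.ext ?_)
    show ((x : cg ι va) : G) ^ 3 = 1
    rw [← h2, ← map_pow, ← map_pow, (pow_three' u).trans (v_cube u), map_one, map_one]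
  have hcent : ∀ x ∈ (Q : Subgroup K), x ≠ 1 → ∀ k : K, k * x = x * k →
      k ∈ (Q : Subgroup K) := by
    intro x hx hx1 k hk
    obtain ⟨u, h1, h2⟩ := hu hx
    have hu1 : u ≠ 1 := fun h => hx1 (Subtype.ext (Subtype.ext (by
      rw [← h2, h, map_one, map_one]; rfl)))
    obtain ⟨hcl, hfix⟩ := a_near u h1 hu1
    have hku : ((k : cg ι va) : G) ∈ cg ι u := Subgroup.mem_centralizer_singleton_iff.2 (by
      rw [h2]; exact congrArg (fun y : K => ((y : cg ι va) : G)) hk)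
    have hkR : ((k : cg ι va) : G) ∈ ι.range := by
      rcases hcl with h | h
      · exact C.cg_of_cl_b h hku
      · refine C.cg_of_cl_b h (Subgroup.mem_centralizer_singleton_iff.2 ?_)
        rw [map_mul, map_mul]
        exact Commute.mul_right (Subgroup.mem_centralizer_singleton_iff.1 hku)
          (Subgroup.mem_centralizer_singleton_iff.1 (k : cg ι va).2)
    obtain ⟨m, hm⟩ := hkR
    refine hmemQ.2 (hm ▸ C.mem_J_iff.2 (hfix _ ((C.mem_cg_iff m va).1 (hm ▸ (k : cg ι va).2))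
      ((C.mem_cg_iff m u).1 (hm ▸ hku))))
  have hnormQ : ∀ k : K, (∀ x ∈ (Q : Subgroup K), k * x * k⁻¹ ∈ (Q : Subgroup K)) →
      ((k : cg ι va) : G) ∈ ι.range := by
    intro k hk
    have one : ∀ y ∈ J ι, ((k : cg ι va) : G) * y * ((k : cg ι va) : G)⁻¹ ∈ J ι := by
      intro y hy
      obtain ⟨u, rfl⟩ := hy
      obtain ⟨i, hi⟩ := a_split u
      have h1 : ((k : cg ι va) : G) * ι (inJ (u * va ^ i.val)) * ((k : cg ι va) : G)⁻¹ ∈ J ι :=
        hmemQ.1 (hk ⟨_, hmk hi⟩ (hmemQ.2 (mem_J (u * va ^ i.val))))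
      have h2 : ((k : cg ι va) : G) * (ι (inJ (va ^ i.val)))⁻¹ * ((k : cg ι va) : G)⁻¹ ∈ J ι := by
        rw [map_pow, map_pow, ((Commute.pow_right
          (Subgroup.mem_centralizer_singleton_iff.1 (k : cg ι va).2) _).inv_right).eq,
          mul_inv_cancel_right, ← map_pow, ← map_pow]
        exact inv_mem (mem_J _)
      have h3 := mul_mem h1 h2
      rw [conj_mul, ← map_inv, ← map_mul, ← map_inv, ← map_mul, mul_inv_cancel_right] at h3
      exact h3
    have h3 : ∀ n : ℕ, ∀ y ∈ J ι,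
        ((k : cg ι va) : G) ^ n * y * (((k : cg ι va) : G) ^ n)⁻¹ ∈ J ι := by
      intro n
      induction n with
      | zero => intro y hy; simpa using hy
      | succ n ih =>
        intro y hy
        rw [pow_succ', show ((k : cg ι va) : G) * ((k : cg ι va) : G) ^ n * y *
          (((k : cg ι va) : G) * ((k : cg ι va) : G) ^ n)⁻¹ = ((k : cg ι va) : G) *
            (((k : cg ι va) : G) ^ n * y * (((k : cg ι va) : G) ^ n)⁻¹) *
              ((k : cg ι va) : G)⁻¹ by group]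
        exact one _ (ih y hy)
    refine C.norm (Subgroup.mem_normalizer_iff.2 fun y => ⟨one y, fun hy => ?_⟩)
    have := h3 (orderOf ((k : cg ι va) : G) - 1) _ hy
    have e : ((k : cg ι va) : G) ^ (orderOf ((k : cg ι va) : G) - 1) =
        ((k : cg ι va) : G)⁻¹ := by
      rw [eq_inv_iff_mul_eq_one, ← pow_succ, Nat.sub_add_cancel (orderOf_pos _),
        pow_orderOf_eq_one]
    rwa [e, inv_inv, show ((k : cg ι va) : G)⁻¹ *
      (((k : cg ι va) : G) * y * ((k : cg ι va) : G)⁻¹) * ((k : cg ι va) : G) = y by group] at this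
  have hr : ι (inQ ⟨10⟩) ∈ cg ι va := (C.mem_cg_iff _ _).2 ten_fix
  have hrK : (⟨_, hr⟩ : cg ι va) ∈ K := by
    rw [hKdef, MonoidHom.mem_ker]
    refine m3_four _ ?_
    rw [← map_mul, ← map_mul, show (⟨_, hr⟩ : cg ι va) * ⟨_, hr⟩ * (⟨_, hr⟩ * ⟨_, hr⟩) = 1 from
      Subtype.ext (by
        show ι (inQ ⟨10⟩) * ι (inQ ⟨10⟩) * (ι (inQ ⟨10⟩) * ι (inQ ⟨10⟩)) = 1
        simp only [← map_mul, ten_four, map_one]),
      map_one]
  set r : K := ⟨⟨_, hr⟩, hrK⟩ with hrdef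
  have back : ∀ {y : G} {u : V}, ι (inJ u) = ι (inQ ⟨10⟩) * y * (ι (inQ ⟨10⟩))⁻¹ → y ∈ J ι := by
    intro y u h
    have h' := conj_mem_J (ι := ι) (inQ ⟨10⟩)⁻¹ (mem_J u)
    rw [h, map_inv, inv_inv, mul_assoc, mul_assoc, inv_mul_cancel, mul_one,
      inv_mul_cancel_left] at h'
    exact h'
  have ract : ∀ {x : K} {u : V}, ι (inJ u) = ((x : cg ι va) : G) →
      (((r * x * r⁻¹ : K) : cg ι va) : G) = ι (inJ (actFn ⟨10⟩ u)) := by
    intro x u h
    show ι (inQ ⟨10⟩) * ((x : cg ι va) : G) * (ι (inQ ⟨10⟩))⁻¹ = _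
    rw [← h, ← map_mul, ← map_inv, ← map_mul, conj_inJ, SemidirectProduct.right_inr]
  -- an element of `Q` and its image under `r` generate `Q`
  have irred : ∀ (X : Subgroup K) {x : K}, x ∈ (Q : Subgroup K) → x ≠ 1 → x ∈ X →
      r * x * r⁻¹ ∈ X → (Q : Subgroup K) ≤ X := by
    intro X x hx hx1 hxX hrX y hy
    obtain ⟨u, h1, h2⟩ := hu hx
    obtain ⟨w, h3, h4⟩ := hu hy
    have hu1 : u ≠ 1 := fun h => hx1 (Subtype.ext (Subtype.ext (by
      rw [← h2, h, map_one, map_one]; rfl)))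
    obtain ⟨i, j, hw⟩ := a_irred u h1 hu1 w h3
    have e : y = x ^ i.val * (r * x * r⁻¹) ^ j.val := by
      refine Subtype.ext (Subtype.ext ?_)
      push_cast
      rw [← h4, ← h2, hw, map_mul, map_mul, map_pow, map_pow, map_pow, map_pow]
      congr 2
      exact ((ract h2).symm.trans (by rw [h2]; push_cast; rfl))
    rw [e]
    exact mul_mem (pow_mem hxX _) (pow_mem hrX _)
  let L : Subgroup K := Subgroup.closure {k : K | k ^ 3 = 1}
  haveI hLn : L.Normal := by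
    refine ⟨fun n hn g => ?_⟩
    induction hn using Subgroup.closure_induction with
    | mem x hx => exact Subgroup.subset_closure (by
        show (g * x * g⁻¹) ^ 3 = 1
        rw [conj_pow, (hx : x ^ 3 = 1), mul_one, mul_inv_cancel])
    | one => simp
    | mul a b _ _ iha ihb =>
      rw [show g * (a * b) * g⁻¹ = g * a * g⁻¹ * (g * b * g⁻¹) by group]
      exact mul_mem iha ihb
    | inv a _ ih =>
      rw [show g * a⁻¹ * g⁻¹ = (g * a * g⁻¹)⁻¹ by group]
      exact inv_mem ih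
  have hQL : (Q : Subgroup K) ≤ L := fun x hx => Subgroup.subset_closure (hQexp x hx)
  -- an element of order three of `K` is conjugate into `Q` by an element of `L`
  obtain ⟨QL, hQLe⟩ := Cfsg.Agent.PBasic.exists_sylow_subgroupOf Q L
  have into : ∀ y : K, y ^ 3 = 1 → ∃ l ∈ L, l * y * l⁻¹ ∈ (Q : Subgroup K) := by
    intro y hy
    have hyL : y ∈ L := Subgroup.subset_closure hy
    have hp : IsPGroup 3 (Subgroup.zpowers (⟨y, hyL⟩ : L)) := by
      obtain ⟨i, -, hi⟩ := (Nat.dvd_prime_pow Nat.prime_three).1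
        (show orderOf (⟨y, hyL⟩ : L) ∣ 3 ^ 1 from
          orderOf_dvd_of_pow_eq_one (Subtype.ext (by simpa using hy)))
      exact IsPGroup.of_card (n := i) (by rw [Nat.card_zpowers, hi])
    obtain ⟨R, hR⟩ := hp.exists_le_sylow
    obtain ⟨l, hl⟩ := MulAction.exists_smul_eq L R QL
    refine ⟨l, l.2, ?_⟩
    have : l * ⟨y, hyL⟩ * l⁻¹ ∈ (QL : Subgroup L) := by
      rw [← hl, Sylow.coe_subgroup_smul]
      exact Subgroup.smul_mem_pointwise_smul _ _ _ (hR (Subgroup.mem_zpowers _))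
    rwa [hQLe, Subgroup.mem_subgroupOf] at this
  have hnotN : ∃ l ∈ L, ∃ x ∈ (Q : Subgroup K), l * x * l⁻¹ ∉ (Q : Subgroup K) := by
    by_contra hc
    push Not at hc
    have hLQ : L ≤ (Q : Subgroup K) := by
      rw [Subgroup.closure_le]
      intro y hy
      obtain ⟨l, hl, hlQ⟩ := into y hy
      have := hc l⁻¹ (inv_mem hl) _ hlQ
      rwa [show l⁻¹ * (l * y * l⁻¹) * l⁻¹⁻¹ = y by group] at this
    have hQn : ∀ k : K, ∀ x ∈ (Q : Subgroup K), k * x * k⁻¹ ∈ (Q : Subgroup K) := fun k x hx =>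
      hLQ (hLn.conj_mem _ (hQL hx) k)
    refine hbig fun g hg => ?_
    have one : ∀ k : cg ι va, ∀ y ∈ J ι, (k : G) * y * (k : G)⁻¹ ∈ J ι := by
      intro k y hy
      obtain ⟨u, rfl⟩ := hy
      obtain ⟨i, hi⟩ := a_split u
      have h1 : (k : G) * ι (inJ (u * va ^ i.val)) * (k : G)⁻¹ ∈ J ι := by
        have hy : (k * ⟨_, J_le_cg va (mem_J (u * va ^ i.val))⟩ * k⁻¹ : cg ι va) ∈ K :=
          (MonoidHom.normal_ker f).conj_mem _ (hmk hi) k
        have hy3 : (⟨_, hy⟩ : K) ^ 3 = 1 := Subtype.ext (Subtype.ext (by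
          push_cast
          rw [conj_pow, ← map_pow, ← map_pow, (pow_three' _).trans (v_cube _), map_one, map_one,
            mul_one, mul_inv_cancel]))
        exact hmemQ.1 (hLQ (Subgroup.subset_closure hy3))
      have h2 : (k : G) * (ι (inJ (va ^ i.val)))⁻¹ * (k : G)⁻¹ ∈ J ι := by
        rw [map_pow, map_pow, ((Commute.pow_right
          (Subgroup.mem_centralizer_singleton_iff.1 k.2) _).inv_right).eq,
          mul_inv_cancel_right, ← map_pow, ← map_pow]
        exact inv_mem (mem_J _)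
      have h3 := mul_mem h1 h2
      rw [conj_mul, ← map_inv, ← map_mul, ← map_inv, ← map_mul, mul_inv_cancel_right] at h3
      exact h3
    refine C.norm (Subgroup.mem_normalizer_iff.2 fun y => ⟨one ⟨g, hg⟩ y, fun hy => ?_⟩)
    have := one ⟨g, hg⟩⁻¹ _ hy
    push_cast at this
    rwa [show g⁻¹ * (g * y * g⁻¹) * g⁻¹⁻¹ = y by group] at this
  obtain ⟨x0, hx0, hx01⟩ : ∃ x ∈ (Q : Subgroup K), x ≠ 1 := by
    by_contra hc
    push Not at hc
    rw [(Subgroup.eq_bot_iff_forall _).2 hc, Subgroup.card_bot] at hQ9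
    omega
  have hLcore : Cfsg.pPrimeCore 3 L = ⊥ := by
    have h := Cfsg.Agent.PBasic.map_pPrimeCore_le_of_normal (p := 3) L
    rw [hcore, le_bot_iff, Subgroup.map_eq_bot_iff_of_injective _ L.subtype_injective] at h
    exact h
  have elt3 : ∀ X : Subgroup L, X.Normal → X ≠ ⊥ →
      ∃ x : L, x ∈ X ∧ (x : K) ∈ (Q : Subgroup K) ∧ x ≠ 1 := by
    intro X hX hne
    have h3 : 3 ∣ Nat.card X := by
      by_contra hc
      exact hne (le_bot_iff.1 (hLcore ▸ Cfsg.Agent.PBasic.le_pPrimeCore hX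
        (Nat.prime_three.coprime_iff_not_dvd.2 hc).symm))
    obtain ⟨z, hz⟩ := exists_prime_orderOf_dvd_card' 3 h3
    have hz3 : ((z : L) : K) ^ 3 = 1 := by
      have := pow_orderOf_eq_one z
      rw [hz] at this
      exact congrArg (fun w : X => ((w : L) : K)) this
    obtain ⟨l, hl, hlQ⟩ := into _ hz3
    refine ⟨⟨l, hl⟩ * z * ⟨l, hl⟩⁻¹, hX.conj_mem _ z.2 _, hlQ, fun e => ?_⟩
    rw [conj_eq_one_iff] at e
    rw [show z = 1 from Subtype.ext e, orderOf_one] at hz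
    omega
  haveI : Nontrivial L := ⟨⟨⟨x0, hQL hx0⟩, 1, fun e => hx01 (congrArg Subtype.val e)⟩⟩
  have htop : ∀ X : Subgroup L, X.Normal → (∀ x : L, (x : K) ∈ (Q : Subgroup K) → x ∈ X) →
      X = ⊤ := by
    intro X hX hQX
    refine top_unique fun y _ => ?_
    have : (Subgroup.closure {k : K | k ^ 3 = 1}) ≤ X.map L.subtype := by
      rw [Subgroup.closure_le]
      intro k hk
      obtain ⟨l, hl, hlQ⟩ := into k hk
      refine ⟨⟨l, hl⟩⁻¹ * (⟨l, hl⟩ * ⟨k, Subgroup.subset_closure hk⟩ * ⟨l, hl⟩⁻¹) *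
        ⟨l, hl⟩⁻¹⁻¹, hX.conj_mem _ (hQX _ hlQ) _, ?_⟩
      show l⁻¹ * (l * k * l⁻¹) * l⁻¹⁻¹ = k
      group
    obtain ⟨z, hz, hzy⟩ := this y.2
    rwa [show y = z from Subtype.ext hzy.symm]
  haveI : IsSimpleGroup L := by
    refine ⟨fun X hX => ?_⟩
    by_contra hc
    push Not at hc
    obtain ⟨hne, hnt⟩ := hc
    obtain ⟨x, hxX, hxQ, hx1⟩ := elt3 X hX hne
    have hx1' : (x : K) ≠ 1 := fun e => hx1 (Subtype.ext e)
    refine hnt (htop X hX fun y hy => ?_)
    by_contra hyX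
    have hnotQ : ¬ (Q : Subgroup K) ≤ X.map L.subtype := fun h => by
      obtain ⟨z, hz, hzy⟩ := h hy
      exact hyX (by rwa [show y = z from Subtype.ext hzy.symm])
    -- the image of `X` under `r`
    let σ : L ≃* L := MulAut.conjNormal r
    let Y : Subgroup L := X.map σ.toMonoidHom
    have hY : Y.Normal := hX.map _ σ.surjective
    have hXY : X ⊓ Y = ⊥ := by
      by_contra hne'
      haveI := hY
      haveI := hX
      obtain ⟨z, ⟨hzX, ⟨z', hz', hzz⟩⟩, hzQ, hz1⟩ := elt3 (X ⊓ Y) inferInstance hne'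
      -- `z` and its preimage lie in `X` and in `Q`
      have hzz' : (z : K) = r * (z' : K) * r⁻¹ := by
        rw [← hzz]; exact MulAut.conjNormal_apply r z'
      have hz'Q : (z' : K) ∈ (Q : Subgroup K) := by
        obtain ⟨u, hu1, hu2⟩ := hu hzQ
        refine hmemQ.2 (back (u := u) ?_)
        rw [hu2, hzz']
        rfl
      have hz'1 : (z' : K) ≠ 1 := fun e => hz1 (Subtype.ext (by rw [hzz', e]; simp))
      exact hnotQ (irred _ hz'Q hz'1 ⟨z', hz', rfl⟩ ⟨z, hzX, by rw [← hzz']; rfl⟩)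
    have hYQ : ∀ w ∈ Y, (w : K) ∈ (Q : Subgroup K) := by
      intro w hw
      refine hcent _ hxQ hx1' _ ?_
      exact congrArg Subtype.val (Subgroup.commute_of_normal_of_disjoint X Y hX hY
        (disjoint_iff.2 hXY) x w hxX hw).symm.eq
    have hXQ : ∀ w ∈ X, (w : K) ∈ (Q : Subgroup K) := by
      intro w hw
      obtain ⟨u, hu1, hu2⟩ := hu (hYQ _ ⟨w, hw, rfl⟩)
      have hu2' : ι (inQ ⟨10⟩) * (((w : K) : cg ι va) : G) * (ι (inQ ⟨10⟩))⁻¹ = ι (inJ u) := by
        rw [hu2, MulEquiv.coe_toMonoidHom, MulAut.conjNormal_apply]; rfl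
      exact hmemQ.2 (back hu2'.symm)
    -- so `L` normalises the two lines of `Q`
    obtain ⟨l, hl, q', hq', hlq⟩ := hnotN
    have hsub : ∀ (A : Subgroup L), A.Normal → (∀ w ∈ A, (w : K) ∈ (Q : Subgroup K)) →
        ∀ w ∈ A.map L.subtype, l * w * l⁻¹ ∈ (Q : Subgroup K) := by
      rintro A hA hAQ _ ⟨w, hw, rfl⟩
      exact hAQ _ (hA.conj_mem w hw ⟨l, hl⟩)
    refine hlq (Subgroup.mem_comap.1 (irred ((Q : Subgroup K).comap (MulAut.conj l).toMonoidHom)
      hxQ hx1' ?_ ?_ hq'))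
    · exact hsub X hX hXQ _ ⟨x, hxX, rfl⟩
    · exact hsub Y hY hYQ _ ⟨σ x, ⟨x, hxX, rfl⟩, MulAut.conjNormal_apply r x⟩
  have hQmap : (QL : Subgroup L).map L.subtype = (Q : Subgroup K) := by
    rw [hQLe, Subgroup.map_subgroupOf_eq_of_le hQL]
  have hcfg : NineA6.Cfg (QL : Subgroup L) := by
    refine ⟨?_, fun a ha => Subtype.ext ?_, fun s hs hs1 => ?_, fun a ha => ?_⟩
    · rw [← Subgroup.card_map_of_injective (f := L.subtype) L.subtype_injective, hQmap, hQ9]
    · rw [hQLe, Subgroup.mem_subgroupOf] at ha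
      exact hQexp _ ha
    · rw [hQLe, Subgroup.mem_subgroupOf] at hs
      ext l
      rw [Subgroup.mem_centralizer_singleton_iff, hQLe, Subgroup.mem_subgroupOf]
      refine ⟨fun h => hcent _ hs (fun e => hs1 (Subtype.ext e)) _ (congrArg Subtype.val h),
        fun h => Subtype.ext (Subtype.ext (Subtype.ext ?_))⟩
      exact J_comm (hmemQ.1 h) (hmemQ.1 hs)
    · have ha3 : (a : K) ^ 3 = 1 := by
        have := pow_orderOf_eq_one a
        rw [ha] at this
        exact congrArg Subtype.val this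
      obtain ⟨l, hl, hlQ⟩ := into _ ha3
      exact ⟨⟨l, hl⟩, by rw [hQLe, Subgroup.mem_subgroupOf]; exact hlQ⟩
  have hcl : ∃ a b : L, orderOf a = 3 ∧ orderOf b = 3 ∧ ∀ g : L, g * a * g⁻¹ ≠ b := by
    obtain ⟨h1, h2, h3, n1, n2⟩ := two_cls
    have mk : ∀ {u : V}, piz u = 1 → u ≠ 1 →
        ∃ a : L, orderOf a = 3 ∧ (((a : K) : cg ι va) : G) = ι (inJ u) := by
      intro u hu' hu1
      refine ⟨⟨⟨_, hmk hu'⟩, hQL (hmemQ.2 (mem_J u))⟩, orderOf_eq_prime (Subtype.ext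
        (Subtype.ext (Subtype.ext ?_))) fun e => hu1 ?_, rfl⟩
      · show (ι (inJ u)) ^ 3 = 1
        rw [← map_pow, ← map_pow, (pow_three' u).trans (v_cube u), map_one, map_one]
      · have e' : ι (inJ u) = 1 := congrArg (fun w : L => (((w : K) : cg ι va) : G)) e
        exact SemidirectProduct.inl_injective ((C.inj (e'.trans (map_one ι).symm)).trans
          (map_one inJ).symm)
    obtain ⟨a, ha, hae⟩ := mk h1 n1
    obtain ⟨b, hb, hbe⟩ := mk h2 n2
    refine ⟨a, b, ha, hb, fun g e => h3 (C.isConj_inJ (isConj_iff.2 ⟨(((g : K) : cg ι va) : G), ?_⟩))⟩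
    rw [← hae, ← hbe, ← e]; rfl
  obtain ⟨e6'⟩ := NineA6.main QL rfl hcfg hcl
  -- the element of order four
  have hrL : r ∈ L := by
    obtain ⟨g, hg4, hg2, hgn⟩ := a6_quarter (QL.mapSurjective (f := e6'.toMonoidHom) e6'.surjective)
    set l : L := e6'.symm g
    have hl4 : l ^ 4 = 1 := e6'.injective (by rw [map_pow, e6'.apply_symm_apply, hg4, map_one])
    have hl2 : l ^ 2 ≠ 1 := fun e => hg2 (by rw [← e6'.apply_symm_apply g, ← map_pow, e, map_one])
    have hln : ∀ x ∈ (Q : Subgroup K), (l : K) * x * (l : K)⁻¹ ∈ (Q : Subgroup K) := by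
      intro x hx
      have hxL : (⟨x, hQL hx⟩ : L) ∈ (QL : Subgroup L) := by
        rw [hQLe, Subgroup.mem_subgroupOf]; exact hx
      obtain ⟨y, hy, hye⟩ := hgn (e6' ⟨x, hQL hx⟩) ⟨_, hxL, rfl⟩
      have hye' : y = l * ⟨x, hQL hx⟩ * l⁻¹ := e6'.injective (by
        rw [map_mul, map_mul, map_inv, e6'.apply_symm_apply]; exact hye)
      rw [hye', hQLe] at hy
      exact Subgroup.mem_subgroupOf.1 hy
    obtain ⟨m, hm⟩ := hnormQ (l : K) hln
    have hfix : actFn m.right va = va := (C.mem_cg_iff m va).1 (hm ▸ ((l : K) : cg ι va).2)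
    have hm4 : m ^ 4 = 1 := C.inj (by
      rw [map_pow, hm, map_one]
      exact congrArg (fun w : L => (((w : K) : cg ι va) : G)) hl4)
    have hm2 : m ^ 2 ≠ 1 := fun e => hl2 (Subtype.ext (Subtype.ext (Subtype.ext (by
      push_cast
      rw [← hm, ← map_pow, e, map_one]))))
    have hq2 : m.right * m.right ≠ 1 := fun e => hm2 (sq_right m.right m.left e hm4)
    have hsplit : ι (inJ m.left) * ι (inQ m.right) = ((((l : K)) : cg ι va) : G) := by
      rw [← map_mul, SemidirectProduct.inl_left_mul_inr_right, hm]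
    rcases fix_ten _ hfix hq2 with e | e
    · rw [e] at hsplit
      have hv : piz m.left = 1 := by
        refine (hf m.left (J_le_cg va (mem_J _))).1 ?_
        have h := congrArg f (show (⟨_, J_le_cg va (mem_J m.left)⟩ : cg ι va) * ⟨_, hr⟩ =
          ((l : K) : cg ι va) from Subtype.ext hsplit)
        rwa [map_mul, MonoidHom.mem_ker.1 hrK, mul_one, MonoidHom.mem_ker.1 (l : K).2] at h
      have : r = (⟨_, hmk hv⟩ : K)⁻¹ * (l : K) := by
        refine Subtype.ext (Subtype.ext ?_)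
        show ι (inQ ⟨10⟩) = (ι (inJ m.left))⁻¹ * (((l : K) : cg ι va) : G)
        rw [← hsplit, inv_mul_cancel_left]
      rw [this]
      exact mul_mem (inv_mem (hQL (hmemQ.2 (mem_J _)))) l.2
    · rw [show m.right = (⟨10⟩ : Rot)⁻¹ by rw [← e, inv_inv], map_inv, map_inv] at hsplit
      have hv : piz m.left = 1 := by
        refine (hf m.left (J_le_cg va (mem_J _))).1 ?_
        have h := congrArg f (show (⟨_, J_le_cg va (mem_J m.left)⟩ : cg ι va) * (⟨_, hr⟩)⁻¹ =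
          ((l : K) : cg ι va) from Subtype.ext hsplit)
        rwa [map_mul, map_inv, MonoidHom.mem_ker.1 hrK, inv_one, mul_one,
          MonoidHom.mem_ker.1 (l : K).2] at h
      have : r = (l : K)⁻¹ * (⟨_, hmk hv⟩ : K) := by
        refine Subtype.ext (Subtype.ext ?_)
        show ι (inQ ⟨10⟩) = (((l : K) : cg ι va) : G)⁻¹ * ι (inJ m.left)
        rw [← hsplit]; group
      rw [this]
      exact mul_mem (inv_mem l.2) (hQL (hmemQ.2 (mem_J _)))
  have hLK : L = ⊤ := by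
    refine top_unique fun k _ => ?_
    let Q' : Sylow 3 L := (MulAut.conjNormal k : MulAut L) • QL
    obtain ⟨l, hl⟩ := MulAction.exists_smul_eq L Q' QL
    have hn : ∀ x ∈ (Q : Subgroup K), ((l : K) * k) * x * ((l : K) * k)⁻¹ ∈ (Q : Subgroup K) := by
      intro x hx
      have h1 : (⟨x, hQL hx⟩ : L) ∈ (QL : Subgroup L) := by
        rw [hQLe, Subgroup.mem_subgroupOf]; exact hx
      have h2 : MulAut.conj l ((MulAut.conjNormal k : MulAut L) ⟨x, hQL hx⟩) ∈
          (QL : Subgroup L) := by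
        rw [← hl, Sylow.coe_subgroup_smul]
        exact Subgroup.smul_mem_pointwise_smul _ _ _
          (show _ ∈ (Q' : Subgroup L) from Subgroup.smul_mem_pointwise_smul _ _ _ h1)
      rw [hQLe, Subgroup.mem_subgroupOf] at h2
      simpa [MulAut.conjNormal_apply, mul_assoc] using h2
    obtain ⟨m, hm⟩ := hnormQ _ hn
    have hfix : actFn m.right va = va :=
      (C.mem_cg_iff m va).1 (hm ▸ (((l : K) * k : K) : cg ι va).2)
    have hlk : (l : K) * k ∈ L := by
      obtain ⟨j, hj⟩ : ∃ j : ℕ, m.right = (⟨10⟩ : Rot) ^ j := by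
        rcases fix_pow _ hfix with e | e | e | e
        · exact ⟨0, by rw [e, pow_zero]⟩
        · exact ⟨1, by rw [e, pow_one]⟩
        · exact ⟨2, by rw [e, pow_two]⟩
        · exact ⟨3, by rw [e, pow_three']⟩
      have hq : ((((l : K) * k) * (r ^ j)⁻¹ : K) : cg ι va).1 ∈ J ι := by
        push_cast
        rw [show (((r : K) : cg ι va) : G) = ι (inQ ⟨10⟩) from rfl]
        rw [show (((l : K) : cg ι va) : G) * ((k : cg ι va) : G) = ι m from hm.symm, ← map_pow,
          ← map_inv, ← map_mul]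
        refine C.mem_J_iff.2 ?_
        rw [SemidirectProduct.mul_right, SemidirectProduct.inv_right, ← map_pow,
          SemidirectProduct.right_inr, hj, mul_inv_cancel]
      have := mul_mem (hQL (hmemQ.2 hq)) (pow_mem hrL j)
      rwa [inv_mul_cancel_right] at this
    have := mul_mem (inv_mem l.2) hlk
    rwa [inv_mul_cancel_left] at this
  refine ⟨K.map (cg ι va).subtype, Subgroup.map_subtype_le _, fun u => ⟨?_, fun h =>
    ⟨_, hmk h, rfl⟩⟩, ⟨_, hrK, rfl⟩, ?_, ?_, ?_⟩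
  · rintro ⟨x, hx, hxe⟩
    refine (hf u (J_le_cg va (mem_J u))).1 ?_
    rw [show (⟨ι (inJ u), _⟩ : cg ι va) = x from Subtype.ext hxe.symm]
    exact hx
  · rintro g hg _ ⟨x, hx, rfl⟩
    exact ⟨⟨g, hg⟩ * x * ⟨g, hg⟩⁻¹, (MonoidHom.normal_ker f).conj_mem _ hx _, rfl⟩
  · intro g hg
    have hva : f ⟨ι (inJ va), J_le_cg va (mem_J va)⟩ ≠ 1 := fun h =>
      piz_va ((hf va _).1 h)
    obtain ⟨i, hi⟩ : ∃ i : ℕ, f ⟨g, hg⟩ * f ⟨ι (inJ va), J_le_cg va (mem_J va)⟩ ^ i = 1 := by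
      obtain ⟨i, hi⟩ := m3_gen _ hva (f ⟨g, hg⟩)
      exact ⟨i.val, hi⟩
    exact ⟨i, ⟨⟨g, hg⟩ * ⟨ι (inJ va), J_le_cg va (mem_J va)⟩ ^ i, by
      rw [SetLike.mem_coe, hKdef, MonoidHom.mem_ker, map_mul, map_pow, hi], by simp⟩⟩
  · exact ⟨((Subgroup.equivMapOfInjective K (cg ι va).subtype (Subgroup.subtype_injective _)).symm.trans
      (Subgroup.topEquiv.symm.trans (MulEquiv.subgroupCongr hLK.symm))).trans e6'⟩

end Cfg

end Cfsg.Agent.A9Three
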