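import Cfsg.Agent.Lib.A9Three.Split
import Cfsg.Agent.Lib.SmithTyrer.Main

/-!
S3339: the centraliser of the second class of translations lies in the normaliser of `J`.
-/

set_option autoImplicit false
set_option maxRecDepth 40000

namespace Cfsg.Agent.A9Three

open Cfsg.Agent.ThreeTI.Mono
open Cfsg.Agent.ThreeTI.Cube (V)
open Cfsg.Agent.PSeries (U U_one step_U)

universe u

/-- The translation of the second class. -/
def vb : V := vec 1 1 0

/-- The sum of the first two coordinates. -/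
def pib : V →* Multiplicative (ZMod 3) where
  toFun u := Multiplicative.ofAdd (u.toAdd.1 + u.toAdd.2.1)
  map_one' := by decide
  map_mul' := by decide +kernel

theorem noThree_b : NoThree vb := by unfold NoThree; decide +kernel

theorem pib_inv : ∀ q : Rot, actFn q vb = vb → ∀ u : V, pib (actFn q u) = pib u := by
  decide +kernel

theorem tau_inv : ∀ u : V, pib u = 1 → actFn ⟨11⟩ u = u⁻¹ := by decide +kernel

theorem tau_fix : actFn ⟨11⟩ vb = vb := by decide +kernel

theorem tau_two : (⟨11⟩ : Rot) * ⟨11⟩ = 1 := by decide +kernel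

theorem pib_vb : pib vb ≠ 1 := by decide

theorem b_norm : ∀ q : Rot, actFn q vb = vb →
    (∀ u : V, pib u = 1 → actFn q u = u) ∨ ∀ u : V, pib u = 1 → actFn q u = u⁻¹ := by
  decide +kernel

theorem b_split : ∀ u : V, ∃ w : V, pib w = 1 ∧ (u = w ∨ u = w * vb ∨ u = w * vb * vb) := by
  decide +kernel

theorem b_card : 9 ≤ (Finset.univ.filter fun u : V => pib u = 1).card := by decide +kernel

theorem vb_cube : vb ^ 3 = 1 := by decide +kernel

theorem sq_m3 : ∀ z : Multiplicative (ZMod 3), z * z = 1 → z = 1 := by decide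

theorem cl_vb : orderOf (inJ vb) = 3 := by
  haveI := Fact.mk Nat.prime_three
  exact orderOf_eq_prime (by rw [← map_pow, vb_cube, map_one])
    (by decide +kernel)

/-- A Sylow subgroup of a group of `p`-length one with trivial `p'`-core is normal. -/
theorem sylow_normal_of_pLength_one {K : Type u} [Group K] [Finite K] {p : ℕ} [Fact p.Prime]
    (h : Cfsg.PLengthLE p 1 K) (hcore : Cfsg.pPrimeCore p K = ⊥) (P : Sylow p K) :
    (P : Subgroup K).Normal := by
  have h3 : U p K 3 = ⊤ := h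
  have hd : ((U p K 2).index).Coprime p := by
    have := (step_U (p := p) (G := K) 2).1 ⟨1, rfl⟩
    rwa [h3, Subgroup.relIndex_top_right] at this
  obtain ⟨m, hm⟩ := (step_U (p := p) (G := K) 1).2 (by decide)
  rw [U_one, hcore, Subgroup.relIndex_bot_left] at hm
  have hU : IsPGroup p (U p K 2) := IsPGroup.of_card hm
  have hdvd : ¬ p ∣ (U p K 2).index := fun hc =>
    ((Fact.out : p.Prime).coprime_iff_not_dvd.1 hd.symm) hc
  let Q : Sylow p K := hU.toSylow hdvd
  have hQ : (Q : Subgroup K).Normal := show (U p K 2).Normal from inferInstance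
  obtain ⟨g, hg⟩ := MulAction.exists_smul_eq K Q P
  rw [← hg, Sylow.smul_eq_of_normal]
  exact hQ

namespace Cfg

variable {G : Type u} [Group G] {ι : Mo →* G} (C : Cfg ι)
include C

/-- The centraliser of `b`. -/
theorem cg_b [Finite G] : cg ι vb ≤ ι.range := by
  classical
  haveI : Fact (Nat.Prime 3) := ⟨Nat.prime_three⟩
  haveI := Fintype.ofFinite G
  obtain ⟨f, hf⟩ := C.split noThree_b pib pib_inv
  have hcore : Cfsg.pPrimeCore 3 f.ker = ⊥ := by
    have h := Cfsg.Agent.PBasic.map_pPrimeCore_le_of_normal (p := 3) f.ker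
    rw [show Cfsg.pPrimeCore 3 (cg ι vb) = ⊥ from C.cores _ cl_vb, le_bot_iff,
      Subgroup.map_eq_bot_iff_of_injective _ f.ker.subtype_injective] at h
    exact h
  obtain ⟨P, hP⟩ := C.exists_sylow_cg noThree_b
  obtain ⟨Q, hQ⟩ := Cfsg.Agent.PBasic.exists_sylow_subgroupOf P f.ker
  have hmemQ : ∀ {x : f.ker}, x ∈ (Q : Subgroup f.ker) ↔ ((x : cg ι vb) : G) ∈ J ι := by
    intro x
    rw [hQ, Subgroup.mem_subgroupOf, hP, Subgroup.mem_subgroupOf]
  have hu : ∀ {x : f.ker}, x ∈ (Q : Subgroup f.ker) →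
      ∃ u : V, pib u = 1 ∧ ι (inJ u) = ((x : cg ι vb) : G) := by
    intro x hx
    obtain ⟨u, hu⟩ := hmemQ.1 hx
    refine ⟨u, (hf u (J_le_cg vb (mem_J u))).1 ?_, hu⟩
    rw [show (⟨ι (inJ u), _⟩ : cg ι vb) = x from Subtype.ext hu]
    exact x.2
  have hmk : ∀ {u : V}, pib u = 1 → (⟨ι (inJ u), J_le_cg vb (mem_J u)⟩ : cg ι vb) ∈ f.ker :=
    fun h => (hf _ _).2 h
  have hτ : ι (inQ ⟨11⟩) ∈ cg ι vb := (C.mem_cg_iff _ _).2 tau_fix
  have hτK : (⟨_, hτ⟩ : cg ι vb) ∈ f.ker := by
    rw [MonoidHom.mem_ker]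
    refine sq_m3 _ ?_
    rw [← map_mul, show (⟨_, hτ⟩ : cg ι vb) * ⟨_, hτ⟩ = 1 from Subtype.ext (by
      show ι (inQ ⟨11⟩) * ι (inQ ⟨11⟩) = 1
      rw [← map_mul, ← map_mul, tau_two, map_one, map_one]), map_one]
  have hI : SmithTyrer.Inverted Q ⟨⟨_, hτ⟩, hτK⟩ := by
    have hinv : ∀ x ∈ (Q : Subgroup f.ker),
        (⟨⟨_, hτ⟩, hτK⟩ : f.ker) * x * (⟨⟨_, hτ⟩, hτK⟩ : f.ker)⁻¹ = x⁻¹ := by
      intro x hx
      obtain ⟨u, h1, h2⟩ := hu hx
      refine Subtype.ext (Subtype.ext ?_)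
      show ι (inQ ⟨11⟩) * ((x : cg ι vb) : G) * (ι (inQ ⟨11⟩))⁻¹ = ((x : cg ι vb) : G)⁻¹
      rw [← h2, ← map_mul, ← map_inv, ← map_mul, conj_inJ, SemidirectProduct.right_inr,
        tau_inv u h1, map_inv, map_inv]
    refine ⟨by norm_num, ⟨⟨fun x y => ?_⟩⟩, ?_, hinv, fun g hg => ?_⟩
    · exact Subtype.ext (Subtype.ext (Subtype.ext (J_comm (hmemQ.1 x.2) (hmemQ.1 y.2))))
    · refine Subgroup.mem_normalizer_iff.2 fun x => ⟨fun hx => ?_, fun hx => ?_⟩
      · rw [hinv x hx]; exact inv_mem hx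
      · set τ : f.ker := ⟨⟨_, hτ⟩, hτK⟩
        have ht : τ * τ = 1 := Subtype.ext (Subtype.ext (by
          show ι (inQ ⟨11⟩) * ι (inQ ⟨11⟩) = 1
          rw [← map_mul, ← map_mul, tau_two, map_one, map_one]))
        have h := hinv _ hx
        rw [show τ * (τ * x * τ⁻¹) * τ⁻¹ = τ * τ * x * (τ * τ)⁻¹ by group, ht, one_mul, inv_one,
          mul_one] at h
        rw [h]
        exact inv_mem hx
    · have hgJ : ((g : cg ι vb) : G) ∈ Subgroup.normalizer (J ι : Set G) := by
        have one : ∀ k : f.ker, k ∈ Subgroup.normalizer ((Q : Subgroup f.ker) : Set f.ker) →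
            ∀ y ∈ J ι, ((k : cg ι vb) : G) * y * ((k : cg ι vb) : G)⁻¹ ∈ J ι := by
          intro k hk y hy
          obtain ⟨u, rfl⟩ := hy
          obtain ⟨w, hw, hc⟩ := b_split u
          have hcb := Subgroup.mem_centralizer_singleton_iff.1 (k : cg ι vb).2
          have hw' : ((k : cg ι vb) : G) * ι (inJ w) * ((k : cg ι vb) : G)⁻¹ ∈ J ι :=
            hmemQ.1 ((Subgroup.mem_normalizer_iff.1 hk ⟨_, hmk hw⟩).1 (hmemQ.2 (mem_J w)))
          have hvb' : ((k : cg ι vb) : G) * ι (inJ vb) * ((k : cg ι vb) : G)⁻¹ ∈ J ι := by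
            rw [hcb, mul_inv_cancel_right]; exact mem_J vb
          show _ * ι (inJ u) * _ ∈ _
          rcases hc with e | e | e <;> rw [e]
          · exact hw'
          · rw [map_mul, map_mul, ← conj_mul]
            exact mul_mem hw' hvb'
          · rw [map_mul, map_mul, map_mul, map_mul, ← conj_mul, ← conj_mul]
            exact mul_mem (mul_mem hw' hvb') hvb'
        refine Subgroup.mem_normalizer_iff.2 fun y => ⟨one g hg y, fun hy => ?_⟩
        have := one g⁻¹ (inv_mem hg) _ hy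
        push_cast at this
        rwa [show ((g : cg ι vb) : G)⁻¹ * (((g : cg ι vb) : G) * y * ((g : cg ι vb) : G)⁻¹) *
          ((g : cg ι vb) : G)⁻¹⁻¹ = y by group] at this
      obtain ⟨m, hm⟩ := C.norm hgJ
      have hfix : actFn m.right vb = vb := (C.mem_cg_iff m vb).1 (hm ▸ (g : cg ι vb).2)
      have act : ∀ x ∈ (Q : Subgroup f.ker), ∃ u : V, pib u = 1 ∧
          ((x : cg ι vb) : G) = ι (inJ u) ∧
          ((g * x * g⁻¹ : f.ker) : cg ι vb).1 = ι (inJ (actFn m.right u)) := by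
        intro x hx
        obtain ⟨u, h1, h2⟩ := hu hx
        refine ⟨u, h1, h2.symm, ?_⟩
        show ((g : cg ι vb) : G) * ((x : cg ι vb) : G) * ((g : cg ι vb) : G)⁻¹ = _
        rw [← h2, ← hm, ← map_mul, ← map_inv, ← map_mul, conj_inJ]
      rcases b_norm _ hfix with h | h
      · refine Or.inl fun x hx => ?_
        obtain ⟨u, h1, h2, h3⟩ := act x hx
        rw [h u h1, ← h2] at h3
        exact Subtype.ext (Subtype.ext h3)
      · refine Or.inr fun x hx => ?_
        obtain ⟨u, h1, h2, h3⟩ := act x hx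
        rw [h u h1, map_inv, map_inv, ← h2] at h3
        exact Subtype.ext (Subtype.ext h3)
  have hnc : ¬ IsCyclic (Q : Subgroup f.ker) := by
    intro hcyc
    obtain ⟨z, hz⟩ := IsCyclic.exists_generator (α := (Q : Subgroup f.ker))
    have hz3 : z ^ 3 = 1 := by
      obtain ⟨u, -, h2⟩ := hu z.2
      refine Subtype.ext (Subtype.ext (Subtype.ext ?_))
      show (((z : f.ker) : cg ι vb) : G) ^ 3 = 1
      rw [← h2, ← map_pow, ← map_pow, show u ^ 3 = 1 from (pow_three' u).trans (v_cube u), map_one,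
        map_one]
    have h1 : Nat.card (Q : Subgroup f.ker) ≤ 3 := by
      rw [← orderOf_eq_card_of_forall_mem_zpowers hz]
      exact orderOf_le_of_pow_eq_one (by norm_num) hz3
    have h2 : Nat.card {u : V // pib u = 1} ≤ Nat.card (Q : Subgroup f.ker) := by
      refine Nat.card_le_card_of_injective
        (fun u => ⟨⟨_, hmk u.2⟩, hmemQ.2 (mem_J u.1)⟩) fun u u' e => Subtype.ext ?_
      exact SemidirectProduct.inl_injective (C.inj
        (congrArg (fun q : (Q : Subgroup f.ker) => (((q : f.ker) : cg ι vb) : G)) e))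
    rw [Nat.card_eq_fintype_card, Fintype.card_subtype] at h2
    have := b_card
    omega
  haveI : (Q : Subgroup f.ker).Normal :=
    sylow_normal_of_pLength_one (SmithTyrer.pLength_one hI hnc hcore) hcore Q
  haveI : (Q : Subgroup f.ker).Characteristic := Q.characteristic_of_normal inferInstance
  haveI hQn : ((Q : Subgroup f.ker).map f.ker.subtype).Normal := inferInstance
  have one : ∀ k : cg ι vb, ∀ y ∈ J ι, (k : G) * y * (k : G)⁻¹ ∈ J ι := by
    intro k y hy
    obtain ⟨u, rfl⟩ := hy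
    obtain ⟨w, hw, hc⟩ := b_split u
    have hw' : (k : G) * ι (inJ w) * (k : G)⁻¹ ∈ J ι := by
      obtain ⟨x, hx, hxe⟩ :=
        hQn.conj_mem _ ⟨⟨_, hmk hw⟩, hmemQ.2 (mem_J w), rfl⟩ k
      have := hmemQ.1 hx
      rwa [show (x : cg ι vb) = k * ⟨_, J_le_cg vb (mem_J w)⟩ * k⁻¹ from hxe] at this
    have hvb' : (k : G) * ι (inJ vb) * (k : G)⁻¹ ∈ J ι := by
      rw [Subgroup.mem_centralizer_singleton_iff.1 k.2, mul_inv_cancel_right]; exact mem_J vb
    show _ * ι (inJ u) * _ ∈ _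
    rcases hc with e | e | e <;> rw [e]
    · exact hw'
    · rw [map_mul, map_mul, ← conj_mul]
      exact mul_mem hw' hvb'
    · rw [map_mul, map_mul, map_mul, map_mul, ← conj_mul, ← conj_mul]
      exact mul_mem (mul_mem hw' hvb') hvb'
  refine fun g hg => C.norm (Subgroup.mem_normalizer_iff.2 fun y => ⟨one ⟨g, hg⟩ y, fun hy => ?_⟩)
  have := one ⟨g, hg⟩⁻¹ _ hy
  push_cast at this
  rwa [show g⁻¹ * (g * y * g⁻¹) * g⁻¹⁻¹ = y by group] at this

end Cfg

end Cfsg.Agent.A9Three
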