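import Cfsg.Agent.Lib.A9Three.CentB

/-!
S3339: the centraliser of the third class of translations is a Sylow subgroup.
-/

set_option autoImplicit false
set_option maxRecDepth 40000

namespace Cfsg.Agent.A9Three

open Cfsg.Agent.ThreeTI.Mono
open Cfsg.Agent.ThreeTI.Cube (V)

universe u

/-- The translation of the third class. -/
def vc : V := vec 1 1 1

/-- A central translation modulo `c`. -/
def vd : V := vec 0 1 2

theorem vc_cube : vc ^ 3 = 1 := by decide +kernel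

theorem cl_vc : orderOf (inJ vc) = 3 := by
  have h : inJ vc ^ 3 = 1 := by rw [← map_pow, vc_cube, map_one]
  have h1 : inJ vc ≠ 1 := by decide +kernel
  haveI := Fact.mk Nat.prime_three
  exact orderOf_eq_prime h h1

set_option synthInstance.maxSize 2000 in
theorem b_shift : ∀ u : V, (∀ i : Fin 3, u ≠ vc ^ i.val) →
    ∃ i : Fin 3, cl (inJ (u * vc ^ i.val)) = cl (inJ vb) := by decide +kernel

set_option synthInstance.maxSize 2000 in
theorem fix_two : ∀ u : V, (∀ i : Fin 3, u ≠ vc ^ i.val) → ∀ q : Rot, actFn q vc = vc →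
    actFn q u = u → q = 1 := by decide +kernel

set_option synthInstance.maxSize 2000 in
theorem d_moved : ∀ q : Rot, actFn q vc = vc → q ≠ 1 →
    (∃ i : Fin 3, actFn q vd = vd * vc ^ i.val) ∧ actFn q vd ≠ vd := by decide +kernel

set_option synthInstance.maxSize 2000 in
theorem moved_mod : ∀ q : Rot, actFn q vc = vc → ∀ u : V, (∀ i : Fin 3, u ≠ vc ^ i.val) →
    ∀ i : Fin 3, actFn q u = u * vc ^ i.val → q = 1 ∨
      ∃ j : Fin 3, u = vd * vc ^ j.val ∨ u = vd * vd * vc ^ j.val := by decide +kernel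

set_option synthInstance.maxSize 2000 in
theorem d_not_inv : ∀ q : Rot, actFn q vc = vc → ∀ i : Fin 3,
    actFn q vd ≠ vd * vd * vc ^ i.val := by decide +kernel

set_option synthInstance.maxSize 2000 in
theorem shear : ∀ q : Rot, actFn q vc = vc → q ≠ 1 → ∀ u : V,
    (∃ j : Fin 3, u = vd * vc ^ j.val ∨ u = vd * vd * vc ^ j.val) → ∀ v : V,
      ∃ a : V, ∃ i : Fin 3, inJ a * (⟨v, q⟩ : Mo) * (inJ a)⁻¹ =
        ⟨v, q⟩ * inJ (u * vc ^ i.val) := by decide +kernel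

theorem vd_not_c : ∀ i : Fin 3, vd ≠ vc ^ i.val := by decide +kernel

theorem c_inv : ∀ i : Fin 3, ∃ i1 : Fin 3, (vc ^ i.val)⁻¹ = vc ^ i1.val := by decide +kernel

theorem act_one : ∀ v : V, actFn 1 v = v := by decide +kernel

theorem vd_cube : vd * vd * vd = 1 := by decide +kernel

/-- The stabiliser of `c` in the model. -/
def TT : Subgroup Mo where
  carrier := {m | actFn m.right vc = vc}
  one_mem' := by decide +kernel
  mul_mem' {a b} ha hb := by
    show actFn (a * b).right vc = vc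
    rw [SemidirectProduct.mul_right, actFn_comp, (hb : _ = _), (ha : _ = _)]
  inv_mem' {a} ha := by
    show actFn a⁻¹.right vc = vc
    conv_lhs => rw [← (ha : actFn a.right vc = vc)]
    rw [SemidirectProduct.inv_right, actFn_inv]

theorem mem_TT {m : Mo} : m ∈ TT ↔ actFn m.right vc = vc := Iff.rfl

/-- The index of a rotation fixing `c`. -/
def om (q : Rot) : ZMod 3 := if q.i = 15 then 1 else if q.i = 19 then 2 else 0

/-- The abelianisation of the stabiliser of `c`. -/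
def chi (m : Mo) : Multiplicative (ZMod 3 × ZMod 3) :=
  Multiplicative.ofAdd (m.left.toAdd.1 + m.left.toAdd.2.1 + m.left.toAdd.2.2, om m.right)

set_option synthInstance.maxSize 2000 in
theorem chi_mul_aux : ∀ q r : Rot, actFn q vc = vc → actFn r vc = vc →
    om (q * r) = om q + om r ∧ ∀ v : V, (actFn q v).toAdd.1 + (actFn q v).toAdd.2.1 +
      (actFn q v).toAdd.2.2 = v.toAdd.1 + v.toAdd.2.1 + v.toAdd.2.2 := by decide +kernel

theorem chi_mul {a b : Mo} (ha : a ∈ TT) (hb : b ∈ TT) : chi (a * b) = chi a * chi b := by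
  obtain ⟨h1, h2⟩ := chi_mul_aux a.right b.right ha hb
  simp only [chi, SemidirectProduct.mul_right, SemidirectProduct.mul_left, h1]
  rw [← ofAdd_add, Prod.mk_add_mk]
  refine congrArg (fun x => Multiplicative.ofAdd (x, om a.right + om b.right)) ?_
  have h3 := h2 b.left
  show (a.left * actFn a.right b.left).toAdd.1 + _ + _ = _
  simp only [toAdd_mul, Prod.fst_add, Prod.snd_add]
  rw [show (phi a.right) b.left = actFn a.right b.left from rfl]
  linear_combination h3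

/-- The abelianisation as a homomorphism. -/
def chiT : TT →* Multiplicative (ZMod 3 × ZMod 3) :=
  MonoidHom.mk' (fun m => chi m) fun a b => chi_mul a.2 b.2

theorem chi_one : ∀ q : Rot, actFn q vc = vc → om q = 0 → q = 1 := by decide +kernel

theorem om_one : om 1 = 0 := by decide +kernel

theorem right_one_of_chi {m : Mo} (hm : m ∈ TT) (h : chi m = 1) : m.right = 1 :=
  chi_one _ hm (congrArg (fun z : Multiplicative (ZMod 3 × ZMod 3) => z.toAdd.2) h)

theorem c_mem_TT : inJ vc ∈ TT := mem_TT.2 (act_one _)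

theorem d_mem_TT : inJ vd ∈ TT := mem_TT.2 (act_one _)

theorem inJ_mem_TT (v : V) : inJ v ∈ TT := mem_TT.2 (act_one _)

theorem chi_c : chi (inJ vc) = 1 := by decide +kernel

theorem chi_d : chi (inJ vd) = 1 := by decide +kernel

theorem m3x3_cube : ∀ z : Multiplicative (ZMod 3 × ZMod 3), z * z * z = 1 := by decide

theorem pow_eq_one_iff_m33 {n : ℕ} (z : Multiplicative (ZMod 3 × ZMod 3)) (hn : ¬ 3 ∣ n) :
    z ^ n = 1 ↔ z = 1 := by
  rw [pow_eq_pow_mod n ((pow_three' z).trans (m3x3_cube z))]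
  obtain e | e : n % 3 = 1 ∨ n % 3 = 2 := by omega
  all_goals rw [e]
  · rw [pow_one]
  · exact (by decide : ∀ z : Multiplicative (ZMod 3 × ZMod 3), z ^ 2 = 1 ↔ z = 1) z

set_option synthInstance.maxSize 1000 in
theorem card_TT : (Finset.univ.filter fun m : Mo => actFn m.right vc = vc).card = 81 := by
  decide +kernel

/-- The square of a product of two transvections inverts. -/
theorem shear_twice {G : Type u} [Group G] {D Y U W z : G} {i j l : ℕ} (hzD : Commute z D)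
    (hzY : Commute z Y) (hzU : Commute z U) (hzW : Commute z W) (hUD : U * D * U⁻¹ = D)
    (hUY : U * Y * U⁻¹ = Y * D * z ^ i) (hWD : W * D * W⁻¹ = D * Y * z ^ j)
    (hWY : W * Y * W⁻¹ = Y) (hYD : Y * D = D * Y * z ^ l) (hY : Y * Y * Y = 1) :
    ∃ N : ℕ, (W * U * W * U) * D * (W * U * W * U)⁻¹ = D * D * z ^ N := by
  have cU : ∀ k : ℕ, U * z ^ k * U⁻¹ = z ^ k := fun k => by
    rw [← (hzU.pow_left k).eq, mul_inv_cancel_right]
  have cW : ∀ k : ℕ, W * z ^ k * W⁻¹ = z ^ k := fun k => by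
    rw [← (hzW.pow_left k).eq, mul_inv_cancel_right]
  have eU : U * (D * Y * z ^ j) * U⁻¹ = D * (Y * D * z ^ i) * z ^ j := by
    calc U * (D * Y * z ^ j) * U⁻¹
        = (U * D * U⁻¹) * (U * Y * U⁻¹) * (U * z ^ j * U⁻¹) := by group
      _ = _ := by rw [hUD, hUY, cU]
  have eW : W * (D * (Y * D * z ^ i) * z ^ j) * W⁻¹ =
      D * Y * z ^ j * (Y * (D * Y * z ^ j) * z ^ i) * z ^ j := by
    calc W * (D * (Y * D * z ^ i) * z ^ j) * W⁻¹
        = (W * D * W⁻¹) * ((W * Y * W⁻¹) * (W * D * W⁻¹) * (W * z ^ i * W⁻¹)) *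
          (W * z ^ j * W⁻¹) := by group
      _ = _ := by rw [hWD, hWY, cW, cW]
  have e : (W * U * W * U) * D * (W * U * W * U)⁻¹ =
      D * Y * z ^ j * (Y * (D * Y * z ^ j) * z ^ i) * z ^ j := by
    rw [← eW, ← eU, ← hWD]
    conv_rhs => rw [← hUD]
    group
  have sD : ∀ (k : ℕ) (x : G), z ^ k * (D * x) = D * (z ^ k * x) := fun k x => by
    rw [← mul_assoc, (hzD.pow_left k).eq, mul_assoc]
  have sY : ∀ (k : ℕ) (x : G), z ^ k * (Y * x) = Y * (z ^ k * x) := fun k x => by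
    rw [← mul_assoc, (hzY.pow_left k).eq, mul_assoc]
  have sYD : ∀ x : G, Y * (D * x) = D * (Y * (z ^ l * x)) := fun x => by
    rw [← mul_assoc, hYD, mul_assoc, mul_assoc]
  have sY3 : ∀ x : G, Y * (Y * (Y * x)) = x := fun x => by
    rw [← mul_assoc, ← mul_assoc, hY, one_mul]
  simp only [mul_assoc, sD, sY, sYD, sY3, ← pow_add] at e
  exact ⟨_, by rw [mul_assoc]; simpa only [mul_assoc] using e⟩

namespace Cfg

variable {G : Type u} [Group G] {ι : Mo →* G} (C : Cfg ι)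
include C

theorem cg_of_cl_b [Finite G] {u : V} (h : cl (inJ u) = cl (inJ vb)) : cg ι u ≤ ι.range := by
  obtain ⟨n, hn⟩ := isConj_iff.1 (isConj_of_cl h.symm)
  intro g hg
  have : (ι n)⁻¹ * g * ι n ∈ cg ι vb := by
    refine Subgroup.mem_centralizer_singleton_iff.2 ?_
    have e := Subgroup.mem_centralizer_singleton_iff.1 hg
    rw [← hn, map_mul, map_mul, map_inv] at e
    calc (ι n)⁻¹ * g * ι n * ι (inJ vb)
        = (ι n)⁻¹ * (g * (ι n * ι (inJ vb) * (ι n)⁻¹)) * ι n := by group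
      _ = _ := by rw [e]; group
  obtain ⟨k, hk⟩ := C.cg_b this
  exact ⟨n * k * n⁻¹, by rw [map_mul, map_mul, map_inv, hk]; group⟩

theorem inter_eq_J [Finite G] {u : V} (hu : ∀ i : Fin 3, u ≠ vc ^ i.val) {g : G}
    (hg : g ∈ cg ι vc) (hgu : g ∈ cg ι u) : g ∈ J ι := by
  obtain ⟨i, hi⟩ := b_shift u hu
  have h : g ∈ cg ι (u * vc ^ i.val) := by
    refine Subgroup.mem_centralizer_singleton_iff.2 ?_
    rw [map_mul, map_mul]
    refine Commute.mul_right (Subgroup.mem_centralizer_singleton_iff.1 hgu) ?_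
    rw [map_pow, map_pow]
    exact Commute.pow_right (Subgroup.mem_centralizer_singleton_iff.1 hg) _
  obtain ⟨m, rfl⟩ := C.cg_of_cl_b hi h
  exact C.mem_J_iff.2 (fix_two u hu _ ((C.mem_cg_iff _ _).1 hg) ((C.mem_cg_iff _ _).1 hgu))

omit C in
theorem z_comm {g : G} (hg : g ∈ cg ι vc) (i : ℕ) :
    Commute g (ι (inJ (vc ^ i))) := by
  rw [map_pow, map_pow]
  exact Commute.pow_right (Subgroup.mem_centralizer_singleton_iff.1 hg) _

/-- An element of `cg c` conjugating a translation into `T` lies in `T`. -/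
theorem strong [Finite G] {g : G} (hg : g ∈ cg ι vc) {u : V} (hu : ∀ i : Fin 3, u ≠ vc ^ i.val)
    {n : Mo} (hn : n ∈ TT) (he : g * ι (inJ u) * g⁻¹ = ι n) : g ∈ ι.range := by
  by_cases hr : n.right = 1
  · obtain ⟨m, hm, hmc⟩ := C.fusion' (mem_J u) (he ▸ C.mem_J_iff.2 hr) (mem_J vc)
      (Subgroup.mem_centralizer_singleton_iff.1 hg)
    have h1 : (ι m)⁻¹ * g ∈ cg ι vc :=
      mul_mem (inv_mem (Subgroup.mem_centralizer_singleton_iff.2 hmc)) hg
    have h2 : (ι m)⁻¹ * g ∈ cg ι u := by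
      refine Subgroup.mem_centralizer_singleton_iff.2 ?_
      calc (ι m)⁻¹ * g * ι (inJ u) = (ι m)⁻¹ * (g * ι (inJ u) * g⁻¹) * g := by group
        _ = _ := by rw [← hm]; group
    obtain ⟨v, hv⟩ := C.inter_eq_J hu h1 h2
    exact ⟨m * inJ v, by
      rw [map_mul]
      show ι m * (ι.comp inJ) v = g
      rw [hv]; group⟩
  exfalso
  obtain ⟨⟨i0, hi0⟩, hne⟩ := d_moved n.right hn hr
  have hY : ι n ∈ cg ι vc := (C.mem_cg_iff n vc).2 hn
  have hD : ι (inJ vd) ∈ cg ι vc := J_le_cg vc (mem_J vd)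
  have hzY : ∀ i : ℕ, Commute (ι n) (ι (inJ (vc ^ i))) := z_comm hY
  have hYD : ι n * ι (inJ vd) = ι (inJ vd) * ι n * ι (inJ (vc ^ i0.val)) := by
    rw [mul_assoc, hzY, ← map_mul, ← map_mul, ← map_mul, ← mul_assoc, ← map_mul inJ, ← hi0,
      ← conj_inJ, inv_mul_cancel_right]
  obtain ⟨i1, hi1⟩ := c_inv i0
  have hDY : ι (inJ vd) * ι n * (ι (inJ vd))⁻¹ = ι n * ι (inJ (vc ^ i1.val)) := by
    have e : ι (inJ (vc ^ i1.val)) = (ι (inJ (vc ^ i0.val)))⁻¹ := by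
      rw [← hi1, map_inv, map_inv]
    rw [e, mul_inv_eq_iff_eq_mul]
    calc ι (inJ vd) * ι n
        = ι (inJ vd) * ι n * ι (inJ (vc ^ i0.val)) * (ι (inJ (vc ^ i0.val)))⁻¹ := by group
      _ = ι n * ι (inJ vd) * (ι (inJ (vc ^ i0.val)))⁻¹ := by rw [hYD]
      _ = _ := by
          rw [mul_assoc, mul_assoc, ((z_comm hD i0.val).inv_right).eq]
  -- the translation `d` normalises the conjugate of `J`
  set w0 : G := g⁻¹ * ι (inJ vd) * g with hw0
  have hw0c : w0 ∈ cg ι vc := mul_mem (mul_mem (inv_mem hg) hD) hg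
  have one : ∀ y ∈ J ι, w0 * y * w0⁻¹ ∈ J ι := by
    intro y hy
    have hyc : y ∈ cg ι vc := J_le_cg vc hy
    refine C.inter_eq_J hu (mul_mem (mul_mem hw0c hyc) (inv_mem hw0c)) ?_
    refine Subgroup.mem_centralizer_singleton_iff.2 ?_
    have hk : Commute (g * y * g⁻¹) (ι n) := he ▸ (Commute.map (show Commute y (ι (inJ u)) from
      J_comm hy (mem_J u)) (MulAut.conj g).toMonoidHom)
    have hk' : Commute (g * y * g⁻¹) (ι (inJ (vc ^ i1.val))) :=
      z_comm (mul_mem (mul_mem hg hyc) (inv_mem hg)) _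
    have h2 : Commute (ι (inJ vd) * (g * y * g⁻¹) * (ι (inJ vd))⁻¹)
        (ι n * ι (inJ (vc ^ i1.val))) :=
      hDY ▸ (Commute.map hk (MulAut.conj (ι (inJ vd))).toMonoidHom)
    have h3 : Commute (ι (inJ vd) * (g * y * g⁻¹) * (ι (inJ vd))⁻¹)
        (ι (inJ (vc ^ i1.val))) :=
      z_comm (mul_mem (mul_mem hD (mul_mem (mul_mem hg hyc) (inv_mem hg))) (inv_mem hD)) _
    have h4 : Commute (ι (inJ vd) * (g * y * g⁻¹) * (ι (inJ vd))⁻¹) (ι n) := by
      have := h2.mul_right h3.inv_right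
      rwa [mul_inv_cancel_right] at this
    have h5 := Commute.map h4 (MulAut.conj g⁻¹).toMonoidHom
    simp only [MulEquiv.coe_toMonoidHom, MulAut.conj_apply, inv_inv] at h5
    rw [← he, show g⁻¹ * (g * ι (inJ u) * g⁻¹) * g = ι (inJ u) by group,
      show g⁻¹ * (ι (inJ vd) * (g * y * g⁻¹) * (ι (inJ vd))⁻¹) * g = w0 * y * w0⁻¹ by
        rw [hw0]; group] at h5
    exact h5
  have hw3 : w0 * w0 * w0 = 1 := by
    rw [hw0, show g⁻¹ * ι (inJ vd) * g * (g⁻¹ * ι (inJ vd) * g) * (g⁻¹ * ι (inJ vd) * g) =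
      g⁻¹ * (ι (inJ vd) * ι (inJ vd) * ι (inJ vd)) * g by group, ← map_mul, ← map_mul, ← map_mul,
      ← map_mul, vd_cube, map_one, map_one, mul_one, inv_mul_cancel]
  obtain ⟨m, hm⟩ : w0 ∈ ι.range := C.norm (Subgroup.mem_normalizer_iff.2 fun y =>
    ⟨one y, fun hy => by
      have := one _ (one _ hy)
      rwa [show w0 * (w0 * (w0 * y * w0⁻¹) * w0⁻¹) * w0⁻¹ =
        w0 * w0 * w0 * y * (w0 * w0 * w0)⁻¹ by group, hw3, one_mul, inv_one, mul_one] at this⟩)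
  have hmc : actFn m.right vc = vc := (C.mem_cg_iff m vc).1 (hm ▸ hw0c)
  have hgz : ∀ i : ℕ, g⁻¹ * ι (inJ (vc ^ i)) * g = ι (inJ (vc ^ i)) := fun i => by
    rw [mul_assoc, ← (z_comm hg i).eq, inv_mul_cancel_left]
  have hmu : actFn m.right u = u * vc ^ i1.val := by
    refine SemidirectProduct.inl_injective (φ := phi) (C.inj ?_)
    show ι (inJ _) = ι (inJ _)
    rw [← conj_inJ, map_mul, map_mul, map_inv, hm, map_mul inJ, map_mul ι]
    calc w0 * ι (inJ u) * w0⁻¹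
        = g⁻¹ * (ι (inJ vd) * (g * ι (inJ u) * g⁻¹) * (ι (inJ vd))⁻¹) * g := by rw [hw0]; group
      _ = g⁻¹ * (g * ι (inJ u) * g⁻¹ * ι (inJ (vc ^ i1.val))) * g := by rw [he, hDY]
      _ = ι (inJ u) * (g⁻¹ * ι (inJ (vc ^ i1.val)) * g) := by group
      _ = _ := by rw [hgz]
  have hmr : m.right ≠ 1 := by
    intro h
    rw [h, act_one, left_eq_mul] at hmu
    rw [hmu, inv_eq_one] at hi1
    exact hne (by rw [hi0, hi1, mul_one])
  obtain ⟨j, hj⟩ := (moved_mod _ hmc u hu i1 hmu).resolve_left hmr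
  -- two shears and their product
  obtain ⟨a1, i2, h1⟩ := shear n.right hn hr vd ⟨0, Or.inl (by simp)⟩ n.left
  obtain ⟨a2, i3, h2⟩ := shear m.right hmc hmr u ⟨j, hj⟩ m.left
  set U : G := ι (inJ a1)
  set W : G := g * ι (inJ a2) * g⁻¹ with hW
  have hU : U ∈ cg ι vc := J_le_cg vc (mem_J a1)
  have hWc : W ∈ cg ι vc := mul_mem (mul_mem hg (J_le_cg vc (mem_J a2))) (inv_mem hg)
  have hUD : U * ι (inJ vd) * U⁻¹ = ι (inJ vd) := by
    rw [J_comm (mem_J a1) (mem_J vd), mul_inv_cancel_right]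
  have hUY : U * ι n * U⁻¹ = ι n * ι (inJ vd) * ι (inJ vc) ^ i2.val := by
    rw [← map_mul, ← map_inv, ← map_mul, show n = ⟨n.left, n.right⟩ from rfl, h1, map_mul, map_mul,
      map_mul, map_pow, map_pow, ← mul_assoc]
  have hWD : W * ι (inJ vd) * W⁻¹ = ι (inJ vd) * ι n * ι (inJ vc) ^ i3.val := by
    have h2' : ι (inJ a2) * w0 * (ι (inJ a2))⁻¹ = w0 * (ι (inJ u) * ι (inJ vc) ^ i3.val) := by
      rw [← hm, ← map_mul, ← map_inv, ← map_mul, show m = ⟨m.left, m.right⟩ from rfl, h2, map_mul,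
        map_mul, map_mul, map_pow, map_pow]
    calc W * ι (inJ vd) * W⁻¹ = g * (ι (inJ a2) * w0 * (ι (inJ a2))⁻¹) * g⁻¹ := by
          rw [hW, hw0]; group
      _ = ι (inJ vd) * (g * ι (inJ u) * g⁻¹) * (g * ι (inJ vc) ^ i3.val * g⁻¹) := by
          rw [h2', hw0]; group
      _ = _ := by
          rw [he, ← map_pow, ← map_pow, (z_comm hg i3.val).eq, mul_inv_cancel_right]
  have hWY : W * ι n * W⁻¹ = ι n := by
    calc W * ι n * W⁻¹ = g * (ι (inJ a2) * ι (inJ u) * (ι (inJ a2))⁻¹) * g⁻¹ := by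
          rw [hW, ← he]; group
      _ = _ := by rw [J_comm (mem_J a2) (mem_J u), mul_inv_cancel_right, he]
  have hz : ∀ {a : G}, a ∈ cg ι vc → Commute (ι (inJ vc)) a := fun ha =>
    (Subgroup.mem_centralizer_singleton_iff.1 ha).symm
  have hn3 : ι n * ι n * ι n = 1 := by
    rw [← he, show g * ι (inJ u) * g⁻¹ * (g * ι (inJ u) * g⁻¹) * (g * ι (inJ u) * g⁻¹) =
      g * (ι (inJ u) * ι (inJ u) * ι (inJ u)) * g⁻¹ by group, ← map_mul, ← map_mul, ← map_mul,
      ← map_mul, v_cube, map_one, map_one, mul_one, mul_inv_cancel]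
  obtain ⟨N, hN⟩ := shear_twice (hz hD) (hz hY) (hz hU) (hz hWc) hUD hUY hWD hWY
    (by rw [← map_pow, ← map_pow]; exact hYD) hn3
  set k := W * U * W * U
  have hk : k ∈ cg ι vc := mul_mem (mul_mem (mul_mem hWc hU) hWc) hU
  obtain ⟨q, hq, hqc⟩ := C.fusion' (mem_J vd) (g := k) (by
    rw [hN, ← map_pow, ← map_pow]
    exact mul_mem (mul_mem (mem_J vd) (mem_J vd)) (mem_J _)) (mem_J vc)
    (Subgroup.mem_centralizer_singleton_iff.1 hk)
  rw [hN, ← map_mul, ← map_inv, ← map_mul, conj_inJ, ← map_pow, ← map_pow, ← map_mul, ← map_mul,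
    ← map_mul, ← map_mul] at hq
  have hqv : actFn q.right vc = vc := (C.mem_cg_iff q vc).1
    (Subgroup.mem_centralizer_singleton_iff.2 hqc)
  refine d_not_inv q.right hqv ⟨N % 3, Nat.mod_lt _ (by norm_num)⟩ ?_
  rw [← pow_eq_pow_mod N vc_cube]
  exact SemidirectProduct.inl_injective (C.inj hq)

omit C in
theorem c_mem {g : G} (hg : g ∈ cg ι vc) (i : ℕ) :
    g * ι (inJ (vc ^ i)) * g⁻¹ = ι (inJ (vc ^ i)) := by
  rw [(z_comm hg i).eq, mul_inv_cancel_right]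

/-- `T` as a Sylow subgroup of the centraliser. -/
theorem exists_sylow_c [Finite G] :
    ∃ P : Sylow 3 (cg ι vc), (P : Subgroup (cg ι vc)) = ι.range.subgroupOf (cg ι vc) := by
  classical
  haveI : Fact (Nat.Prime 3) := ⟨Nat.prime_three⟩
  have h81 : Nat.card (ι.range.subgroupOf (cg ι vc)) = 81 := by
    have e : Nat.card (ι.range.subgroupOf (cg ι vc)) =
        Nat.card {m : Mo // actFn m.right vc = vc} := by
      symm
      refine Nat.card_eq_of_bijective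
        (fun m => ⟨⟨ι m, (C.mem_cg_iff _ _).2 m.2⟩, m.1, rfl⟩)
        ⟨fun m m' h => Subtype.ext (C.inj
          (congrArg (fun q : ι.range.subgroupOf (cg ι vc) => ((q : cg ι vc) : G)) h)), fun q => ?_⟩
      obtain ⟨m, hm⟩ := q.2
      exact ⟨⟨m, (C.mem_cg_iff m vc).1 (hm ▸ (q : cg ι vc).2)⟩, Subtype.ext (Subtype.ext hm)⟩
    rw [e, Nat.card_eq_fintype_card, Fintype.card_subtype, card_TT]
  have hp : IsPGroup 3 (ι.range.subgroupOf (cg ι vc)) := IsPGroup.of_card (n := 4) h81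
  obtain ⟨P, hP⟩ := hp.exists_le_sylow
  refine ⟨P, (Subgroup.eq_of_le_of_card_ge hP ?_).symm⟩
  rw [h81]
  obtain ⟨S, -, -, hS⟩ := C.exists_sylow
  obtain ⟨Q, hQ⟩ := (P.isPGroup'.map (cg ι vc).subtype).exists_le_sylow
  calc Nat.card (P : Subgroup (cg ι vc))
      = Nat.card ((P : Subgroup (cg ι vc)).map (cg ι vc).subtype) :=
        (Subgroup.card_map_of_injective Subtype.coe_injective).symm
    _ ≤ Nat.card (Q : Subgroup G) := Subgroup.card_le_of_le hQ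
    _ = _ := by rw [Sylow.card_eq_multiplicity, ← S.card_eq_multiplicity, hS]

/-- A 3-subgroup of the centraliser of `c` containing `d` lies in `T`. -/
theorem pGroup_le [Finite G] {Q : Subgroup G} (hQ : IsPGroup 3 Q) (hle : Q ≤ cg ι vc)
    (hd : ι (inJ vd) ∈ Q) : Q ≤ ι.range := by
  haveI : Fact (Nat.Prime 3) := ⟨Nat.prime_three⟩
  obtain ⟨P, hP⟩ := C.exists_sylow_c
  obtain ⟨R, hR⟩ := (hQ.comap_subtype (K := cg ι vc)).exists_le_sylow
  obtain ⟨h, hh⟩ := MulAction.exists_smul_eq (cg ι vc) R P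
  have key : ∀ x : cg ι vc, (x : G) ∈ Q → ∃ n ∈ TT, (h : G) * x * (h : G)⁻¹ = ι n := by
    intro x hx
    have : h * x * h⁻¹ ∈ ι.range.subgroupOf (cg ι vc) := by
      rw [← hP, ← hh, Sylow.coe_subgroup_smul]
      exact Subgroup.smul_mem_pointwise_smul _ _ _ (hR hx)
    obtain ⟨n, hn⟩ := this
    exact ⟨n, (C.mem_cg_iff n vc).1 (hn ▸ (h * x * h⁻¹).2), hn.symm⟩
  obtain ⟨n, hn, e⟩ := key ⟨_, hle hd⟩ hd
  obtain ⟨k, hk⟩ := C.strong h.2 vd_not_c hn e
  intro x hx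
  obtain ⟨n', -, e'⟩ := key ⟨x, hle hx⟩ hx
  exact ⟨k⁻¹ * n' * k, by rw [map_mul, map_mul, map_inv, hk, ← e']; group⟩

/-- Fusion of elements of `T` outside `J` in the centraliser of `c`. -/
theorem chi_fusion [Finite G] {g : G} (hg : g ∈ cg ι vc) {p n : Mo} (hp : p ∈ TT) (hn : n ∈ TT)
    (hp1 : p.right ≠ 1) (hn1 : n.right ≠ 1) (he : g * ι p * g⁻¹ = ι n) : chi p = chi n := by
  classical
  haveI : Fact (Nat.Prime 3) := ⟨Nat.prime_three⟩
  set Z : Subgroup G := Subgroup.zpowers (ι (inJ vc))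
  have hzc : ∀ {z k : G}, z ∈ Z → k ∈ cg ι vc → k * z * k⁻¹ = z := by
    rintro z k ⟨i, rfl⟩ hk
    show k * ι (inJ vc) ^ i * k⁻¹ = _
    rw [(Commute.zpow_right (Subgroup.mem_centralizer_singleton_iff.1 hk) i).eq,
      mul_inv_cancel_right]
  let K : Subgroup G :=
    { carrier := {k | k ∈ cg ι vc ∧ k * ι n * k⁻¹ * (ι n)⁻¹ ∈ Z}
      one_mem' := ⟨one_mem _, by simp⟩
      mul_mem' := fun {a b} ha hb => ⟨mul_mem ha.1 hb.1, by
        rw [show a * b * ι n * (a * b)⁻¹ * (ι n)⁻¹ =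
          (a * (b * ι n * b⁻¹ * (ι n)⁻¹) * a⁻¹) * (a * ι n * a⁻¹ * (ι n)⁻¹) by group,
          hzc hb.2 ha.1]
        exact mul_mem hb.2 ha.2⟩
      inv_mem' := fun {a} ha => ⟨inv_mem ha.1, by
        have h := hzc ha.2 (inv_mem ha.1)
        rw [show a⁻¹ * ι n * a⁻¹⁻¹ * (ι n)⁻¹ =
          (a⁻¹ * (a * ι n * a⁻¹ * (ι n)⁻¹) * a⁻¹⁻¹)⁻¹ by group, h]
        exact inv_mem ha.2⟩ }
  have dK : ∀ {q : Mo}, q ∈ TT → q.right ≠ 1 →
      ι (inJ vd) * ι q * (ι (inJ vd))⁻¹ * (ι q)⁻¹ ∈ Z := by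
    intro q hq hq1
    obtain ⟨⟨i, hi⟩, -⟩ := d_moved q.right hq hq1
    have e : inJ vd * q * (inJ vd)⁻¹ * q⁻¹ = (inJ vc ^ i.val)⁻¹ := by
      rw [← map_pow, ← map_inv, ← map_inv, mul_assoc (inJ vd * q), mul_assoc (inJ vd),
        ← mul_assoc q, conj_inJ, ← map_mul,
        show actFn q.right vd⁻¹ = phi q.right vd⁻¹ from rfl, map_inv,
        show phi q.right vd = actFn q.right vd from rfl, hi, mul_inv_rev, mul_comm (vc ^ i.val)⁻¹,
        mul_inv_cancel_left]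
    rw [← map_mul ι, ← map_inv ι, ← map_inv ι, ← map_mul ι, ← map_mul ι, e, map_inv ι, map_pow ι]
    exact inv_mem (pow_mem (Subgroup.mem_zpowers _) _)
  have hdn : ι (inJ vd) ∈ K := ⟨J_le_cg vc (mem_J vd), dK hn hn1⟩
  have hdp : g * ι (inJ vd) * g⁻¹ ∈ K := by
    refine ⟨mul_mem (mul_mem hg (J_le_cg vc (mem_J vd))) (inv_mem hg), ?_⟩
    rw [← he, show g * ι (inJ vd) * g⁻¹ * (g * ι p * g⁻¹) * (g * ι (inJ vd) * g⁻¹)⁻¹ *
      (g * ι p * g⁻¹)⁻¹ = g * (ι (inJ vd) * ι p * (ι (inJ vd))⁻¹ * (ι p)⁻¹) * g⁻¹ by group,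
      hzc (dK hp hp1) hg]
    exact dK hp hp1
  have p3 : ∀ {x : K}, (x : G) ^ 3 = 1 → IsPGroup 3 (Subgroup.zpowers x) := fun {x} h3 => by
    obtain ⟨i, -, hi⟩ := (Nat.dvd_prime_pow Nat.prime_three).1
      (show orderOf x ∣ 3 ^ 1 from orderOf_dvd_of_pow_eq_one (Subtype.ext (by simpa using h3)))
    exact IsPGroup.of_card (n := i) (by rw [Nat.card_zpowers, hi])
  have hd3 : ι (inJ vd) ^ 3 = 1 := by
    rw [← map_pow, ← map_pow, pow_three', vd_cube, map_one, map_one]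
  obtain ⟨Q1, hQ1⟩ := (p3 (x := ⟨_, hdn⟩) hd3).exists_le_sylow
  obtain ⟨Q2, hQ2⟩ := (p3 (x := ⟨_, hdp⟩) (by rw [conj_pow, hd3, mul_one, mul_inv_cancel])).exists_le_sylow
  obtain ⟨k, hk⟩ := MulAction.exists_smul_eq K Q2 Q1
  have hle := C.pGroup_le (Q1.isPGroup'.map K.subtype) (fun x hx => by
    obtain ⟨y, -, rfl⟩ := hx
    exact y.2.1) ⟨_, hQ1 (Subgroup.mem_zpowers _), rfl⟩
  have hmem : (k : G) * (g * ι (inJ vd) * g⁻¹) * (k : G)⁻¹ ∈ ι.range := by
    refine hle ⟨k * ⟨_, hdp⟩ * k⁻¹, ?_, rfl⟩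
    rw [← hk, Sylow.coe_subgroup_smul]
    exact Subgroup.smul_mem_pointwise_smul _ _ _ (hQ2 (Subgroup.mem_zpowers _))
  obtain ⟨n', hn'⟩ := hmem
  have hkg : (k : G) * g ∈ cg ι vc := mul_mem k.2.1 hg
  obtain ⟨t, ht⟩ := C.strong hkg vd_not_c (n := n') ((C.mem_cg_iff n' vc).1 (hn' ▸
      mul_mem (mul_mem k.2.1 (mul_mem (mul_mem hg (J_le_cg vc (mem_J vd))) (inv_mem hg)))
        (inv_mem k.2.1))) (by rw [hn']; group)
  have htT : t ∈ TT := (C.mem_cg_iff t vc).1 (ht ▸ hkg)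
  have hcomm : ι (t * p * t⁻¹ * n⁻¹) ∈ Z := by
    rw [map_mul, map_mul, map_mul, map_inv, map_inv, ht,
      show (k : G) * g * ι p * ((k : G) * g)⁻¹ = (k : G) * (g * ι p * g⁻¹) * (k : G)⁻¹ by group, he]
    exact k.2.2
  obtain ⟨i, hi⟩ := hcomm
  have hi' : t * p * t⁻¹ * n⁻¹ = inJ vc ^ i := C.inj (by rw [map_zpow]; exact hi.symm)
  let zc : TT := ⟨inJ vc, c_mem_TT⟩
  have e : (⟨t, htT⟩ * ⟨p, hp⟩ * ⟨t, htT⟩⁻¹ * ⟨n, hn⟩⁻¹ : TT) = zc ^ i :=
    Subtype.ext (by push_cast; exact hi')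
  have h := congrArg chiT e
  rw [map_mul, map_mul, map_mul, map_inv, map_inv, map_zpow, show chiT zc = 1 from chi_c,
    one_zpow, mul_inv_eq_one, mul_comm (chiT _) (chiT _), mul_inv_cancel_right] at h
  exact h

/-- The centraliser of `c`. -/
theorem cg_c [Finite G] : cg ι vc ≤ ι.range := by
  classical
  haveI : Fact (Nat.Prime 3) := ⟨Nat.prime_three⟩
  obtain ⟨P, hP⟩ := C.exists_sylow_c
  let R : Subgroup G := TT.map ι
  let eT : TT ≃* R := TT.equivMapOfInjective ι C.inj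
  have hPR : ∀ x : (P : Subgroup (cg ι vc)), ((x : cg ι vc) : G) ∈ R := fun x => by
    obtain ⟨m, hm⟩ := hP.le x.2
    exact ⟨m, (C.mem_cg_iff m vc).1 (hm ▸ (x : cg ι vc).2), hm⟩
  let φ : (P : Subgroup (cg ι vc)) →* Multiplicative (ZMod 3 × ZMod 3) :=
    chiT.comp (eT.symm.toMonoidHom.comp
      (((cg ι vc).subtype.comp (P : Subgroup (cg ι vc)).subtype).codRestrict R hPR))
  have hφu : ∀ (x : (P : Subgroup (cg ι vc))) (m : TT), ι m = ((x : cg ι vc) : G) →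
      φ x = chi m := fun x m hm => by
    show chiT (eT.symm ⟨_, hPR x⟩) = chiT m
    congr 1
    rw [MulEquiv.symm_apply_eq]
    exact Subtype.ext hm.symm
  obtain ⟨f, hf⟩ := exists_transfer P φ (by
    intro x y g e
    obtain ⟨p, hp, hpx⟩ := hPR x
    obtain ⟨n, hn, hny⟩ := hPR y
    rw [hφu x ⟨p, hp⟩ hpx, hφu y ⟨n, hn⟩ hny]
    have eg : (g : G) * ι p * (g : G)⁻¹ = ι n := by rw [hpx, hny, ← e]; rfl
    have same : (g : G) ∈ ι.range → chi p = chi n := fun ⟨m, hm⟩ => by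
      have hmT : m ∈ TT := (C.mem_cg_iff m vc).1 (hm ▸ g.2)
      have e' : m * p * m⁻¹ = n := C.inj (by rw [map_mul, map_mul, map_inv, hm, eg])
      have h := congrArg chiT (show (⟨m, hmT⟩ * ⟨p, hp⟩ * ⟨m, hmT⟩⁻¹ : TT) = ⟨n, hn⟩ from
        Subtype.ext e')
      rw [map_mul, map_mul, map_inv, mul_comm (chiT _) (chiT _), mul_inv_cancel_right] at h
      exact h
    show chi p = chi n
    by_cases hpn : p = n
    · rw [hpn]
    have notc : ∀ {q : Mo}, q.right = 1 → (∀ i : Fin 3, q ≠ inJ (vc ^ i.val)) →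
        ∀ i : Fin 3, q.left ≠ vc ^ i.val := fun {q} hq h i hi =>
      h i ((eq_inJ_of_right hq).trans (by rw [hi]))
    by_cases hp1 : p.right = 1
    · refine same (C.strong g.2 (u := p.left) (notc hp1 fun i hi => hpn ?_) hn
        (by rw [← eq_inJ_of_right hp1]; exact eg))
      refine C.inj ?_
      rw [← eg, hi, c_mem g.2]
    by_cases hn1 : n.right = 1
    · refine same (inv_mem_iff.1 (C.strong (g := (g : G)⁻¹) (inv_mem g.2) (u := n.left)
        (notc hn1 fun i hi => hpn (C.inj ?_)) hp (by rw [← eq_inJ_of_right hn1, ← eg]; group)))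
      rw [show ι p = (g : G)⁻¹ * ι n * (g : G)⁻¹⁻¹ by rw [← eg]; group, hi, c_mem (inv_mem g.2)]
    exact C.chi_fusion g.2 hp hn hp1 hn1 eg)
  have hcore : Cfsg.pPrimeCore 3 f.ker = ⊥ := by
    have h := Cfsg.Agent.PBasic.map_pPrimeCore_le_of_normal (p := 3) f.ker
    rw [show Cfsg.pPrimeCore 3 (cg ι vc) = ⊥ from C.cores _ cl_vc, le_bot_iff,
      Subgroup.map_eq_bot_iff_of_injective _ f.ker.subtype_injective] at h
    exact h
  obtain ⟨Q, hQ⟩ := Cfsg.Agent.PBasic.exists_sylow_subgroupOf P f.ker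
  have hkerJ : ∀ {x : cg ι vc}, x ∈ f.ker → x ∈ (P : Subgroup (cg ι vc)) → (x : G) ∈ J ι := by
    intro x hx hxP
    obtain ⟨m, hm, hmx⟩ := hPR ⟨x, hxP⟩
    have h := MonoidHom.mem_ker.1 hx
    rw [hf ⟨x, hxP⟩, pow_eq_one_iff_m33 _ P.not_dvd_index, hφu _ ⟨m, hm⟩ hmx] at h
    rw [show (x : G) = ι m from hmx.symm]
    exact C.mem_J_iff.2 (right_one_of_chi hm h)
  have hQJ : ∀ {x : f.ker}, x ∈ (Q : Subgroup f.ker) → ((x : cg ι vc) : G) ∈ J ι := fun {x} hx =>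
    hkerJ x.2 (by rwa [hQ, Subgroup.mem_subgroupOf] at hx)
  have hdK : (⟨_, J_le_cg vc (mem_J vd)⟩ : cg ι vc) ∈ f.ker := by
    have hdP : (⟨_, J_le_cg vc (mem_J vd)⟩ : cg ι vc) ∈ (P : Subgroup (cg ι vc)) :=
      hP.ge ⟨inJ vd, rfl⟩
    rw [MonoidHom.mem_ker, hf ⟨_, hdP⟩, hφu _ ⟨inJ vd, d_mem_TT⟩ rfl, chi_d, one_pow]
  have hdQ : (⟨_, hdK⟩ : f.ker) ∈ (Q : Subgroup f.ker) := by
    rw [hQ, Subgroup.mem_subgroupOf]
    exact hP.ge ⟨inJ vd, rfl⟩
  have hnorm : Subgroup.normalizer ((Q : Subgroup f.ker) : Set f.ker) ≤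
      Subgroup.centralizer ((Q : Subgroup f.ker) : Set f.ker) := by
    intro k hk
    have h1 := hQJ ((Subgroup.mem_normalizer_iff.1 hk _).1 hdQ)
    obtain ⟨n, hn⟩ := h1
    obtain ⟨m, hm⟩ := C.strong (k : cg ι vc).2 vd_not_c (n := inJ n) (inJ_mem_TT n) hn.symm
    have hmP : (k : cg ι vc) ∈ (P : Subgroup (cg ι vc)) := hP.ge ⟨m, hm⟩
    have hkJ := hkerJ k.2 hmP
    exact Subgroup.mem_centralizer_iff.2 fun y hy =>
      Subtype.ext (Subtype.ext (J_comm (hQJ hy) hkJ))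
  set N := (MonoidHom.transferSylow Q hnorm).ker with hN
  have hc := MonoidHom.ker_transferSylow_isComplement' Q hnorm
  have hcop : (Nat.card N).Coprime 3 := by
    rw [Nat.coprime_comm, Nat.prime_three.coprime_iff_not_dvd]
    rw [show Nat.card N = (Q : Subgroup f.ker).index from hc.index_eq_card.symm]
    exact Q.not_dvd_index
  have hNbot : N = ⊥ :=
    le_bot_iff.1 (hcore ▸ Cfsg.Agent.PBasic.le_pPrimeCore (MonoidHom.normal_ker _) hcop)
  have hQtop : (Q : Subgroup f.ker) = ⊤ := by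
    have := hc.sup_eq_top
    rwa [← hN, hNbot, bot_sup_eq] at this
  have hpg : IsPGroup 3 (cg ι vc) := by
    intro g
    have h3 : g ^ 3 ∈ f.ker := by
      rw [MonoidHom.mem_ker, map_pow, pow_three']; exact m3x3_cube _
    obtain ⟨k, hk⟩ := Q.isPGroup' ⟨⟨_, h3⟩, hQtop ▸ Subgroup.mem_top _⟩
    refine ⟨k + 1, ?_⟩
    rw [pow_succ', pow_mul]
    exact congrArg (fun q : (Q : Subgroup f.ker) => ((q : f.ker) : cg ι vc)) hk
  have hPtop : ⊤ = (P : Subgroup (cg ι vc)) :=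
    P.is_maximal' (hpg.to_subgroup ⊤) le_top
  exact fun g hg => (hP ▸ hPtop ▸ Subgroup.mem_top (⟨g, hg⟩ : cg ι vc) :
    (⟨g, hg⟩ : cg ι vc) ∈ ι.range.subgroupOf (cg ι vc))

/-- Every centraliser of a translation off the first class lies in the normaliser. -/
theorem cg_of_cl [Finite G] {v : V} (h : cl (inJ v) = cl (inJ vb) ∨ cl (inJ v) = cl (inJ vc)) :
    cg ι v ≤ ι.range := by
  rcases h with h | h
  · exact C.cg_of_cl_b h
  obtain ⟨n, hn⟩ := isConj_iff.1 (isConj_of_cl h.symm)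
  intro g hg
  have : (ι n)⁻¹ * g * ι n ∈ cg ι vc := by
    refine Subgroup.mem_centralizer_singleton_iff.2 ?_
    have e := Subgroup.mem_centralizer_singleton_iff.1 hg
    rw [← hn, map_mul, map_mul, map_inv] at e
    calc (ι n)⁻¹ * g * ι n * ι (inJ vc)
        = (ι n)⁻¹ * (g * (ι n * ι (inJ vc) * (ι n)⁻¹)) * ι n := by group
      _ = _ := by rw [e]; group
  obtain ⟨k, hk⟩ := C.cg_c this
  exact ⟨n * k * n⁻¹, by rw [map_mul, map_mul, map_inv, hk]; group⟩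

end Cfg

end Cfsg.Agent.A9Three
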