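import Cfsg.Agent.Lib.A9Three.Invol

/-!
S3339: the image of the alternating group of degree nine is the whole group.
-/

set_option autoImplicit false
set_option maxRecDepth 40000
set_option linter.style.haveILetI false

namespace Cfsg.Agent.A9Three

open Cfsg.Agent.ThreeTI.Mono
open Equiv

universe u

theorem ct_inv {n : Perm (Fin 9)} (h2 : n * n = 1) (hs : Perm.sign n = 1) (hne : n ≠ 1) :
    n.cycleType = Multiset.replicate 2 2 ∨ n.cycleType = Multiset.replicate 4 2 := by
  haveI : Fact (Nat.Prime 2) := ⟨Nat.prime_two⟩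
  have ho : orderOf n = 2 := orderOf_eq_prime ((pow_two n).trans h2) hne
  obtain ⟨m, hm⟩ := Perm.cycleType_prime_order (σ := n) (by rw [ho]; exact Nat.prime_two)
  rw [ho] at hm
  have h9 : n.cycleType.sum ≤ 9 := by
    rw [n.sum_cycleType]; exact le_trans (Finset.card_le_univ _) (by simp)
  have hsgn := Perm.sign_of_cycleType n
  rw [hs, hm, Multiset.sum_replicate, Multiset.card_replicate, smul_eq_mul] at hsgn
  rw [hm, Multiset.sum_replicate, smul_eq_mul] at h9
  have hm4 : m ≤ 3 := by omega
  interval_cases m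
  · exact absurd hsgn (by decide)
  · exact Or.inl hm
  · exact absurd hsgn (by decide)
  · exact Or.inr hm

/-- Conjugacy in the alternating group from an odd element in the centraliser. -/
theorem conj_even {n p s : Perm (Fin 9)} (hct : n.cycleType = p.cycleType)
    (hs : Perm.sign s = -1) (hcomm : s * p = p * s) :
    ∃ k : Perm (Fin 9), Perm.sign k = 1 ∧ k * p * k⁻¹ = n := by
  obtain ⟨k, hk⟩ := isConj_iff.1 (Perm.isConj_iff_cycleType_eq.2 hct.symm)
  rcases Int.units_eq_one_or (Perm.sign k) with e | e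
  · exact ⟨k, e, hk⟩
  · refine ⟨k * s, by rw [map_mul, e, hs]; decide, ?_⟩
    rw [← hk, mul_inv_rev]
    calc k * s * p * (s⁻¹ * k⁻¹) = k * (s * p) * s⁻¹ * k⁻¹ := by group
      _ = _ := by rw [hcomm]; group

theorem dP_zero_facts : swap (6 : Fin 9) 7 * dP 0 = dP 0 * swap 6 7 ∧
    Perm.sign (swap (6 : Fin 9) 7) = -1 ∧
    (Finset.univ.filter fun x => dP 0 x = x).card = 5 := by decide +kernel

theorem big_divisor : ∀ d ∈ Nat.divisors 2240, 473 ≤ d → 35 ∣ d := by decide +kernel

theorem seven_count : ∀ k ∈ Nat.divisors 320, k % 7 = 1 → ¬ 5 ∣ k := by decide +kernel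

theorem fifth_root : ∀ i : Fin 7, i.val ^ 5 % 7 = 1 → i.val = 1 := by decide

theorem card_A9 : Nat.card A9 = 181440 := by
  rw [nat_card_alternatingGroup, Nat.card_fin]
  decide

/-- The size of a subgroup of order prime to three. -/
theorem card_coprime_le (D : Subgroup A9) (h3 : (Nat.card D).Coprime 3) : Nat.card D ≤ 472 := by
  by_contra hlt
  have hdvd : Nat.card D ∣ 2240 := by
    have h := Subgroup.card_subgroup_dvd_card D
    rw [card_A9, show 181440 = 3 ^ 4 * 2240 by norm_num] at h
    exact (Nat.Coprime.pow_right 4 h3).dvd_of_dvd_mul_left h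
  have h35 := big_divisor _ (Nat.mem_divisors.2 ⟨hdvd, by norm_num⟩) (by omega)
  haveI : Fact (Nat.Prime 7) := ⟨by norm_num⟩
  haveI : Fact (Nat.Prime 5) := ⟨by norm_num⟩
  let P : Sylow 7 D := default
  have hP7 : Nat.card (P : Subgroup D) = 7 := by
    rw [Sylow.card_eq_multiplicity]
    have h1 : (Nat.card D).factorization 7 ≤ 1 := by
      have h := (Nat.factorization_le_iff_dvd Nat.card_pos.ne' (by norm_num)).2 hdvd 7
      refine le_trans h ?_
      rw [show (2240 : ℕ) = 7 ^ 1 * 320 by norm_num,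
        Nat.factorization_mul (by norm_num) (by norm_num), Finsupp.add_apply,
        Nat.Prime.factorization_pow (by norm_num), Finsupp.single_eq_same,
        Nat.factorization_eq_zero_of_not_dvd (by norm_num)]
    have h2 : 1 ≤ (Nat.card D).factorization 7 :=
      (Nat.Prime.dvd_iff_one_le_factorization (by norm_num) Nat.card_pos.ne').1
        ((show 7 ∣ 35 by norm_num).trans h35)
    rw [show (Nat.card D).factorization 7 = 1 by omega, pow_one]
  have hn5 : ¬ 5 ∣ Nat.card (Sylow 7 D) := by
    refine seven_count _ (Nat.mem_divisors.2 ⟨?_, by norm_num⟩) (card_sylow_modEq_one 7 D)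
    have h := P.card_dvd_index
    have h2 := Subgroup.card_mul_index (P : Subgroup D)
    rw [hP7] at h2
    refine h.trans ((Nat.mul_dvd_mul_iff_left (by norm_num : 0 < 7)).1 ?_)
    rw [h2]
    exact hdvd.trans (by norm_num)
  set Nm := Subgroup.normalizer ((P : Subgroup D) : Set D)
  have h5 : 5 ∣ Nat.card Nm := by
    have h2 := Subgroup.card_mul_index Nm
    rw [show Nm.index = Nat.card (Sylow 7 D) from P.card_eq_index_normalizer.symm] at h2
    have h : 5 ∣ Nat.card Nm * Nat.card (Sylow 7 D) := h2 ▸ (show 5 ∣ 35 by norm_num).trans h35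
    rcases (Nat.Prime.dvd_mul (by norm_num)).1 h with h | h
    · exact h
    · exact absurd h hn5
  obtain ⟨y, hy⟩ := exists_prime_orderOf_dvd_card' 5 h5
  obtain ⟨s, hs⟩ := exists_prime_orderOf_dvd_card' (G := (P : Subgroup D)) 7 (by rw [hP7])
  have hs' : orderOf (s : D) = 7 := by rwa [Subgroup.orderOf_coe]
  have hy' : orderOf (y : D) = 5 := by rwa [Subgroup.orderOf_coe]
  have hgen : Subgroup.zpowers (s : D) = (P : Subgroup D) :=
    Subgroup.eq_of_le_of_card_ge (Subgroup.zpowers_le.2 s.2) (by rw [Nat.card_zpowers, hs', hP7])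
  have hmem : (y : D) * s * (y : D)⁻¹ ∈ Subgroup.zpowers (s : D) := by
    rw [hgen]; exact (Subgroup.mem_normalizer_iff.1 y.2 _).1 s.2
  obtain ⟨i, hi⟩ : ∃ i : ℕ, (s : D) ^ i = (y : D) * s * (y : D)⁻¹ :=
    (mem_powers_iff_mem_zpowers.2 hmem : _)
  have step : ∀ n : ℕ, (y : D) ^ n * s * ((y : D) ^ n)⁻¹ = (s : D) ^ i ^ n := by
    intro n
    induction n with
    | zero => simp
    | succ n ih =>
      rw [pow_succ', show (y : D) * (y : D) ^ n * s * ((y : D) * (y : D) ^ n)⁻¹ =
        (y : D) * ((y : D) ^ n * s * ((y : D) ^ n)⁻¹) * (y : D)⁻¹ by group, ih, ← conj_pow, ← hi,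
        ← pow_mul, pow_succ']
  have h5' := step 5
  rw [← hy', pow_orderOf_eq_one, one_mul, inv_one, mul_one, hy'] at h5'
  have hmod : i ^ 5 % 7 = 1 := by
    have := pow_eq_pow_iff_modEq.1 ((pow_one (s : D)).trans h5')
    rw [hs'] at this
    exact this.symm
  have hi1 : (s : D) ^ i = s := by
    have h := fifth_root ⟨i % 7, Nat.mod_lt _ (by norm_num)⟩ (by rw [← Nat.pow_mod]; exact hmod)
    rw [← pow_mod_orderOf, hs', show i % 7 = 1 from h, pow_one]
  have hc : Commute (y : D) (s : D) := by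
    rw [hi1] at hi
    exact mul_inv_eq_iff_eq_mul.1 hi.symm
  have h35' : orderOf ((s : D) * y) = 35 := by
    rw [hc.symm.orderOf_mul_eq_mul_orderOf_of_coprime (by rw [hs', hy']; norm_num), hs', hy']
  rw [← Subgroup.orderOf_coe, ← Subgroup.orderOf_coe] at h35'
  exact no_35 h35'

namespace Nin

variable {G : Type u} [Group G] [Finite G] {ι : Mo →* G} {ψ : A6 →* G} {f : A9 →* G}
  (N : Nin ι ψ f)
include N

/-- The image is everything. -/
theorem top : f.range = ⊤ := by
  classical
  haveI : Fintype G := Fintype.ofFinite G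
  by_contra hne
  set τ := ι (inQ ⟨11⟩)
  set L := f.range
  set Ct := Subgroup.centralizer ({τ} : Set G)
  set nT := monA (inQ ⟨11⟩)
  set C := Subgroup.centralizer ({nT} : Set A9)
  have hτ : f nT = τ := N.mon _
  have hτ2 : τ * τ = 1 := by
    rw [← hτ, ← map_mul, show nT * nT = 1 from Subtype.ext qT_facts.1, map_one]
  have hCtL : Ct ≤ L := N.cent_quad_le
  have hCt : C.map f = Ct := by
    refine le_antisymm ?_ fun c hc => ?_
    · rintro _ ⟨a, ha, rfl⟩
      refine Subgroup.mem_centralizer_singleton_iff.2 ?_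
      rw [← hτ, ← map_mul, ← map_mul, Subgroup.mem_centralizer_singleton_iff.1 ha]
    · obtain ⟨a, rfl⟩ := hCtL hc
      refine ⟨a, Subgroup.mem_centralizer_singleton_iff.2 (N.inj ?_), rfl⟩
      rw [map_mul, map_mul, hτ]
      exact Subgroup.mem_centralizer_singleton_iff.1 hc
  set r := Ct.relIndex L
  have hr : r = C.index := by
    rw [← Subgroup.relIndex_top_right]
    show Ct.relIndex L = _
    rw [← hCt, show L = (⊤ : Subgroup A9).map f from MonoidHom.range_eq_map f,
      Subgroup.relIndex_map_map_of_injective _ _ N.inj]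
  have hr473 : 473 ≤ r := by
    have hC : Nat.card C ≤ 384 := by
      refine le_trans ?_ card_cent_qT
      exact Nat.card_le_card_of_injective (fun a => ⟨((a : A9) : Perm (Fin 9)),
        congrArg Subtype.val (Subgroup.mem_centralizer_singleton_iff.1 a.2)⟩) fun a b e =>
          Subtype.ext (Subtype.ext (congrArg (fun z => z.1) e :
            ((a : A9) : Perm (Fin 9)) = (b : A9)))
    have h := C.card_mul_index
    rw [card_A9, ← hr] at h
    by_contra hlt
    have := Nat.mul_le_mul hC (show r ≤ 472 by omega)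
    omega
  -- involutions of the image conjugate to `τ`
  have hmemL : ∀ g : G, g * τ * g⁻¹ ∈ L → g ∈ L := by
    intro g hg
    obtain ⟨a, ha⟩ := hg
    have ha2 : a * a = 1 := N.inj (by
      rw [map_mul, map_one, ha, show g * τ * g⁻¹ * (g * τ * g⁻¹) = g * (τ * τ) * g⁻¹ by group,
        hτ2, mul_one, mul_inv_cancel])
    have ha1 : (a : Perm (Fin 9)) ≠ 1 := by
      intro e
      rw [show a = 1 from Subtype.ext e, map_one] at ha
      have h1 : τ = 1 := conj_eq_one_iff.1 ha.symm
      exact two_ne.1 (N.cfg.inj (h1.trans (map_one ι).symm))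
    rcases ct_inv (congrArg Subtype.val ha2) (Perm.mem_alternatingGroup.1 a.2) ha1 with h | h
    · exfalso
      have hd : (dP 0).cycleType = Multiset.replicate 2 2 := by
        rcases ct_inv (d_facts.2.2.2.2.1 0) (quad_signs.1 0) (d_ne.2.2.1 0) with h' | h'
        · exact h'
        · exfalso
          have hsum := (dP 0).sum_cycleType
          rw [h', Multiset.sum_replicate, smul_eq_mul] at hsum
          have hs := Finset.card_filter_add_card_filter_not (s := (Finset.univ : Finset (Fin 9)))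
            (fun x => dP 0 x = x)
          rw [dP_zero_facts.2.2, Finset.card_univ, Fintype.card_fin] at hs
          have hsupp : (dP 0).support = Finset.univ.filter fun x => ¬ dP 0 x = x := by
            ext x; simp
          rw [hsupp] at hsum
          omega
      obtain ⟨k, hk, hka⟩ := conj_even (h.trans hd.symm) dP_zero_facts.2.1 dP_zero_facts.1
      set K : A9 := ⟨k, Perm.mem_alternatingGroup.2 hk⟩
      have ea : K * dA 0 * K⁻¹ = a := Subtype.ext hka
      refine N.not_conj (s := sG) d_six.2.2.2.1 (isConj_iff.2 ⟨g⁻¹ * f K, ?_⟩)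
      rw [← ea, map_mul, map_mul, map_inv] at ha
      rw [← N.six, dA_six.1]
      calc g⁻¹ * f K * f (dA 0) * (g⁻¹ * f K)⁻¹ = g⁻¹ * (f K * f (dA 0) * (f K)⁻¹) * g := by group
        _ = _ := by rw [ha]; group; rfl
    · obtain ⟨k, hk, hka⟩ := conj_even (h.trans (ct_eight qT_facts.1 qT_fixed.1).symm) qT_fixed.2.1
        qT_fixed.2.2
      set K : A9 := ⟨k, Perm.mem_alternatingGroup.2 hk⟩
      have ea : K * nT * K⁻¹ = a := Subtype.ext hka
      rw [← ea, map_mul, map_mul, map_inv, hτ] at ha
      have hc : (f K)⁻¹ * g ∈ Ct := by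
        refine Subgroup.mem_centralizer_singleton_iff.2 ?_
        calc (f K)⁻¹ * g * τ = (f K)⁻¹ * (g * τ * g⁻¹) * g := by group
          _ = _ := by rw [← ha]; group
      rw [show g = f K * ((f K)⁻¹ * g) by group]
      exact mul_mem ⟨K, rfl⟩ (hCtL hc)
  -- conjugates of `τ` by cosets
  let X : G ⧸ Ct → G := fun q => q.out * τ * q.out⁻¹
  have hXinj : Function.Injective X := by
    intro p q e
    rw [← QuotientGroup.out_eq' p, ← QuotientGroup.out_eq' q, QuotientGroup.eq]
    refine Subgroup.mem_centralizer_singleton_iff.2 ?_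
    change p.out * τ * p.out⁻¹ = q.out * τ * q.out⁻¹ at e
    calc p.out⁻¹ * q.out * τ = p.out⁻¹ * (q.out * τ * q.out⁻¹) * q.out := by group
      _ = _ := by rw [← e]; group
  have hX2 : ∀ q, X q * X q = 1 := fun q => by
    show q.out * τ * q.out⁻¹ * (q.out * τ * q.out⁻¹) = 1
    rw [show q.out * τ * q.out⁻¹ * (q.out * τ * q.out⁻¹) = q.out * (τ * τ) * q.out⁻¹ by group,
      hτ2, mul_one, mul_inv_cancel]
  let φ : G ⧸ Ct → G ⧸ L := fun q => (X q : G ⧸ L)
  have hbase : ∀ q, φ q = ((1 : G) : G ⧸ L) → q.out ∈ L := fun q h => by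
    refine hmemL _ ?_
    have h' : ((X q : G) : G ⧸ L) = ((1 : G) : G ⧸ L) := h
    rw [QuotientGroup.eq, mul_one, inv_mem_iff] at h'
    exact h'
  have h0 : (Finset.univ.filter fun q => φ q = ((1 : G) : G ⧸ L)).card ≤ r := by
    rw [← Fintype.card_coe, ← Nat.card_eq_fintype_card,
      show r = (Ct.subgroupOf L).index from rfl, Subgroup.index_eq_card]
    refine Nat.card_le_card_of_injective (fun q =>
      ((⟨(q : G ⧸ Ct).out, hbase _ (Finset.mem_filter.1 q.2).2⟩ : L) : L ⧸ Ct.subgroupOf L))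
      fun p q e => Subtype.ext ?_
    have e' := QuotientGroup.eq.1 e
    rw [Subgroup.mem_subgroupOf] at e'
    rw [← QuotientGroup.out_eq' (p : G ⧸ Ct), ← QuotientGroup.out_eq' (q : G ⧸ Ct), QuotientGroup.eq]
    exact e'
  have hk : 2 ≤ L.index := by
    have := Subgroup.index_ne_zero_of_finite (H := L)
    have h1 : L.index ≠ 1 := fun h => hne (Subgroup.index_eq_one.1 h)
    omega
  obtain ⟨y, hy1, hy⟩ : ∃ y : G ⧸ L, y ≠ ((1 : G) : G ⧸ L) ∧
      r ≤ (Finset.univ.filter fun q => φ q = y).card := by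
    by_contra hc
    push Not at hc
    have hsum := Finset.card_eq_sum_card_fiberwise (s := (Finset.univ : Finset (G ⧸ Ct)))
      (t := (Finset.univ : Finset (G ⧸ L))) (f := φ) fun _ _ => Finset.mem_univ _
    rw [← Finset.add_sum_erase _ _ (Finset.mem_univ ((1 : G) : G ⧸ L))] at hsum
    have hle := Finset.sum_le_card_nsmul ((Finset.univ : Finset (G ⧸ L)).erase ((1 : G) : G ⧸ L))
      (fun y => (Finset.univ.filter fun q => φ q = y).card) (r - 1) fun y hy => by
        have := hc y (Finset.ne_of_mem_erase hy)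
        omega
    rw [Finset.card_erase_of_mem (Finset.mem_univ _), smul_eq_mul, Finset.card_univ,
      ← Nat.card_eq_fintype_card, ← Subgroup.index_eq_card] at hle
    rw [Finset.card_univ, ← Nat.card_eq_fintype_card, ← Subgroup.index_eq_card,
      ← Subgroup.relIndex_mul_index hCtL] at hsum
    obtain ⟨k, hk'⟩ : ∃ k, L.index = k + 2 := ⟨L.index - 2, by omega⟩
    obtain ⟨r', hr'⟩ : ∃ r', r = r' + 1 := ⟨r - 1, by omega⟩
    rw [show Ct.relIndex L = r from rfl, hk', hr'] at hsum
    rw [hk', hr', show k + 2 - 1 = k + 1 by omega, show r' + 1 - 1 = r' by omega] at hle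
    rw [hr'] at h0
    have hexp : (r' + 1) * (k + 2) = (k + 1) * r' + r' + k + 2 := by ring
    omega
  obtain ⟨q0, hq0⟩ := Finset.card_pos.1 (lt_of_lt_of_le (by omega : 0 < r) hy)
  have hy0 : φ q0 = y := (Finset.mem_filter.1 hq0).2
  have ht0 : X q0 ∉ L := fun h => hy1 (by
    rw [← hy0]
    show ((X q0 : G) : G ⧸ L) = _
    rw [QuotientGroup.eq, mul_one]
    exact inv_mem h)
  let D : Subgroup A9 := (L ⊓ L.comap (MulAut.conj (X q0)).toMonoidHom).comap f
  have hD3 : (Nat.card D).Coprime 3 := by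
    rw [Nat.coprime_comm, Nat.prime_three.coprime_iff_not_dvd]
    intro h
    haveI : Fact (Nat.Prime 3) := ⟨Nat.prime_three⟩
    obtain ⟨a, ha⟩ := exists_prime_orderOf_dvd_card' 3 h
    have hinv : (X q0)⁻¹ = X q0 := inv_eq_of_mul_eq_one_left (hX2 q0)
    have hy' : (X q0)⁻¹ * f a * X q0 ∈ L := by
      have this : X q0 * f (a : A9) * (X q0)⁻¹ ∈ L := a.2.2
      rw [hinv]
      nth_rw 2 [← hinv]
      exact this
    have h1 := N.strong ht0 a.2.1 hy' (by
      rw [← map_pow, ← Subgroup.coe_pow, ← ha, pow_orderOf_eq_one, Subgroup.coe_one, map_one])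
    have : (a : D) = 1 := Subtype.ext (N.inj (h1.trans (map_one f).symm))
    rw [this, orderOf_one] at ha
    omega
  have hge : r ≤ Nat.card D := by
    refine le_trans hy ?_
    rw [← Fintype.card_coe, ← Nat.card_eq_fintype_card]
    have hmem : ∀ q : {q // q ∈ Finset.univ.filter fun q => φ q = y},
        X q0 * X q ∈ L ⊓ L.comap (MulAut.conj (X q0)).toMonoidHom := fun q => by
      have h : ((X q0 : G) : G ⧸ L) = ((X q : G) : G ⧸ L) :=
        hy0.trans (Finset.mem_filter.1 q.2).2.symm
      rw [QuotientGroup.eq, inv_eq_of_mul_eq_one_left (hX2 q0)] at h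
      refine ⟨h, ?_⟩
      show X q0 * (X q0 * X q) * (X q0)⁻¹ ∈ L
      rw [← mul_assoc, hX2, one_mul, show X q * (X q0)⁻¹ = (X q0 * (X q)⁻¹)⁻¹ by group,
        inv_eq_of_mul_eq_one_left (hX2 q)]
      exact inv_mem h
    choose a ha using fun q => (hmem q).1
    refine Nat.card_le_card_of_injective (fun q => (⟨a q, ?_⟩ : D)) fun p q e => ?_
    · refine Subgroup.mem_comap.2 ?_
      rw [ha]; exact hmem q
    · have e' := congrArg (fun z : D => f (z : A9)) e
      simp only [ha, mul_right_inj] at e'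
      exact Subtype.ext (hXinj e')
  have := card_coprime_le D hD3
  omega

end Nin

end Cfsg.Agent.A9Three
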