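import Cfsg.Agent.Lib.A9Three.Quot

/-!
S3339: the centraliser of a four-group modulo the four-group, under an abelian group of order
nine.
-/

set_option autoImplicit false
set_option maxRecDepth 40000
set_option linter.style.haveILetI false

namespace Cfsg.Agent.A9Three

universe u

variable {G : Type u} [Group G]

/-- An abelian group `⟨x, y⟩` of order nine on a subgroup of exponent two, `x` self-centralising
modulo it. -/
structure FourAct (W : Subgroup G) (x y : G) : Prop where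
  exp : ∀ w ∈ W, w * w = 1
  ne : ∃ w ∈ W, w ≠ 1
  xw : ∀ w ∈ W, x * w = w * x
  x3 : x * x * x = 1
  xne : x ≠ 1
  y3 : y * y * y = 1
  xy : x * y = y * x
  ynorm : ∀ w ∈ W, y * w * y⁻¹ ∈ W
  yfpf : ∀ w ∈ W, y * w = w * y → w = 1
  cent : ∀ g ∈ Subgroup.centralizer (W : Set G), g * x = x * g →
    ∃ i : ℕ, ∃ w ∈ W, g = x ^ i * w

namespace FourAct

variable {W : Subgroup G} {x y : G} (A : FourAct W x y)
include A

theorem comm {a b : G} (ha : a ∈ W) (hb : b ∈ W) : a * b = b * a := by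
  calc a * b = a * b * ((a * b) * (a * b))⁻¹ := by rw [A.exp _ (mul_mem ha hb), inv_one, mul_one]
    _ = b⁻¹ * a⁻¹ := by group
    _ = _ := by rw [inv_eq_of_mul_eq_one_left (A.exp a ha), inv_eq_of_mul_eq_one_left (A.exp b hb)]

theorem cube_eq_one {w : G} (hw : w ∈ W) (h : w * w * w = 1) : w = 1 := by
  rwa [A.exp w hw, one_mul] at h

/-- The powers acting without fixed points. -/
theorem z_facts (i : Fin 3) : (x ^ i.val * y) * (x ^ i.val * y) * (x ^ i.val * y) = 1 ∧
    (∀ w ∈ W, (x ^ i.val * y) * w * (x ^ i.val * y)⁻¹ = y * w * y⁻¹) ∧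
    Commute x (x ^ i.val * y) := by
  have hc : Commute (x ^ i.val) y := Commute.pow_left A.xy _
  refine ⟨?_, fun w hw => ?_, Commute.mul_right (Commute.pow_right (Commute.refl x) _) A.xy⟩
  · rw [← pow_three' (x ^ i.val * y), hc.mul_pow, ← pow_mul, mul_comm, pow_mul, pow_three' x, A.x3,
      one_pow, one_mul, pow_three' y, A.y3]
  · have h : Commute (x ^ i.val) (y * w * y⁻¹) := Commute.pow_left (A.xw _ (A.ynorm w hw)) _
    calc x ^ i.val * y * w * (x ^ i.val * y)⁻¹
        = x ^ i.val * (y * w * y⁻¹) * (x ^ i.val)⁻¹ := by group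
      _ = _ := by rw [h.eq, mul_inv_cancel_right]

variable [Finite G]

/-- Lifting fixed cosets. -/
theorem lift (i : Fin 3) {g : G}
    (h : (x ^ i.val * y) * g * (x ^ i.val * y)⁻¹ * g⁻¹ ∈ W) :
    ∃ w ∈ W, (x ^ i.val * y) * (w * g) = w * g * (x ^ i.val * y) := by
  obtain ⟨-, hact, -⟩ := A.z_facts i
  set z := x ^ i.val * y
  let f : W → W := fun w => ⟨z * w * z⁻¹ * (w : G)⁻¹, mul_mem (hact w w.2 ▸ A.ynorm w w.2) (inv_mem w.2)⟩
  have hf : Function.Injective f := by
    intro a b hab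
    have e : z * a * z⁻¹ * (a : G)⁻¹ = z * b * z⁻¹ * (b : G)⁻¹ := congrArg Subtype.val hab
    rw [hact a a.2, hact b b.2] at e
    have hab' : ((b : G)⁻¹ * a) ∈ W := mul_mem (inv_mem b.2) a.2
    refine Subtype.ext (inv_mul_eq_one.1 (A.yfpf _ hab' ?_)).symm
    rw [← mul_inv_eq_iff_eq_mul]
    have h1 : y * a * y⁻¹ = y * b * y⁻¹ * ((b : G)⁻¹ * a) := by
      rw [← mul_assoc, ← e, inv_mul_cancel_right]
    calc y * ((b : G)⁻¹ * a) * y⁻¹ = (y * b * y⁻¹)⁻¹ * (y * a * y⁻¹) := by group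
      _ = _ := by rw [h1, inv_mul_cancel_left]
  obtain ⟨w, hw⟩ := (Finite.surjective_of_injective hf) ⟨_, inv_mem h⟩
  have e : z * (w : G) * z⁻¹ * (w : G)⁻¹ = (z * g * z⁻¹ * g⁻¹)⁻¹ := congrArg Subtype.val hw
  have hcm := A.comm h w.2
  refine ⟨w, w.2, ?_⟩
  calc z * ((w : G) * g) = (z * (w : G) * z⁻¹ * (w : G)⁻¹) * ((w : G) * (z * g * z⁻¹ * g⁻¹)) * g * z := by
        group
    _ = _ := by rw [e, ← hcm]; group

/-- `W` inside its normaliser. -/
abbrev Wn (W : Subgroup G) : Subgroup (Subgroup.normalizer (W : Set G)) :=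
  W.subgroupOf (Subgroup.normalizer (W : Set G))

/-- The centraliser modulo `W`. -/
abbrev Qs (W : Subgroup G) [(Wn W).Normal] : Subgroup (Subgroup.normalizer (W : Set G) ⧸ Wn W) :=
  ((Subgroup.centralizer (W : Set G)).subgroupOf _).map (QuotientGroup.mk' (Wn W))

omit A in
theorem wn_normal (W : Subgroup G) : (Wn W).Normal := Subgroup.normal_in_normalizer

omit A in
theorem cent_normal (W : Subgroup G) {n g : G} (hn : n ∈ Subgroup.normalizer (W : Set G))
    (hg : g ∈ Subgroup.centralizer (W : Set G)) : n * g * n⁻¹ ∈ Subgroup.centralizer (W : Set G) := by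
  refine Subgroup.mem_centralizer_iff.2 fun w hw => ?_
  have hw' : n⁻¹ * w * n ∈ W := by
    have := (Subgroup.mem_normalizer_iff.1 (inv_mem hn) w).1 hw
    rwa [inv_inv] at this
  have := Subgroup.mem_centralizer_iff.1 hg _ hw'
  calc w * (n * g * n⁻¹) = n * ((n⁻¹ * w * n) * g) * n⁻¹ := by group
    _ = _ := by rw [this]; group

theorem y_mem : y ∈ Subgroup.normalizer (W : Set G) := by
  refine Subgroup.mem_normalizer_iff.2 fun w => ⟨A.ynorm w, fun h => ?_⟩
  have h2 := A.ynorm _ (A.ynorm _ h)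
  rwa [show y * (y * (y * w * y⁻¹) * y⁻¹) * y⁻¹ = y * y * y * w * (y * y * y)⁻¹ by group, A.y3,
    one_mul, inv_one, mul_one] at h2

omit [Finite G] in
theorem x_mem : x ∈ Subgroup.centralizer (W : Set G) :=
  Subgroup.mem_centralizer_iff.2 fun w hw => (A.xw w hw).symm

/-- The main dichotomy. -/
theorem dichotomy
    (triv : ∀ (i : Fin 3) (S : Subgroup G), S ≤ Subgroup.centralizer (W : Set G) →
      (∀ s ∈ S, s * (x ^ i.val * y) = x ^ i.val * y * s) → (Nat.card S).Coprime 3 →
      (∀ n ∈ Subgroup.normalizer (W : Set G), n * (x ^ i.val * y) = x ^ i.val * y * n →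
        ∀ s ∈ S, n * s * n⁻¹ ∈ S) → S = ⊥) :
    Nat.card (Subgroup.centralizer (W : Set G)) ≤ 6 * Nat.card W ∨
      ∃ (i : Fin 3) (S : Subgroup G), S ≤ Subgroup.centralizer (W : Set G) ∧
        (∀ s ∈ S, s * (x ^ i.val * y) = x ^ i.val * y * s) ∧
        ((Nat.card S = 4 ∧ ∀ s ∈ S, s * s = 1) ∨ Nat.card S = 7) ∧
        (∀ s ∈ S, x * s * x⁻¹ ∈ S) ∧ ∀ s ∈ S, x * s = s * x → s = 1 := by
  classical
  haveI : Fact (Nat.Prime 3) := ⟨Nat.prime_three⟩
  haveI hWn : (Wn W).Normal := wn_normal W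
  set X := Subgroup.normalizer (W : Set G) with hX
  set π := QuotientGroup.mk' (Wn W) with hπ
  have hCX : Subgroup.centralizer (W : Set G) ≤ X := Subgroup.centralizer_le_normalizer _
  haveI hCn : ((Subgroup.centralizer (W : Set G)).subgroupOf X).Normal :=
    ⟨fun g hg n => cent_normal W n.2 hg⟩
  haveI hQn : (Qs W).Normal := Subgroup.Normal.map hCn _ (QuotientGroup.mk'_surjective _)
  let xX : X := ⟨x, hCX A.x_mem⟩
  let yX : X := ⟨y, A.y_mem⟩
  have hker : ∀ {a b : X}, π a = π b ↔ (a : G)⁻¹ * b ∈ W := by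
    intro a b
    rw [hπ, QuotientGroup.mk'_apply, QuotientGroup.mk'_apply, QuotientGroup.eq]
    exact Subgroup.mem_subgroupOf
  have hπ1 : ∀ {a : X}, π a = 1 ↔ (a : G) ∈ W := by
    intro a
    rw [hπ, QuotientGroup.mk'_apply, QuotientGroup.eq_one_iff]
    exact Subgroup.mem_subgroupOf
  have hxQ : π xX ∈ Qs W := ⟨xX, A.x_mem, rfl⟩
  have hx3 : π xX * π xX * π xX = 1 := by
    rw [← map_mul, ← map_mul, show xX * xX * xX = 1 from Subtype.ext A.x3, map_one]
  have hy3 : π yX * π yX * π yX = 1 := by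
    rw [← map_mul, ← map_mul, show yX * yX * yX = 1 from Subtype.ext A.y3, map_one]
  have hxy : π xX * π yX = π yX * π xX := by
    rw [← map_mul, ← map_mul, show xX * yX = yX * xX from Subtype.ext A.xy]
  have hxne : π xX ≠ 1 := fun h => A.xne (A.cube_eq_one (hπ1.1 h) A.x3)
  -- `x` is self-centralising
  have hC : ∀ q ∈ Qs W, q * π xX = π xX * q → q ∈ Subgroup.zpowers (π xX) := by
    rintro _ ⟨g, hg, rfl⟩ hc
    rw [← map_mul, ← map_mul, hker] at hc
    change ((g : G) * x)⁻¹ * (x * g) ∈ W at hc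
    obtain ⟨w, hc, hgx⟩ : ∃ w ∈ W, x * (g : G) = g * x * w :=
      ⟨((g : G) * x)⁻¹ * (x * g), hc, by group⟩
    have hxw := A.xw w hc
    have hgw : (g : G) * w = w * g := (Subgroup.mem_centralizer_iff.1 hg w hc).symm
    have step : ∀ n : ℕ, x ^ n * g = g * x ^ n * w ^ n := by
      intro n
      induction n with
      | zero => simp
      | succ n ih =>
        rw [pow_succ, mul_assoc, hgx, ← mul_assoc, ← mul_assoc, ih]
        calc (g : G) * x ^ n * w ^ n * x * w = g * x ^ n * (w ^ n * x) * w := by group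
          _ = _ := by rw [← (Commute.pow_right hxw n).eq, pow_succ]; group
    have h3 := step 3
    rw [pow_three' x, A.x3, one_mul, mul_one, pow_three' w, left_eq_mul] at h3
    have hw1 : w = 1 := A.cube_eq_one hc h3
    obtain ⟨i, v, hv, hgv⟩ := A.cent g hg (by rw [hgx, hw1, mul_one])
    refine ⟨i, ?_⟩
    show π xX ^ (i : ℤ) = π g
    rw [zpow_natCast, ← map_pow, hker]
    show (x ^ i)⁻¹ * (g : G) ∈ W
    rw [hgv, inv_mul_cancel_left]
    exact hv
  let xQ : Qs W := ⟨π xX, hxQ⟩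
  have hxo : orderOf xQ = 3 := orderOf_eq_prime
    (Subtype.ext (by rw [pow_three']; exact hx3)) (fun h => hxne (congrArg Subtype.val h))
  have hQC : Subgroup.centralizer ({xQ} : Set (Qs W)) = Subgroup.zpowers xQ := by
    refine le_antisymm (fun q hq => ?_)
      (Subgroup.zpowers_le.2 (Subgroup.mem_centralizer_singleton_iff.2 rfl))
    obtain ⟨k, hk⟩ := hC q q.2 (congrArg Subtype.val (Subgroup.mem_centralizer_singleton_iff.1 hq))
    exact ⟨k, Subtype.ext hk⟩
  -- subgroups of the centraliser in `G` over subgroups of `Qs` fixed by `z`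
  let lft : (i : Fin 3) → Subgroup (X ⧸ Wn W) → Subgroup G := fun i R =>
    (((R ⊓ Qs W).comap π).map X.subtype) ⊓ Subgroup.centralizer ({x ^ i.val * y} : Set G) ⊓
      Subgroup.centralizer (W : Set G)
  have hinjW : ∀ (i : Fin 3) (s : G), s ∈ W → s * (x ^ i.val * y) = x ^ i.val * y * s → s = 1 := by
    intro i s hs hc
    refine A.yfpf s hs (mul_inv_eq_iff_eq_mul.1 ?_)
    rw [← (A.z_facts i).2.1 s hs, ← hc, mul_inv_cancel_right]
  have lift_q : ∀ (i : Fin 3) (R : Subgroup (X ⧸ Wn W)), ∀ q ∈ R ⊓ Qs W,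
      π (xX ^ i.val * yX) * q = q * π (xX ^ i.val * yX) →
      ∃ g : X, π g = q ∧ (g : G) ∈ lft i R := by
    intro i R q hq hc
    obtain ⟨g, hg, rfl⟩ := hq.2
    rw [← map_mul, ← map_mul, hker] at hc
    change (x ^ i.val * y * g)⁻¹ * (g * (x ^ i.val * y)) ∈ W at hc
    set z := x ^ i.val * y
    have hm : z * g * z⁻¹ * (g : G)⁻¹ ∈ W := by
      have hzX : z ∈ X := mul_mem (pow_mem (hCX A.x_mem) _) A.y_mem
      have h := inv_mem ((Subgroup.mem_normalizer_iff.1 (mul_mem hzX g.2) _).1 hc)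
      rwa [show (z * (g : G) * ((z * g)⁻¹ * (g * z)) * (z * g)⁻¹)⁻¹ = z * g * z⁻¹ * (g : G)⁻¹ by
        group] at h
    obtain ⟨w, hw, hwc⟩ := A.lift i hm
    let wX : X := ⟨w, Subgroup.le_normalizer hw⟩
    have e : π (wX * g) = π g := by rw [map_mul, hπ1.2 hw, one_mul]
    refine ⟨wX * g, e, ⟨⟨wX * g, (show π (wX * g) ∈ R ⊓ Qs W by rw [e]; exact hq), rfl⟩, Subgroup.mem_centralizer_singleton_iff.2 hwc.symm⟩, ?_⟩
    exact mul_mem (Subgroup.mem_centralizer_iff.2 fun v hv => A.comm hv hw) hg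
  have lft_card : ∀ (i : Fin 3) (R : Subgroup (X ⧸ Wn W)),
      (∀ q ∈ R ⊓ Qs W, π (xX ^ i.val * yX) * q = q * π (xX ^ i.val * yX)) →
      Nat.card (lft i R) = Nat.card (R ⊓ Qs W : Subgroup (X ⧸ Wn W)) := by
    intro i R hc
    refine Nat.card_eq_of_bijective (fun s => ⟨π ⟨s, hCX s.2.2⟩, ?_⟩) ⟨fun s s' h => ?_, fun q => ?_⟩
    · obtain ⟨g, hg, hgs⟩ := s.2.1.1
      rwa [show (⟨(s : G), _⟩ : X) = g from Subtype.ext hgs.symm]
    · have h' : (s : G)⁻¹ * s' ∈ W := hker.1 (congrArg Subtype.val h)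
      refine Subtype.ext (inv_mul_eq_one.1 (hinjW i _ h' ?_))
      exact Subgroup.mem_centralizer_singleton_iff.1 (mul_mem (inv_mem s.2.1.2) s'.2.1.2)
    · obtain ⟨g, hg, hgl⟩ := lift_q i R q q.2 (hc q q.2)
      exact ⟨⟨g, hgl⟩, Subtype.ext ((congrArg π (Subtype.ext rfl)).trans hg)⟩
  -- the 3'-core
  have hcore : Cfsg.pPrimeCore 3 (Qs W) = ⊥ := by
    set R0 := Cfsg.pPrimeCore 3 (Qs W)
    haveI hR0n : R0.Normal := FittingCores.pPrimeCore_normal 3
    haveI hR0c : R0.Characteristic := PBasic.pPrimeCore_characteristic 3 _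
    set R := R0.map (Qs W).subtype
    haveI hRn : R.Normal := ConjAct.normal_of_characteristic_of_normal
    have hco : (Nat.card R).Coprime 3 := by
      rw [Subgroup.card_map_of_injective (Qs W).subtype_injective]
      exact PBasic.pPrimeCore_coprime 3 _
    have hRQ : R ≤ Qs W := Subgroup.map_subtype_le _
    have fix_i : ∀ i : Fin 3, ∀ q ∈ R, π (xX ^ i.val * yX) * q = q * π (xX ^ i.val * yX) →
        q = 1 := by
      intro i q hq hc
      let R' := R ⊓ Subgroup.centralizer ({π (xX ^ i.val * yX)} : Set (X ⧸ Wn W))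
      have hc' : ∀ p ∈ R' ⊓ Qs W, π (xX ^ i.val * yX) * p = p * π (xX ^ i.val * yX) := fun p hp =>
        (Subgroup.mem_centralizer_singleton_iff.1 hp.1.2).symm
      have hbot := triv i (lft i R') (fun s hs => hs.2)
        (fun s hs => Subgroup.mem_centralizer_singleton_iff.1 hs.1.2) (by
          rw [lft_card i R' hc']
          exact Nat.Coprime.coprime_dvd_left
            (Subgroup.card_dvd_of_le (inf_le_left.trans inf_le_left)) hco) (fun n hn hnz s hs => by
          obtain ⟨g, hg, hgs⟩ := hs.1.1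
          refine ⟨⟨⟨⟨n, hn⟩ * g * ⟨n, hn⟩⁻¹, ?_, ?_⟩, ?_⟩, cent_normal W hn hs.2⟩
          · show π (⟨n, hn⟩ * g * ⟨n, hn⟩⁻¹) ∈ R' ⊓ Qs W
            rw [map_mul, map_mul, map_inv]
            refine ⟨⟨hRn.conj_mem _ hg.1.1 _, ?_⟩, hQn.conj_mem _ hg.2 _⟩
            refine Subgroup.mem_centralizer_singleton_iff.2 ?_
            have h1 : π ⟨n, hn⟩ * π (xX ^ i.val * yX) = π (xX ^ i.val * yX) * π ⟨n, hn⟩ := by
              rw [← map_mul, ← map_mul]
              exact congrArg π (Subtype.ext (by push_cast; exact hnz))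
            exact (Commute.mul_left (Commute.mul_left h1
              (Subgroup.mem_centralizer_singleton_iff.1 hg.1.2)) (Commute.inv_left h1)).eq
          · rw [← hgs]; rfl
          · refine Subgroup.mem_centralizer_singleton_iff.2 ?_
            exact (Commute.mul_left (Commute.mul_left hnz
              (Subgroup.mem_centralizer_singleton_iff.1 hs.1.2)) (Commute.inv_left hnz)).eq)
      obtain ⟨g, hg, hgl⟩ := lift_q i R' q
        ⟨⟨hq, Subgroup.mem_centralizer_singleton_iff.2 hc.symm⟩, hRQ hq⟩ hc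
      rw [hbot, Subgroup.mem_bot] at hgl
      rw [← hg, show g = 1 from Subtype.ext hgl, map_one]
    have fix_x : ∀ q ∈ R, π xX * q = q * π xX → q = 1 := by
      intro q hq hc
      obtain ⟨k, hk⟩ := hC q (hRQ hq) hc.symm
      have h3 : q ^ 3 = 1 := by
        rw [← hk]
        show (π xX ^ k) ^ 3 = 1
        rw [← zpow_natCast, ← zpow_mul, mul_comm, zpow_mul, zpow_natCast, pow_three', hx3, one_zpow]
      have h1 := orderOf_dvd_of_pow_eq_one h3
      have h2 : orderOf q ∣ Nat.card R := Subgroup.orderOf_dvd_natCard R hq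
      rcases (Nat.dvd_prime Nat.prime_three).1 h1 with e | e
      · exact orderOf_eq_one_iff.1 e
      · exact absurd (e ▸ h2) (Nat.prime_three.coprime_iff_not_dvd.1 hco.symm)
    -- generation by centralisers
    let E : Subgroup (X ⧸ Wn W) := Subgroup.closure {π xX, π yX}
    haveI hEc : IsMulCommutative E := by
      refine Subgroup.isMulCommutative_closure ?_
      rintro a (rfl | rfl) b (rfl | rfl)
      exacts [rfl, hxy, hxy.symm, rfl]
    have hEmem : ∀ a ∈ E, ∃ i j : Fin 3, a = π xX ^ i.val * π yX ^ j.val := by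
      have red : ∀ {a : X ⧸ Wn W}, a * a * a = 1 → ∀ n : ℕ, a ^ n = a ^ (n % 3) := fun {a} h n =>
        pow_eq_pow_mod n ((pow_three' a).trans h)
      have mk : ∀ n m : ℕ, ∃ i j : Fin 3,
          π xX ^ n * π yX ^ m = π xX ^ i.val * π yX ^ j.val := fun n m =>
        ⟨⟨n % 3, Nat.mod_lt _ (by norm_num)⟩, ⟨m % 3, Nat.mod_lt _ (by norm_num)⟩,
          by rw [red hx3 n, red hy3 m]⟩
      intro a ha
      induction ha using Subgroup.closure_induction with
      | mem z hz =>
        rcases hz with rfl | rfl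
        · exact ⟨1, 0, by simp⟩
        · exact ⟨0, 1, by simp⟩
      | one => exact ⟨0, 0, by simp⟩
      | mul a b _ _ iha ihb =>
        obtain ⟨i, j, rfl⟩ := iha
        obtain ⟨k, l, rfl⟩ := ihb
        obtain ⟨i', j', h⟩ := mk (i.val + k.val) (j.val + l.val)
        refine ⟨i', j', ?_⟩
        rw [← h, pow_add, pow_add]
        have hc : Commute (π xX ^ k.val) (π yX ^ j.val) := Commute.pow_pow hxy _ _
        rw [mul_assoc, ← mul_assoc (π yX ^ j.val), ← hc.eq]
        group
      | inv a _ ih =>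
        obtain ⟨i, j, rfl⟩ := ih
        obtain ⟨i', j', h⟩ := mk (3 - i.val) (3 - j.val)
        refine ⟨i', j', ?_⟩
        rw [← h]
        refine inv_eq_of_mul_eq_one_right ?_
        have hc : Commute (π yX ^ j.val) (π xX ^ (3 - i.val)) := Commute.pow_pow hxy.symm _ _
        rw [mul_assoc, ← mul_assoc (π yX ^ j.val), hc.eq, mul_assoc, ← pow_add, ← mul_assoc,
          ← pow_add, Nat.add_sub_cancel' (by omega), Nat.add_sub_cancel' (by omega), pow_three',
          pow_three', hx3, hy3, one_mul]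
    have hyx : π yX ∉ Subgroup.zpowers (π xX) := by
      rintro ⟨k, hk⟩
      have hy' : π yX ∈ Qs W := hk ▸ zpow_mem hxQ k
      obtain ⟨g, hg, hge⟩ := hy'
      obtain ⟨w, hw, hw1⟩ := A.ne
      have hd := hker.1 hge
      refine hw1 (A.yfpf w hw ?_)
      have hy'' : y ∈ Subgroup.centralizer (W : Set G) := by
        have : y = (g : G) * ((g : G)⁻¹ * (yX : G)) := by rw [mul_inv_cancel_left]
        rw [this]
        exact mul_mem hg (Subgroup.mem_centralizer_iff.2 fun v hv => A.comm hv hd)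
      exact (Subgroup.mem_centralizer_iff.1 hy'' w hw).symm
    have hnc : ¬ IsCyclic E := by
      intro hcyc
      obtain ⟨⟨a, ha⟩, hgen⟩ := IsCyclic.exists_generator (α := E)
      obtain ⟨i, j, haij⟩ := hEmem a ha
      have ha3 : a * a * a = 1 := by
        rw [← pow_three', haij, (Commute.pow_pow hxy _ _).mul_pow, ← pow_mul, ← pow_mul,
          mul_comm i.val, mul_comm j.val, pow_mul, pow_mul, pow_three', pow_three', hx3, hy3,
          one_pow, one_pow, one_mul]
      obtain ⟨k, hk⟩ := hgen ⟨π xX, Subgroup.subset_closure (Or.inl rfl)⟩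
      obtain ⟨l, hl⟩ := hgen ⟨π yX, Subgroup.subset_closure (Or.inr rfl)⟩
      have hk' : a ^ k = π xX := congrArg Subtype.val hk
      have hl' : a ^ l = π yX := congrArg Subtype.val hl
      have hka : (k % 3 = 1 ∨ k % 3 = 2) := by
        rcases (show k % 3 = 0 ∨ k % 3 = 1 ∨ k % 3 = 2 by omega) with h | h
        · exfalso
          refine hxne ?_
          rw [← hk', show k = 3 * (k / 3) by omega, zpow_mul,
            show a ^ (3 : ℤ) = 1 from (zpow_natCast a 3).trans ((pow_three' a).trans ha3), one_zpow]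
        · exact h
      refine hyx ⟨l * k, ?_⟩
      show π xX ^ (l * k) = π yX
      rw [← hk', ← zpow_mul, ← hl', show k * (l * k) = l + 3 * ((k * (l * k) - l) / 3) by
        have : (k * (l * k) - l) % 3 = 0 := by
          have h1 : k * (l * k) - l = l * (k * k - 1) := by ring
          rw [h1, Int.mul_emod]
          have : (k * k - 1) % 3 = 0 := by
            rw [Int.sub_emod, Int.mul_emod]
            rcases hka with h | h <;> rw [h] <;> norm_num
          rw [this]; simp
        omega, zpow_add, zpow_mul,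
        show a ^ (3 : ℤ) = 1 from (zpow_natCast a 3).trans ((pow_three' a).trans ha3), one_zpow,
        mul_one]
    have hEp : IsPGroup 3 E := fun e => ⟨1, Subtype.ext (by
      obtain ⟨i, j, haij⟩ := hEmem e e.2
      push_cast
      rw [haij, (Commute.pow_pow hxy _ _).mul_pow, ← pow_mul, ← pow_mul,
        mul_comm i.val, mul_comm j.val, pow_mul, pow_mul, pow_three', pow_three', hx3, hy3,
        one_pow, one_pow, one_mul])⟩
    obtain ⟨n, hn⟩ := IsPGroup.iff_card.1 hEp
    have hgen := CoprimeAct.generated_by_centralizers (A := E) (K := R) hnc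
      ((Subgroup.normalizer_eq_top R).symm ▸ le_top) (hn ▸ hco.symm.pow_left n)
    have hbot : R = ⊥ := by
      rw [← hgen, eq_bot_iff]
      refine iSup₂_le fun a ha q hq => ?_
      rw [Subgroup.mem_bot]
      obtain ⟨i, j, rfl⟩ := hEmem a ha.1
      have hcq : Commute (π xX ^ i.val * π yX ^ j.val) q :=
        (Subgroup.mem_centralizer_singleton_iff.1 hq.2).symm
      fin_cases j
      · fin_cases i
        · exact absurd (by simp) ha.2
        · exact fix_x q hq.1 (by simpa using hcq.eq)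
        · refine fix_x q hq.1 ?_
          have h2 := hcq.pow_left 2
          simp only [pow_zero, mul_one, ← pow_mul] at h2
          rw [pow_eq_pow_mod (2 * 2) ((pow_three' _).trans hx3), pow_one] at h2
          exact h2.eq
      · exact fix_i i q hq.1 (by rw [map_mul, map_pow]; simpa using hcq.eq)
      · -- the square is the inverse of a fixed-point-free element
        refine fix_i ⟨2 * i.val % 3, Nat.mod_lt _ (by norm_num)⟩ q hq.1 ?_
        have h2 := hcq.pow_left 2
        rw [(Commute.pow_pow hxy _ _).mul_pow, ← pow_mul, ← pow_mul, mul_comm i.val,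
          pow_eq_pow_mod (2 * i.val) ((pow_three' _).trans hx3),
          pow_eq_pow_mod (2 * 2) ((pow_three' _).trans hy3), pow_one] at h2
        rw [map_mul, map_pow]
        exact h2.eq
    exact (Subgroup.map_eq_bot_iff_of_injective _ (Qs W).subtype_injective).1 hbot
  have hcardC : Nat.card (Subgroup.centralizer (W : Set G)) ≤ Nat.card (Qs W) * Nat.card W := by
    have hW : Wn W ≤ (Subgroup.centralizer (W : Set G)).subgroupOf X := fun w hw =>
      Subgroup.mem_centralizer_iff.2 fun v hv => A.comm hv hw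
    have h1 := Subgroup.card_mul_index ((Wn W).subgroupOf ((Subgroup.centralizer (W : Set G)).subgroupOf X))
    have h2 : ((Wn W).subgroupOf ((Subgroup.centralizer (W : Set G)).subgroupOf X)).index =
        Nat.card (Qs W) := by
      have h := Subgroup.relIndex_ker π (K := (Subgroup.centralizer (W : Set G)).subgroupOf X)
      rwa [hπ, QuotientGroup.ker_mk'] at h
    rw [h2, Nat.card_congr (Subgroup.subgroupOfEquivOfLe hW).toEquiv,
      Nat.card_congr (Subgroup.subgroupOfEquivOfLe Subgroup.le_normalizer).toEquiv,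
      Nat.card_congr (Subgroup.subgroupOfEquivOfLe hCX).toEquiv] at h1
    rw [← h1, mul_comm]
  rcases shape hxo hQC hcore with h | ⟨-, P0, hP4, hP2, hcnt⟩ | ⟨-, P0, hP7, hcnt⟩
  · exact Or.inl (le_trans hcardC (Nat.mul_le_mul_right _ h))
  all_goals refine Or.inr ?_
  all_goals haveI : Fact (Nat.Prime 2) := ⟨Nat.prime_two⟩
  all_goals haveI : Fact (Nat.Prime 7) := ⟨by norm_num⟩
  · obtain ⟨P, hPQ, hPc, hPe, hPi, hPf, i, hPz⟩ := fixed_sylow (Qs W) hxQ hx3 hy3 hxy
      (fun q hq h => hC q hq h) P0 (Or.inl ⟨rfl, hP4, hP2⟩) hcnt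
    have hz : ∀ q ∈ P ⊓ Qs W, π (xX ^ i.val * yX) * q = q * π (xX ^ i.val * yX) := fun q hq => by
      rw [map_mul, map_pow]; exact hPz q hq.1
    have hc := lft_card i P hz
    rw [inf_eq_left.2 hPQ, hPc, hP4] at hc
    refine ⟨i, lft i P, fun s hs => hs.2, fun s hs => Subgroup.mem_centralizer_singleton_iff.1 hs.1.2,
      Or.inl ⟨hc, fun s hs => ?_⟩, fun s hs => ?_, fun s hs hsx => ?_⟩
    · obtain ⟨g, hg, rfl⟩ := hs.1.1
      have h : (g : G) * g ∈ W := (hπ1 (a := g * g)).1 (by rw [map_mul]; exact hPe rfl _ hg.1)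
      exact hinjW i _ h (Commute.mul_left (Subgroup.mem_centralizer_singleton_iff.1 hs.1.2)
        (Subgroup.mem_centralizer_singleton_iff.1 hs.1.2))
    · obtain ⟨g, hg, rfl⟩ := hs.1.1
      refine ⟨⟨⟨xX * g * xX⁻¹, ?_, rfl⟩, ?_⟩, (show x * (g : G) * x⁻¹ ∈
        Subgroup.centralizer (W : Set G) from mul_mem (mul_mem A.x_mem hs.2) (inv_mem A.x_mem))⟩
      · show π (xX * g * xX⁻¹) ∈ P ⊓ Qs W
        rw [map_mul, map_mul, map_inv]
        exact ⟨(hPi _ hg.1).1, hQn.conj_mem _ hg.2 _⟩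
      · refine Subgroup.mem_centralizer_singleton_iff.2 ?_
        have h1 : Commute x (x ^ i.val * y) := (A.z_facts i).2.2
        exact (Commute.mul_left (Commute.mul_left h1
          (Subgroup.mem_centralizer_singleton_iff.1 hs.1.2)) (Commute.inv_left h1)).eq
    · obtain ⟨g, hg, rfl⟩ := hs.1.1
      refine hinjW i _ (hπ1.1 (hPf _ hg.1 ?_)) (Subgroup.mem_centralizer_singleton_iff.1 hs.1.2)
      rw [← map_mul, ← map_mul]
      exact congrArg π (Subtype.ext hsx.symm)
  · obtain ⟨P, hPQ, hPc, hPe, hPi, hPf, i, hPz⟩ := fixed_sylow (Qs W) hxQ hx3 hy3 hxy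
      (fun q hq h => hC q hq h) P0 (Or.inr ⟨rfl, hP7⟩) hcnt
    have hz : ∀ q ∈ P ⊓ Qs W, π (xX ^ i.val * yX) * q = q * π (xX ^ i.val * yX) := fun q hq => by
      rw [map_mul, map_pow]; exact hPz q hq.1
    have hc := lft_card i P hz
    rw [inf_eq_left.2 hPQ, hPc, hP7] at hc
    refine ⟨i, lft i P, fun s hs => hs.2, fun s hs => Subgroup.mem_centralizer_singleton_iff.1 hs.1.2,
      Or.inr hc, fun s hs => ?_, fun s hs hsx => ?_⟩
    · obtain ⟨g, hg, rfl⟩ := hs.1.1
      refine ⟨⟨⟨xX * g * xX⁻¹, ?_, rfl⟩, ?_⟩, (show x * (g : G) * x⁻¹ ∈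
        Subgroup.centralizer (W : Set G) from mul_mem (mul_mem A.x_mem hs.2) (inv_mem A.x_mem))⟩
      · show π (xX * g * xX⁻¹) ∈ P ⊓ Qs W
        rw [map_mul, map_mul, map_inv]
        exact ⟨(hPi _ hg.1).1, hQn.conj_mem _ hg.2 _⟩
      · refine Subgroup.mem_centralizer_singleton_iff.2 ?_
        have h1 : Commute x (x ^ i.val * y) := (A.z_facts i).2.2
        exact (Commute.mul_left (Commute.mul_left h1
          (Subgroup.mem_centralizer_singleton_iff.1 hs.1.2)) (Commute.inv_left h1)).eq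
    · obtain ⟨g, hg, rfl⟩ := hs.1.1
      refine hinjW i _ (hπ1.1 (hPf _ hg.1 ?_)) (Subgroup.mem_centralizer_singleton_iff.1 hs.1.2)
      rw [← map_mul, ← map_mul]
      exact congrArg π (Subtype.ext hsx.symm)

end FourAct

end Cfsg.Agent.A9Three
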