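import Cfsg.Agent.Lib.TwoGroups.CentFour
import Mathlib.GroupTheory.Sylow

/-!
S3339: no elementary abelian subgroup of order eight next to a self-centralising four-group.
-/

set_option autoImplicit false
set_option linter.style.haveILetI false

namespace Cfsg.Agent.A9Three

universe u

/-- A finite group with a self-centralising four-group has no elementary abelian subgroup of order
eight. -/
theorem rank_false {Y : Type u} [Group Y] [Finite Y] (W F : Subgroup Y) (hW : Nat.card W = 4)
    (hW2 : ∀ w ∈ W, w * w = 1) (hC : Subgroup.centralizer (W : Set Y) ≤ W) (hF : Nat.card F = 8)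
    (hF2 : ∀ f ∈ F, f * f = 1) : False := by
  classical
  haveI : Fact (Nat.Prime 2) := ⟨Nat.prime_two⟩
  have hWp : IsPGroup 2 W := IsPGroup.of_card (n := 2) hW
  obtain ⟨P, hP⟩ := hWp.exists_le_sylow
  obtain ⟨R, hR⟩ := (IsPGroup.of_card (n := 3) hF : IsPGroup 2 F).exists_le_sylow
  obtain ⟨g, hg⟩ := MulAction.exists_smul_eq Y R P
  let F' : Subgroup Y := F.map (MulAut.conj g).toMonoidHom
  have hF'P : F' ≤ (P : Subgroup Y) := by
    rintro _ ⟨f, hf, rfl⟩
    rw [← hg, Sylow.coe_subgroup_smul]
    exact Subgroup.smul_mem_pointwise_smul f _ _ (hR hf)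
  have h8 : 8 ≤ Nat.card (P : Subgroup Y) := by
    rw [← hF, ← Subgroup.card_map_of_injective (f := (MulAut.conj g).toMonoidHom)
      (MulAut.conj g).injective]
    exact Subgroup.card_le_of_le hF'P
  haveI : Nontrivial (P : Subgroup Y) := Finite.one_lt_card_iff_nontrivial.1 (by omega)
  haveI : Nontrivial (Subgroup.center (P : Subgroup Y)) := P.isPGroup'.center_nontrivial
  obtain ⟨⟨z, hz⟩, hz1⟩ := exists_ne (1 : Subgroup.center (P : Subgroup Y))
  have hz1' : (z : Y) ≠ 1 := fun e => hz1 (Subtype.ext (Subtype.ext e))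
  have hzW : (z : Y) ∈ W := hC (Subgroup.mem_centralizer_iff.2 fun w hw =>
    congrArg Subtype.val (Subgroup.mem_center_iff.1 hz ⟨w, hP hw⟩))
  -- the other element of `W`
  obtain ⟨w, hw, hwz, hw1⟩ : ∃ w ∈ W, w ≠ (z : Y) ∧ w ≠ 1 := by
    by_contra hc
    push Not at hc
    have hle : (W : Set Y) ⊆ {1, (z : Y)} := fun w hw => by
      by_cases h : w = (z : Y)
      · exact Or.inr h
      · exact Or.inl (hc w hw h)
    have h := Set.ncard_le_ncard hle (Set.toFinite _)
    rw [← Nat.card_coe_set_eq] at h
    have h4 : Nat.card (W : Set Y) = 4 := hW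
    have h2 : ({1, (z : Y)} : Set Y).ncard ≤ 2 :=
      le_trans (Set.ncard_insert_le _ _) (by rw [Set.ncard_singleton])
    omega
  have hgen : (W : Set Y) ⊆ {1, w, (z : Y), w * z} := by
    have hcard : ({1, w, (z : Y), w * z} : Finset Y).card = 4 := by
      rw [Finset.card_insert_of_notMem (by
          simp only [Finset.mem_insert, Finset.mem_singleton, not_or]
          exact ⟨Ne.symm hw1, Ne.symm hz1', fun e => hwz (by
            rw [← mul_one w, ← hW2 _ hzW, ← mul_assoc, ← e, one_mul])⟩),
        Finset.card_insert_of_notMem (by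
          simp only [Finset.mem_insert, Finset.mem_singleton, not_or]
          exact ⟨hwz, fun e => hz1' (left_eq_mul.1 e)⟩),
        Finset.card_insert_of_notMem (by
          simp only [Finset.mem_singleton]
          exact fun e => hw1 (right_eq_mul.1 e)), Finset.card_singleton]
    have hsub : (({1, w, (z : Y), w * z} : Finset Y) : Set Y) ⊆ (W : Set Y) := by
      intro v hv
      simp only [Finset.coe_insert, Finset.coe_singleton, Set.mem_insert_iff,
        Set.mem_singleton_iff] at hv
      rcases hv with rfl | rfl | rfl | rfl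
      exacts [one_mem _, hw, hzW, mul_mem hw hzW]
    have heq := Set.eq_of_subset_of_ncard_le hsub (by
      rw [Set.ncard_coe_finset, hcard, ← Nat.card_coe_set_eq]
      exact le_of_eq hW) (Set.toFinite _)
    rw [← heq]
    simp
  set x : (P : Subgroup Y) := ⟨w, hP hw⟩
  have hx2 : orderOf x = 2 := orderOf_eq_prime (Subtype.ext (by
    push_cast; rw [pow_two]; exact hW2 w hw)) (fun e => hw1 (congrArg Subtype.val e))
  have hCx : Nat.card (Subgroup.centralizer ({x} : Set (P : Subgroup Y))) = 4 := by
    rw [← hW]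
    refine Nat.card_eq_of_bijective (fun c => ⟨((c : (P : Subgroup Y)) : Y), ?_⟩)
      ⟨fun c c' e => Subtype.ext (Subtype.ext (congrArg (fun v : W => (v : Y)) e)), fun v => ?_⟩
    · have hcw : ((c : (P : Subgroup Y)) : Y) * w = w * (c : (P : Subgroup Y)) :=
        congrArg Subtype.val (Subgroup.mem_centralizer_singleton_iff.1 c.2)
      have hcz : ((c : (P : Subgroup Y)) : Y) * z = z * (c : (P : Subgroup Y)) :=
        congrArg Subtype.val (Subgroup.mem_center_iff.1 hz c.1)
      refine hC (Subgroup.mem_centralizer_iff.2 fun v hv => ?_)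
      rcases hgen hv with rfl | rfl | rfl | rfl
      · rw [one_mul, mul_one]
      · exact hcw.symm
      · exact hcz.symm
      · exact ((Commute.mul_right hcw hcz).eq).symm
    · refine ⟨⟨⟨v, hP v.2⟩, Subgroup.mem_centralizer_singleton_iff.2 (Subtype.ext ?_)⟩, rfl⟩
      show (v : Y) * w = w * v
      calc (v : Y) * w = (v : Y) * w * ((v * w) * (v * w))⁻¹ := by
            rw [hW2 _ (mul_mem v.2 hw), inv_one, mul_one]
        _ = w⁻¹ * (v : Y)⁻¹ := by group
        _ = _ := by
            rw [inv_eq_of_mul_eq_one_left (hW2 w hw), inv_eq_of_mul_eq_one_left (hW2 v v.2)]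
  obtain ⟨a, ha⟩ := CentFour.exists_cyclic_index_two _ P.isPGroup' x hx2 hCx h8
  let F2 : Subgroup (P : Subgroup Y) := F'.subgroupOf (P : Subgroup Y)
  have hF2' : ∀ f ∈ F2, f * f = 1 := by
    intro f hf
    obtain ⟨f0, hf0, hfe⟩ := hf
    refine Subtype.ext ?_
    show (f : Y) * f = 1
    rw [← (show MulAut.conj g f0 = (f : Y) from hfe), ← map_mul, hF2 f0 hf0, map_one]
  have hcardF2 : Nat.card F2 = 8 := by
    rw [Nat.card_congr (Subgroup.subgroupOfEquivOfLe hF'P).toEquiv,
      Subgroup.card_map_of_injective (f := (MulAut.conj g).toMonoidHom) (MulAut.conj g).injective,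
      hF]
  have h1 := Subgroup.card_mul_index ((Subgroup.zpowers a).subgroupOf F2)
  have h2 : ((Subgroup.zpowers a).subgroupOf F2).index ≤ 2 := by
    haveI : (Subgroup.zpowers a).Normal := Subgroup.normal_of_index_eq_two ha
    refine le_of_le_of_eq ?_ ha
    exact Nat.le_of_dvd (Nat.pos_of_ne_zero Subgroup.index_ne_zero_of_finite)
      (Subgroup.relIndex_dvd_index_of_normal _ _)
  have h3 : Nat.card ((Subgroup.zpowers a).subgroupOf F2) ≤ 2 := by
    let S := (Subgroup.zpowers a).subgroupOf F2
    let f : S →* Subgroup.zpowers a :=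
      (F2.subtype.comp S.subtype).codRestrict _ fun s => s.2
    have hf : Function.Injective f := fun s s' e => Subtype.ext (Subtype.ext
      (congrArg (fun v : Subgroup.zpowers a => (v : (P : Subgroup Y))) e))
    haveI : IsCyclic S := isCyclic_of_injective f hf
    obtain ⟨s, hs⟩ := IsCyclic.exists_generator (α := S)
    rw [← orderOf_eq_card_of_forall_mem_zpowers hs]
    refine orderOf_le_of_pow_eq_one (by norm_num) (Subtype.ext (Subtype.ext ?_))
    push_cast
    rw [pow_two]
    exact hF2' _ (s : F2).2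
  rw [hcardF2] at h1
  nlinarith

end Cfsg.Agent.A9Three
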