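import Cfsg.Agent.Lib.A9Three.FoursW
import Cfsg.Agent.Lib.A9Three.Rank

/-!
S3339: the centraliser of a four-group of the conjugate factor `A₆` on four points contains a
three-cycle of the first factor.
-/

set_option autoImplicit false
set_option maxRecDepth 40000
set_option linter.style.haveILetI false

namespace Cfsg.Agent.A9Three

open Cfsg.Agent.ThreeTI.Mono
open Cfsg.Agent.ThreeTI.Cube (V)
open Equiv Cfsg.Agent.BoundedPres

universe u

/-- The four-group on four points, in the conjugate factor. -/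
def Vt {G : Type u} [Group G] (ι : Mo →* G) (ψ : A6 →* G) : Subgroup G := fourU.map (tw ι ψ)

theorem mem_Vt {G : Type u} [Group G] {ι : Mo →* G} {ψ : A6 →* G} {g : G} :
    g ∈ Vt ι ψ ↔ ∃ i, tw ι ψ (uEl i) = g := by
  constructor
  · rintro ⟨_, ⟨i, rfl⟩, h⟩; exact ⟨i, h⟩
  · rintro ⟨i, h⟩; exact ⟨_, ⟨i, rfl⟩, h⟩

theorem cent_U : ∀ p : Perm (Fin 6), Perm.sign p = 1 →
    (∀ i, p * (uEl i : Perm (Fin 6)) = (uEl i : Perm (Fin 6)) * p) →
      ∃ i, p = (uEl i : Perm (Fin 6)) := by decide +kernel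

theorem va_lb : ∀ i, perm9 (inJ va) (lb i) = lb (pB i) := by decide +kernel

theorem B_norm : (∀ i, ∃ j, sB * uEl i * sB⁻¹ = uEl j) ∧
    (∀ i, i ≠ 0 → uEl 3 = uEl i ∨ uEl 3 = sB * uEl i * sB⁻¹ ∨
      uEl 3 = sB * (sB * uEl i * sB⁻¹) * sB⁻¹) ∧
    (∀ i, i ≠ 0 → ∀ j, j = 0 ∨ uEl j = uEl i ∨ uEl j = sB * uEl i * sB⁻¹ ∨
      uEl j = sB * (sB * uEl i * sB⁻¹) * sB⁻¹) := by decide +kernel

theorem t_facts : perm9 (inQ ⟨1⟩) = six pT ∧
    (∀ i, perm9 (inQ ⟨1⟩) (lb i) = lb ((swap 0 1 : Perm (Fin 6)) i)) ∧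
    inQ (⟨1⟩ : Rot) * inJ va = inJ va * inQ ⟨1⟩ ∧ inQ (⟨1⟩ : Rot) * inQ ⟨1⟩ = 1 ∧
    inQ (⟨1⟩ : Rot) * inQ ⟨2⟩ = inQ ⟨2⟩ * inQ ⟨1⟩ := by decide +kernel

theorem slice_class : ∀ i : Fin 3, i ≠ 0 → cl (inJ (v2 ^ i.val * va)) = cl (inJ vb) ∨
    cl (inJ (v2 ^ i.val * va)) = cl (inJ vc) := by decide +kernel

theorem no_center : ∀ p : Perm (Fin 6), Perm.sign p = 1 → p * pA = pA * p → p * pR = pR * p →
    p = 1 := by decide +kernel

theorem v_ne : va ≠ 1 ∧ v2 ≠ 1 := by decide +kernel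

theorem no_seven : ∀ p : Perm (Fin 6), p ^ 7 = 1 → p = 1 := by decide +kernel

/-- A product without order three. -/
def Ok (p : Perm (Fin 6)) : Prop := p * p * p = 1 → p = 1

instance (p : Perm (Fin 6)) : Decidable (Ok p) := by unfold Ok; infer_instance

/-- Conjugation by the second translation. -/
def cB (p : Perm (Fin 6)) : Perm (Fin 6) := pB * p * pB⁻¹
/-- Conjugation by the first rotation. -/
def cT (p : Perm (Fin 6)) : Perm (Fin 6) := pT * p * pT⁻¹

set_option synthInstance.maxSize 1000 in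
theorem elem_lemma : ∀ g : Perm (Fin 6), Perm.sign g = 1 →
    Ok g → Ok (g * g * cB g * cB (cB g)) → Ok (g * g * cB (cB g) * cB g) →
    Ok (g * cB g * g * cB (cB g)) → Ok (g * cT g) → Ok (cB g * cT g) → Ok (cB (cB g) * cT g) →
      ∃ i, g = (uEl i : Perm (Fin 6)) := by decide +kernel

/-- The connecting three-cycle of the first factor. -/
def sC5 : A6 := c6 5 (by decide)

set_option synthInstance.maxSize 1000 in
theorem four_case : ∀ g : Perm (Fin 6), Perm.sign g = 1 → g * g = 1 → g * cB g = cB (cB g) →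
    cB g ≠ g → (∃ i, g = (uEl i : Perm (Fin 6))) ∨
      cyc 0 1 5 = pT * g * cB g ∨ cyc 0 1 5 = pT * cB g ∨ cyc 0 1 5 = pT * g ∨
      cyc 0 1 5 = g * cB g * pT ∨ cyc 0 1 5 = cB g * pT ∨ cyc 0 1 5 = g * pT := by decide +kernel

theorem cent_T : ∀ p : Perm (Fin 6), Perm.sign p = 1 → p * pT = pT * p → p ^ 4 = 1 := by
  decide +kernel

theorem cl_ab : cl (inJ va) ≠ cl (inJ vb) ∧ cl (inJ va⁻¹) ≠ cl (inJ vb) ∧
    cl (inJ (actFn swR (v1 * v2))) = cl (inJ vb) := by decide +kernel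

set_option synthInstance.maxSize 1000 in
theorem slots : ∀ (i i' : Fin 3) (j j' : Fin 2),
    let n := inJ (v2 ^ i.val) * inQ ((⟨1⟩ : Rot) ^ j.val)
    let n' := inJ (v2 ^ i'.val) * inQ ((⟨1⟩ : Rot) ^ j'.val)
    (n' * n⁻¹ * inJ v2 = inJ v2 * (n' * n⁻¹) → n' * n⁻¹ * (n' * n⁻¹) = 1 → i = i' ∧ j = j') ∧
      (n * inQ ⟨1⟩ = inQ ⟨1⟩ * n → i = 0) := by decide +kernel

theorem cl_b1 : cl (inJ vb) ≠ cl (inJ 1) := by decide +kernel

theorem eta_facts : cj (swap 0 1) sE * uEl 3 = uEl 3 * sE ∧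
    (∃ k : Perm (Fin 6), Perm.sign k = 1 ∧ k * pT * k⁻¹ = (uEl 3 : Perm (Fin 6))) := by
  decide +kernel

theorem rot12 : ∃ m : Mo, m * inQ ⟨1⟩ * m⁻¹ = inQ ⟨2⟩ := by decide +kernel

theorem g03_sign : Perm.sign (swap (0 : Fin 6) 3 * swap 1 4) = 1 := by decide +kernel

/-- A further involution commuting with the first rotation. -/
def sG : A6 := ev (swap 0 3 * swap 1 4) g03_sign

theorem F_facts : sT * sT = 1 ∧ wEl 2 * sT = sT * wEl 2 ∧ sG * sT = sT * sG ∧
    sG * sG = 1 ∧ wEl 2 * sG = sG * wEl 2 * sT ∧ cj (swap 0 1) (wEl 2) = wEl 2 ∧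
    cj (swap 0 1) sG = sG * sT ∧
    wEl 2 ≠ 1 ∧ wEl 2 ≠ sT ∧ sG ≠ 1 ∧ sG ≠ sT ∧ wEl 2 * sG ≠ 1 ∧ wEl 2 * sG ≠ sT := by
  decide +kernel

theorem two_facts : inQ (⟨2⟩ : Rot) * inQ ⟨2⟩ = 1 ∧
    ¬ inQ (⟨2⟩ : Rot) * inJ va = inJ va * inQ ⟨2⟩ ∧
    ¬ inQ (⟨1⟩ : Rot) * inJ v2 = inJ v2 * inQ ⟨1⟩ := by decide +kernel

theorem z2_cases : ∀ x : Multiplicative (ZMod 2), x = 1 ∨ x = Multiplicative.ofAdd 1 := by decide

/-- The homomorphism defined by an involution. -/
def z2Hom {K : Type u} [Group K] (a : K) (ha : a * a = 1) : Multiplicative (ZMod 2) →* K where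
  toFun x := if x = 1 then 1 else a
  map_one' := if_pos rfl
  map_mul' x y := by
    rcases z2_cases x with rfl | rfl <;> rcases z2_cases y with rfl | rfl <;>
      simp [show (Multiplicative.ofAdd (1 : ZMod 2)) * Multiplicative.ofAdd 1 = 1 by decide, ha]

/-- Three commuting involutions without relations generate a group of order eight. -/
theorem exists_eight {Y : Type u} [Group Y] {a b c : Y} (ha : a * a = 1) (hb : b * b = 1)
    (hc : c * c = 1) (hab : Commute a b) (hac : Commute a c) (hbc : Commute b c) (h1 : a ≠ 1)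
    (h2 : b ≠ 1) (h3 : c ≠ 1) (h12 : a * b ≠ 1) (h13 : a * c ≠ 1) (h23 : b * c ≠ 1)
    (h123 : a * b * c ≠ 1) : ∃ F : Subgroup Y, Nat.card F = 8 ∧ ∀ f ∈ F, f * f = 1 := by
  have comm : ∀ {p q : Y} (hp : p * p = 1) (hq : q * q = 1), Commute p q →
      ∀ x y, Commute (z2Hom p hp x) (z2Hom q hq y) := fun hp hq h x y => by
    rcases z2_cases x with rfl | rfl <;> rcases z2_cases y with rfl | rfl <;>
      simp [z2Hom, h, Commute.one_left, Commute.one_right]
  let φ := (z2Hom a ha).noncommCoprod (z2Hom b hb) (comm ha hb hab)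
  let Φ := φ.noncommCoprod (z2Hom c hc) fun p z => by
    rw [MonoidHom.noncommCoprod_apply]
    exact (comm ha hc hac p.1 z).mul_left (comm hb hc hbc p.2 z)
  have hΦ : Function.Injective Φ := by
    refine (injective_iff_map_eq_one Φ).2 ?_
    rintro ⟨⟨x, y⟩, z⟩ h
    rcases z2_cases x with rfl | rfl <;> rcases z2_cases y with rfl | rfl <;>
      rcases z2_cases z with rfl | rfl <;>
      simp [Φ, φ, z2Hom] at h ⊢ <;> contradiction
  refine ⟨Φ.range, ?_, ?_⟩
  · rw [← Nat.card_congr (MonoidHom.ofInjective hΦ).toEquiv]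
    simp [Nat.card_prod, Nat.card_eq_fintype_card]
  · rintro _ ⟨p, rfl⟩
    rw [← map_mul, (by decide : ∀ p : (Multiplicative (ZMod 2) × Multiplicative (ZMod 2)) ×
      Multiplicative (ZMod 2), p * p = 1) p, map_one]

namespace Psi

variable {G : Type u} [Group G] {ι : Mo →* G} {ψ : A6 →* G} (P : Psi ι ψ)
include P

theorem psi_T : ψ sT = ι (inQ ⟨1⟩) := P.agree _ _ t_facts.1

theorem y_act (s : A6) : ι (inJ va) * tw ι ψ s * (ι (inJ va))⁻¹ = tw ι ψ (sB * s * sB⁻¹) := by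
  rw [P.tw_act _ _ va_lb s]; rfl

theorem t_V (i : Fin 4) : Commute (ι (inQ ⟨1⟩)) (tw ι ψ (uEl i)) := by
  have h := P.tw_act _ _ t_facts.2.1 (uEl i)
  rw [show cj (swap 0 1) (uEl i) = uEl i from Subtype.ext (U_fix i)] at h
  exact mul_inv_eq_iff_eq_mul.1 h

theorem t_mem : ι (inQ ⟨1⟩) ∈ Subgroup.centralizer (Vt ι ψ : Set G) := by
  refine Subgroup.mem_centralizer_iff.2 fun w hw => ?_
  obtain ⟨i, rfl⟩ := mem_Vt.1 hw
  exact (P.t_V i).symm.eq

theorem card_Vt : Nat.card (Vt ι ψ) = 4 := by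
  rw [Vt, Subgroup.card_map_of_injective P.tw_inj, card_fourU]

theorem fourAct_V (C : Cfg ι) : FourAct (Vt ι ψ) (ι (inJ v2)) (ι (inJ va)) where
  exp w hw := by
    obtain ⟨i, rfl⟩ := mem_Vt.1 hw
    rw [← map_mul, four_mul.2.2.1, map_one]
  ne := ⟨_, mem_Vt.2 ⟨1, rfl⟩, fun h => absurd (four_inj.1 (P.tw_inj (h.trans (map_one _).symm) :
    uEl 1 = uEl 0)) (by decide)⟩
  xw w hw := by
    obtain ⟨i, rfl⟩ := mem_Vt.1 hw
    exact (P.tw_comm _).symm.eq
  x3 := by rw [← map_mul, ← map_mul, ← map_mul, ← map_mul, v_cube, map_one, map_one]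
  xne h := absurd (SemidirectProduct.inl_injective ((C.inj (h.trans (map_one ι).symm)).trans
    (map_one inJ).symm)) v_ne.2
  y3 := by rw [← map_mul, ← map_mul, ← map_mul, ← map_mul, v_cube, map_one, map_one]
  xy := by rw [← map_mul, ← map_mul, ← map_mul, ← map_mul, mul_comm v2]
  ynorm w hw := by
    obtain ⟨i, rfl⟩ := mem_Vt.1 hw
    obtain ⟨j, hj⟩ := B_norm.1 i
    exact mem_Vt.2 ⟨j, by rw [P.y_act, hj]⟩
  yfpf w hw h := by
    obtain ⟨i, rfl⟩ := mem_Vt.1 hw
    have e := P.y_act (uEl i)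
    rw [h, mul_inv_cancel_right] at e
    rw [U_B i (mul_inv_eq_iff_eq_mul.1 (P.tw_inj e).symm).symm]
    exact map_one _
  cent g hg hgx := by
    obtain ⟨n, s, rfl⟩ := P.cg_v2 (Subgroup.mem_centralizer_singleton_iff.2 hgx)
    obtain ⟨i, hi⟩ := cent_U s (Perm.mem_alternatingGroup.1 s.2) fun i => by
      refine congrArg Subtype.val (P.tw_inj (show tw ι ψ (s * uEl i) = tw ι ψ (uEl i * s) from ?_))
      have h := Subgroup.mem_centralizer_iff.1 hg _ (mem_Vt.2 ⟨i, rfl⟩)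
      rw [← mul_assoc, ← ((P.tw_comm _).symm.pow_left n).eq, mul_assoc, mul_assoc,
        mul_right_inj] at h
      rw [map_mul, map_mul, h]
    exact ⟨n, _, mem_Vt.2 ⟨i, rfl⟩, by rw [Subtype.ext hi]⟩

/-- A subgroup centralising `a` of order prime to three lies in the factor. -/
theorem coprime_le_range (C : Cfg ι) {S : Subgroup G}
    (hz : ∀ s ∈ S, s * ι (inJ va) = ι (inJ va) * s) (hco : (Nat.card S).Coprime 3) :
    S ≤ ψ.range := by
  intro s hs
  obtain ⟨j, hj⟩ := P.cover s (Subgroup.mem_centralizer_singleton_iff.2 (hz s hs))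
  set a := ι (inJ va)
  have ha3 : a ^ 3 = 1 := by rw [← map_pow, ← map_pow, va_cube, map_one, map_one]
  have h1 : a ^ (j * Nat.card S) ∈ ψ.range := by
    have h := pow_mem hj (Nat.card S)
    rw [(show Commute s (a ^ j) from Commute.pow_right (hz s hs) j).mul_pow, ← pow_mul,
      show s ^ Nat.card S = 1 from congrArg Subtype.val (pow_card_eq_one' (x := (⟨s, hs⟩ : S))),
      one_mul] at h
    exact h
  have hana : a ∉ ψ.range := by
    rintro ⟨p, hp⟩
    have hc : ∀ q, p * q = q * p := fun q => P.inj (by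
      rw [map_mul, map_mul, hp]; exact (P.psi_comm_va q).symm.eq)
    have hp1 : p = 1 := Subtype.ext (no_center _ (Perm.mem_alternatingGroup.1 p.2)
      (congrArg Subtype.val (hc sA)) (congrArg Subtype.val (hc sR)))
    rw [hp1, map_one] at hp
    exact absurd (SemidirectProduct.inl_injective ((C.inj (hp.symm.trans (map_one ι).symm)).trans
      (map_one inJ).symm)) v_ne.1
  have hj3 : 3 ∣ j := by
    by_contra h3
    have hcop : Nat.Coprime (j * Nat.card S) 3 :=
      Nat.Coprime.mul_left ((Nat.prime_three.coprime_iff_not_dvd.2 h3).symm) hco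
    obtain ⟨m, -, hm⟩ := Nat.exists_mul_mod_eq_one_of_coprime hcop (by norm_num)
    have := pow_mem h1 m
    rw [← pow_mul, pow_eq_pow_mod _ ha3, hm, pow_one] at this
    exact hana this
  obtain ⟨l, rfl⟩ := hj3
  rwa [pow_mul, ha3, one_pow, mul_one] at hj

/-- A subgroup normalised by `x` centralising the four-group meets the other four-group
trivially. -/
theorem no_U [Finite G] (C : Cfg ι) {S : Subgroup G}
    (hS : S ≤ Subgroup.centralizer (Vt ι ψ : Set G))
    (hx : ∀ s ∈ S, ι (inJ v2) * s * (ι (inJ v2))⁻¹ ∈ S) {i : Fin 4}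
    (hi : ψ (uEl i) ∈ S) : i = 0 := by
  by_contra h0
  have hB : ∀ {p : A6}, ψ p ∈ S → ψ (sB * p * sB⁻¹) ∈ S := fun {p} hp => by
    rw [map_mul, map_mul, map_inv, P.psi_B]; exact hx _ hp
  refine P.U_not_comm C fun j k => ?_
  have hj : ψ (uEl j) ∈ S := by
    rcases B_norm.2.2 i h0 j with rfl | e | e | e
    · rw [show uEl 0 = 1 from rfl, map_one]; exact one_mem _
    · rw [e]; exact hi
    · rw [e]; exact hB hi
    · rw [e]; exact hB (hB hi)
  exact (Subgroup.mem_centralizer_iff.1 (hS hj) _ (mem_Vt.2 ⟨k, rfl⟩)).symm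

variable [Finite G]

theorem Vt_small (C : Cfg ι) (i : Fin 3) (hi : i ≠ 0) {S : Subgroup G}
    (hz : ∀ s ∈ S, s * (ι (inJ v2) ^ i.val * ι (inJ va)) = ι (inJ v2) ^ i.val * ι (inJ va) * s)
    (hco : (Nat.card S).Coprime 3) : Nat.card S ≤ 2 := by
  refine C.coprime_le_two (slice_class i hi) 1 (fun s hs => ?_) hco
  rw [one_mul, inv_one, mul_one, map_mul, map_mul, map_pow, map_pow]
  exact hz s hs

theorem Vt_triv (C : Cfg ι) (i : Fin 3) (S : Subgroup G)
    (hS : S ≤ Subgroup.centralizer (Vt ι ψ : Set G))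
    (hz : ∀ s ∈ S, s * (ι (inJ v2) ^ i.val * ι (inJ va)) = ι (inJ v2) ^ i.val * ι (inJ va) * s)
    (hco : (Nat.card S).Coprime 3)
    (hn : ∀ n ∈ Subgroup.normalizer (Vt ι ψ : Set G),
      n * (ι (inJ v2) ^ i.val * ι (inJ va)) = ι (inJ v2) ^ i.val * ι (inJ va) * n →
        ∀ s ∈ S, n * s * n⁻¹ ∈ S) : S = ⊥ := by
  have A := P.fourAct_V C
  have hx := hn _ (Subgroup.centralizer_le_normalizer _ A.x_mem) (A.z_facts i).2.2.eq
  by_cases hi : i = 0
  · subst hi
    simp only [Fin.val_zero, pow_zero, one_mul] at hz hn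
    have ht := hn _ (Subgroup.centralizer_le_normalizer _ P.t_mem) (by
      rw [← map_mul, ← map_mul, t_facts.2.2.1])
    have hB : ∀ {p : A6}, ψ p ∈ S → ψ (sB * p * sB⁻¹) ∈ S := fun {p} hp => by
      rw [map_mul, map_mul, map_inv, P.psi_B]; exact hx _ hp
    have hT : ∀ {p : A6}, ψ p ∈ S → ψ (sT * p * sT⁻¹) ∈ S := fun {p} hp => by
      rw [map_mul, map_mul, map_inv, P.psi_T]; exact ht _ hp
    refine (Subgroup.eq_bot_iff_forall _).2 fun s hs => ?_
    obtain ⟨g, rfl⟩ := P.coprime_le_range C hz hco hs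
    have ok : ∀ {p : A6}, ψ p ∈ S → Ok (p : Perm (Fin 6)) := fun {p} hp h => by
      have h3 : (⟨ψ p, hp⟩ : S) ^ 3 = 1 := Subtype.ext (by
        push_cast
        rw [← map_pow, pow_three', show p * p * p = 1 from Subtype.ext h, map_one])
      have h1 := orderOf_dvd_of_pow_eq_one h3
      have h2 := Nat.Coprime.coprime_dvd_left (orderOf_dvd_natCard (⟨ψ p, hp⟩ : S)) hco
      have e : (⟨ψ p, hp⟩ : S) = 1 := orderOf_eq_one_iff.1 (by
        rcases (Nat.dvd_prime Nat.prime_three).1 h1 with e | e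
        · exact e
        · rw [e] at h2; norm_num at h2)
      exact congrArg Subtype.val (P.inj ((congrArg Subtype.val e).trans (map_one ψ).symm))
    have hb := hB hs
    have hbb := hB hb
    have hmul : ∀ {p q : A6}, ψ p ∈ S → ψ q ∈ S → ψ (p * q) ∈ S := fun hp hq => by
      rw [map_mul]; exact mul_mem hp hq
    obtain ⟨j, hj⟩ := elem_lemma g (Perm.mem_alternatingGroup.1 g.2) (ok hs)
      (ok (hmul (hmul (hmul hs hs) hb) hbb)) (ok (hmul (hmul (hmul hs hs) hbb) hb))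
      (ok (hmul (hmul (hmul hs hb) hs) hbb)) (ok (hmul hs (hT hs))) (ok (hmul hb (hT hs)))
      (ok (hmul hbb (hT hs)))
    rw [Subtype.ext hj] at hs ⊢
    rw [P.no_U C hS hx hs]
    exact map_one _
  · exact A.triv_of_le_two i hS hz hco (P.Vt_small C i hi hz hco) hx

/-- The dichotomy for the four-group on four points. -/
theorem dich_V (C : Cfg ι) : Nat.card (Subgroup.centralizer (Vt ι ψ : Set G)) ≤ 24 ∨
    ∀ i, Commute (ψ sC5) (tw ι ψ (uEl i)) := by
  have A := P.fourAct_V C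
  rcases A.dichotomy (P.Vt_triv C) with h | ⟨i, S, hS, hz, h, hx, hfix⟩
  · exact Or.inl (by rwa [P.card_Vt] at h)
  refine Or.inr ?_
  have hco : (Nat.card S).Coprime 3 := by rcases h with ⟨h, -⟩ | h <;> rw [h] <;> norm_num
  by_cases hi : i = 0
  swap
  · have := P.Vt_small C i hi hz hco
    rcases h with ⟨h, -⟩ | h <;> omega
  subst hi
  simp only [Fin.val_zero, pow_zero, one_mul] at hz
  have hr := P.coprime_le_range C hz hco
  have hS' : ∃ s ∈ S, s ≠ 1 := by
    by_contra hc; push Not at hc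
    rw [(Subgroup.eq_bot_iff_forall _).2 hc, Subgroup.card_bot] at h
    rcases h with ⟨h, -⟩ | h <;> omega
  obtain ⟨s, hs, hs1⟩ := hS'
  obtain ⟨g, rfl⟩ := hr hs
  rcases h with ⟨h4, hsq⟩ | h7
  · set gb : A6 := sB * g * sB⁻¹ with hgb
    set gbb : A6 := sB * gb * sB⁻¹ with hgbb
    have hB : ∀ {p : A6}, ψ p ∈ S → ψ (sB * p * sB⁻¹) ∈ S := fun {p} hp => by
      rw [map_mul, map_mul, map_inv, P.psi_B]; exact hx _ hp
    have hb : ψ gb ∈ S := hB hs
    have hbb : ψ gbb ∈ S := hB hb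
    have hne : gb ≠ g := fun e => hs1 (hfix _ hs (by
      rw [← P.psi_B, ← map_mul, ← map_mul, mul_inv_eq_iff_eq_mul.1 e]))
    have hg1 : g ≠ 1 := fun e => hs1 (by rw [e, map_one])
    have hb1 : gb ≠ 1 := fun e => hg1 (conj_eq_one_iff.1 e)
    have hgg : g * g = 1 := P.inj (by rw [map_mul, map_one]; exact hsq _ hs)
    have hT : ψ sT ∈ Subgroup.centralizer (Vt ι ψ : Set G) := P.psi_T ▸ P.t_mem
    have hgbb' : g * gb = gbb := by
      classical
      let L : Finset G := {1, ψ g, ψ gb, ψ (g * gb)}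
      have hL : L.card = 4 := by
        have e1 : ∀ {p q : A6}, p ≠ q → ψ p ≠ ψ q := fun h e => h (P.inj e)
        rw [show L = ({1, g, gb, g * gb} : Finset A6).map ⟨ψ, P.inj⟩ by
          simp [L, Finset.map_insert], Finset.card_map,
          Finset.card_insert_of_notMem (by
            simp only [Finset.mem_insert, Finset.mem_singleton, not_or]
            exact ⟨Ne.symm hg1, Ne.symm hb1, fun e => hne (by
              rw [← one_mul gb, ← hgg, mul_assoc, ← e, mul_one])⟩),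
          Finset.card_insert_of_notMem (by
            simp only [Finset.mem_insert, Finset.mem_singleton, not_or]
            exact ⟨Ne.symm hne, fun e => hb1 (left_eq_mul.1 e)⟩),
          Finset.card_insert_of_notMem (by
            simp only [Finset.mem_singleton]
            exact fun e => hg1 (right_eq_mul.1 e)), Finset.card_singleton]
      have hsub : (L : Set G) ⊆ (S : Set G) := by
        intro v hv
        simp only [L, Finset.coe_insert, Finset.coe_singleton, Set.mem_insert_iff,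
          Set.mem_singleton_iff] at hv
        rcases hv with rfl | rfl | rfl | rfl
        exacts [one_mem _, hs, hb, by rw [map_mul]; exact mul_mem hs hb]
      have heq := Set.eq_of_subset_of_ncard_le hsub (by
        rw [Set.ncard_coe_finset, hL, ← Nat.card_coe_set_eq]; exact le_of_eq h4) (Set.toFinite _)
      have : ψ gbb ∈ (L : Set G) := heq ▸ hbb
      simp only [L, Finset.coe_insert, Finset.coe_singleton, Set.mem_insert_iff,
        Set.mem_singleton_iff] at this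
      rcases this with e | e | e | e
      · exact absurd (conj_eq_one_iff.1 (P.inj (e.trans (map_one ψ).symm))) hb1
      · exfalso
        have e' := P.inj e
        refine hne ?_
        have h3 : sB * sB * sB = 1 := by decide +kernel
        calc gb = sB * gbb * sB⁻¹ := by rw [e']
          _ = sB * sB * sB * g * (sB * sB * sB)⁻¹ := by rw [hgbb, hgb]; group
          _ = g := by rw [h3, one_mul, inv_one, mul_one]
      · exfalso
        have e' := P.inj e
        refine hne ?_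
        rw [hgbb, mul_inv_eq_iff_eq_mul] at e'
        have e2 : sB * gb * sB⁻¹ = gb := mul_inv_eq_iff_eq_mul.2 e'
        have e3 : sB * g * sB⁻¹ = sB * gb * sB⁻¹ := by rw [e2, ← hgb]
        exact (mul_right_inj sB).1 (mul_left_injective _ e3) |>.symm
      · exact (P.inj e).symm
    have hcB : ∀ p : A6, ((sB * p * sB⁻¹ : A6) : Perm (Fin 6)) = cB p := fun p => rfl
    rcases four_case g (Perm.mem_alternatingGroup.1 g.2) (congrArg Subtype.val hgg)
      (congrArg Subtype.val hgbb') (fun e => hne (Subtype.ext e)) with ⟨j, hj⟩ | hw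
    · rw [Subtype.ext hj] at hs hs1
      rw [P.no_U C hS hx hs] at hs1
      exact absurd (map_one ψ) hs1
    · have key : ψ sC5 ∈ Subgroup.centralizer (Vt ι ψ : Set G) := by
        have cg1 := hS hs
        have cg2 := hS hb
        rcases hw with e | e | e | e | e | e
        · rw [show sC5 = sT * g * gb from Subtype.ext e, map_mul, map_mul]
          exact mul_mem (mul_mem hT cg1) cg2
        · rw [show sC5 = sT * gb from Subtype.ext e, map_mul]
          exact mul_mem hT cg2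
        · rw [show sC5 = sT * g from Subtype.ext e, map_mul]
          exact mul_mem hT cg1
        · rw [show sC5 = g * gb * sT from Subtype.ext e, map_mul, map_mul]
          exact mul_mem (mul_mem cg1 cg2) hT
        · rw [show sC5 = gb * sT from Subtype.ext e, map_mul]
          exact mul_mem cg2 hT
        · rw [show sC5 = g * sT from Subtype.ext e, map_mul]
          exact mul_mem cg1 hT
      exact fun i => (Subgroup.mem_centralizer_iff.1 key _ (mem_Vt.2 ⟨i, rfl⟩)).symm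
  · exfalso
    have h := congrArg Subtype.val (pow_card_eq_one' (x := (⟨ψ g, hs⟩ : S)))
    rw [h7] at h
    push_cast at h
    rw [← map_pow] at h
    refine hs1 ?_
    rw [show g = 1 from Subtype.ext (no_seven _ (congrArg Subtype.val
      (P.inj (h.trans (map_one ψ).symm)))), map_one]

/-- No element of the second class centralises the first rotation. -/
theorem t_not_b (C : Cfg ι) {g : G} (hg : Commute g (ι (inQ ⟨1⟩)))
    (hc : IsConj (ι (inJ vb)) g) : False := by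
  classical
  haveI : Fact (Nat.Prime 3) := ⟨Nat.prime_three⟩
  set t := ι (inQ ⟨1⟩)
  set Ct := Subgroup.centralizer ({t} : Set G)
  set a : Ct := ⟨ι (inJ va), Subgroup.mem_centralizer_singleton_iff.2 (by
    rw [← map_mul, ← map_mul, t_facts.2.2.1])⟩
  have ha3 : a ^ 3 = 1 := Subtype.ext (by
    push_cast; rw [← map_pow, ← map_pow, va_cube, map_one, map_one])
  have ha1 : a ≠ 1 := fun h => absurd (SemidirectProduct.inl_injective
    ((C.inj ((congrArg Subtype.val h).trans (map_one ι).symm)).trans (map_one inJ).symm))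
    v_ne.1
  have hao : orderOf a = 3 := orderOf_eq_prime ha3 ha1
  obtain ⟨Q, hQ⟩ := (IsPGroup.of_card (n := 1) (by rw [Nat.card_zpowers, hao, pow_one]) :
    IsPGroup 3 (Subgroup.zpowers a)).exists_le_sylow
  have haQ : a ∈ (Q : Subgroup Ct) := hQ (Subgroup.mem_zpowers a)
  have hcen : ∀ c : Ct, c ∈ (Q : Subgroup Ct) → Commute c a → c ∈ Subgroup.zpowers a := by
    intro c hcQ hca
    obtain ⟨k, hk⟩ := Q.isPGroup' ⟨c, hcQ⟩
    have hck : c ^ 3 ^ k = 1 := congrArg Subtype.val hk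
    have hca' : (c : G) * ι (inJ va) = ι (inJ va) * c := congrArg Subtype.val hca.eq
    obtain ⟨i, s, hs⟩ := P.cover c (Subgroup.mem_centralizer_singleton_iff.2 hca')
    have hsT : Commute (ψ s) (ψ sT) := by
      rw [hs, P.psi_T]
      refine Commute.mul_left (Subgroup.mem_centralizer_singleton_iff.1 c.2) (Commute.pow_left ?_ i)
      show Commute (ι (inJ va)) t
      rw [Commute, SemiconjBy, ← map_mul, ← map_mul, t_facts.2.2.1]
    rw [Commute, SemiconjBy, ← map_mul, ← map_mul] at hsT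
    have hs4 : ψ s ^ 4 = 1 := by
      rw [← map_pow, show s ^ 4 = 1 from Subtype.ext (by
        push_cast
        exact cent_T _ (Perm.mem_alternatingGroup.1 s.2) (congrArg Subtype.val (P.inj hsT))),
        map_one]
    have hc4 : c ^ 4 ∈ Subgroup.zpowers a := by
      refine ⟨-((i * 4 : ℕ) : ℤ), Subtype.ext ?_⟩
      show ((a ^ (-((i * 4 : ℕ) : ℤ)) : Ct) : G) = _
      rw [hs, (show Commute (c : G) (ι (inJ va) ^ i) from Commute.pow_right hca' i).mul_pow,
        ← pow_mul] at hs4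
      push_cast
      rw [zpow_neg, zpow_mul, zpow_natCast, zpow_ofNat]
      exact (eq_inv_of_mul_eq_one_left (by rw [← pow_mul]; exact hs4)).symm
    have hcop : Nat.Coprime 4 (3 ^ k) := Nat.Coprime.pow_right k (by norm_num)
    have hb := Nat.gcd_eq_gcd_ab 4 (3 ^ k)
    rw [hcop.gcd_eq_one] at hb
    rw [← zpow_one c, show (1 : ℤ) = _ from hb, zpow_add, zpow_mul, zpow_mul, zpow_natCast,
      zpow_natCast, hck, one_zpow, mul_one]
    exact zpow_mem hc4 _
  haveI : Nontrivial (Q : Subgroup Ct) :=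
    ⟨⟨⟨a, haQ⟩, 1, fun h => ha1 (congrArg Subtype.val h)⟩⟩
  haveI : Nontrivial (Subgroup.center (Q : Subgroup Ct)) := Q.isPGroup'.center_nontrivial
  obtain ⟨⟨z, hz⟩, hz1⟩ := exists_ne (1 : Subgroup.center (Q : Subgroup Ct))
  have hza : (z : Ct) ∈ Subgroup.zpowers a := hcen z z.2
    (congrArg Subtype.val (Subgroup.mem_center_iff.1 hz ⟨a, haQ⟩)).symm
  have haz : a ∈ Subgroup.zpowers (z : Ct) := by
    have hz1' : (z : Ct) ≠ 1 := fun h => hz1 (Subtype.ext (Subtype.ext h))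
    obtain ⟨w, hw⟩ := mem_zpowers_of_prime_card (G := Subgroup.zpowers a) (p := 3)
      (by rw [Nat.card_zpowers, hao]) (g := ⟨z, hza⟩)
      (g' := ⟨a, Subgroup.mem_zpowers a⟩) (fun h => hz1' (congrArg Subtype.val h))
    exact ⟨w, congrArg Subtype.val hw⟩
  have hQa : ∀ c ∈ (Q : Subgroup Ct), c ∈ Subgroup.zpowers a := fun c hc => by
    refine hcen c hc ?_
    obtain ⟨w, hw⟩ := haz
    rw [← hw]
    exact Commute.zpow_right (congrArg Subtype.val (Subgroup.mem_center_iff.1 hz ⟨c, hc⟩)) w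
  -- move `g` into the subgroup generated by `a`
  obtain ⟨k0, hk0⟩ := isConj_iff.1 hc
  set g' : Ct := ⟨g, Subgroup.mem_centralizer_singleton_iff.2 hg⟩
  have hb3 : ι (inJ vb) ^ 3 = 1 := by
    rw [← map_pow, ← map_pow, pow_three', v_cube, map_one, map_one]
  have hg3 : g' ^ 3 = 1 := Subtype.ext (by
    show g ^ 3 = 1
    rw [← hk0, conj_pow, hb3, mul_one, mul_inv_cancel])
  have hgp : IsPGroup 3 (Subgroup.zpowers g') := fun x => ⟨1, by
    obtain ⟨n, hn⟩ := x.2
    refine Subtype.ext ?_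
    show ((x : Subgroup.zpowers g') : Ct) ^ 3 ^ 1 = 1
    rw [← hn, pow_one]
    show (g' ^ n) ^ 3 = 1
    rw [← zpow_natCast, ← zpow_mul, mul_comm, zpow_mul, zpow_natCast, hg3, one_zpow]⟩
  obtain ⟨R, hR⟩ := hgp.exists_le_sylow
  obtain ⟨k, hk⟩ := MulAction.exists_smul_eq Ct R Q
  have hgQ : k * g' * k⁻¹ ∈ (Q : Subgroup Ct) := by
    rw [← hk, Sylow.coe_subgroup_smul]
    exact Subgroup.smul_mem_pointwise_smul _ _ _ (hR (Subgroup.mem_zpowers g'))
  obtain ⟨n, hn⟩ := hQa _ hgQ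
  have hn' : (k : G) * g * (k : G)⁻¹ = ι (inJ va) ^ n := (congrArg Subtype.val hn).symm
  have hconj : IsConj (ι (inJ vb)) (ι (inJ (va ^ n))) := by
    refine isConj_iff.2 ⟨(k : G) * k0, ?_⟩
    rw [map_zpow, map_zpow, ← hn', ← hk0]
    group
  have hcl := C.isConj_inJ hconj
  have hv3 : va ^ (3 : ℤ) = 1 := by rw [zpow_ofNat, pow_three', v_cube]
  rw [← Int.emod_add_mul_ediv n 3, zpow_add, zpow_mul va 3, hv3, one_zpow, mul_one] at hcl
  rcases (show n % 3 = 0 ∨ n % 3 = 1 ∨ n % 3 = 2 by omega) with e | e | e <;> rw [e] at hcl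
  · rw [zpow_zero] at hcl; exact cl_b1 hcl
  · rw [zpow_one] at hcl; exact cl_ab.1 hcl.symm
  · rw [show va ^ (2 : ℤ) = va⁻¹ by rw [eq_inv_iff_mul_eq_one, ← zpow_add_one]; exact hv3] at hcl
    exact cl_ab.2.1 hcl.symm

/-- An involution of the four-group is not conjugate to its product with the first rotation. -/
theorem not_conj_vt (C : Cfg ι) {i : Fin 4} (hi : i ≠ 0)
    (h : IsConj (tw ι ψ (uEl i)) (ι (inQ ⟨1⟩) * tw ι ψ (uEl i))) : False := by
  set t := ι (inQ ⟨1⟩)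
  set y := ι (inJ va)
  have hyt : y * t * y⁻¹ = t := by
    rw [mul_inv_eq_iff_eq_mul, ← map_mul, ← map_mul, t_facts.2.2.1]
  have step : ∀ {s : A6}, IsConj (tw ι ψ s) (t * tw ι ψ s) →
      IsConj (tw ι ψ (sB * s * sB⁻¹)) (t * tw ι ψ (sB * s * sB⁻¹)) := by
    intro s hs
    obtain ⟨c, hc⟩ := isConj_iff.1 hs
    refine isConj_iff.2 ⟨y * c * y⁻¹, ?_⟩
    rw [← P.y_act]
    calc y * c * y⁻¹ * (y * tw ι ψ s * y⁻¹) * (y * c * y⁻¹)⁻¹
        = y * (c * tw ι ψ s * c⁻¹) * y⁻¹ := by group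
      _ = (y * t * y⁻¹) * (y * tw ι ψ s * y⁻¹) := by rw [hc]; group
      _ = _ := by rw [hyt]
  have h3 : IsConj (tw ι ψ (uEl 3)) (t * tw ι ψ (uEl 3)) := by
    rcases B_norm.2.1 i hi with e | e | e <;> rw [e]
    exacts [h, step h, step (step h)]
  obtain ⟨k, hk, hkT⟩ := eta_facts.2
  obtain ⟨m, hm⟩ := rot12
  have ht3 : IsConj t (tw ι ψ (uEl 3)) := by
    refine isConj_iff.2 ⟨tw ι ψ (ev k hk) * ι m, ?_⟩
    have e : tw ι ψ sT = ι (inQ ⟨2⟩) := P.tw_agree _ sT T_agree.1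
    rw [show uEl 3 = ev k hk * sT * (ev k hk)⁻¹ from Subtype.ext hkT.symm, map_mul, map_mul,
      map_inv, e, ← hm, map_mul, map_mul, map_inv, show ι (inQ ⟨1⟩) = t from rfl]
    group
  obtain ⟨g, hg⟩ := isConj_iff.1 (ht3.trans h3)
  set η := tw ι ψ sE
  have ht2 : t * t = 1 := by rw [← map_mul, t_facts.2.2.2.1, map_one]
  have hη : Commute η (t * tw ι ψ (uEl 3)) := by
    have e1 : t * η * t⁻¹ = tw ι ψ (cj (swap 0 1) sE) := P.tw_act _ _ t_facts.2.1 sE
    rw [← eq_inv_of_mul_eq_one_left ht2] at e1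
    have e2 : η * t = t * tw ι ψ (cj (swap 0 1) sE) := by
      rw [← e1, ← mul_assoc, ← mul_assoc, ht2, one_mul]
    show η * (t * tw ι ψ (uEl 3)) = t * tw ι ψ (uEl 3) * η
    rw [← mul_assoc, e2, mul_assoc, ← map_mul, eta_facts.1, map_mul, mul_assoc]
  obtain ⟨K, hK, hKE⟩ := k_E
  set m0 : Mo := inJ (actFn swR (v1 * v2))
  have hm0 : tw ι ψ (sA * sB) = ι m0 := P.tw_agree m0 (sA * sB) sum_agree
  have hηb : IsConj (ι (inJ vb)) η := by
    refine (ι.map_isConj (isConj_of_cl cl_ab.2.2.symm)).trans (isConj_iff.2 ⟨tw ι ψ (ev K hK), ?_⟩)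
    rw [← hm0, ← map_inv, ← map_mul, ← map_mul]
    exact congrArg (tw ι ψ) (Subtype.ext hKE)
  refine P.t_not_b C (g := g⁻¹ * η * g) ?_ (hηb.trans (isConj_iff.2 ⟨g⁻¹, by rw [inv_inv]⟩))
  have e : t = g⁻¹ * (t * tw ι ψ (uEl 3)) * g := by rw [← hg]; group
  show g⁻¹ * η * g * t = t * (g⁻¹ * η * g)
  conv_lhs => rw [e]
  conv_rhs => rw [e]
  calc g⁻¹ * η * g * (g⁻¹ * (t * tw ι ψ (uEl 3)) * g)
      = g⁻¹ * (η * (t * tw ι ψ (uEl 3))) * g := by group
    _ = g⁻¹ * (t * tw ι ψ (uEl 3) * η) * g := by rw [hη.eq]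
    _ = _ := by group

theorem small_false (C : Cfg ι)
    (h24 : Nat.card (Subgroup.centralizer (Vt ι ψ : Set G)) ≤ 24) : False := by
  classical
  have A := P.fourAct_V C
  set t := ι (inQ ⟨1⟩) with ht
  set x := ι (inJ v2) with hxd
  have ht2 : t * t = 1 := by rw [← map_mul, t_facts.2.2.2.1, map_one]
  let nn : Fin 3 × Fin 2 → Mo := fun q => inJ (v2 ^ q.1.val) * inQ ((⟨1⟩ : Rot) ^ q.2.val)
  have hnn : ∀ q, ι (nn q) = x ^ q.1.val * t ^ q.2.val := fun q => by
    simp only [nn, map_mul, map_pow, hxd, ht]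
  let φ : Fin 4 × Fin 3 × Fin 2 → Subgroup.centralizer (Vt ι ψ : Set G) := fun p =>
    ⟨tw ι ψ (uEl p.1) * ι (nn p.2), by
      refine mul_mem (Subgroup.mem_centralizer_iff.2 fun w hw =>
        A.comm hw (mem_Vt.2 ⟨p.1, rfl⟩)) ?_
      rw [hnn]
      exact mul_mem (pow_mem A.x_mem _) (pow_mem P.t_mem _)⟩
  have hφ : Function.Injective φ := by
    rintro ⟨a, q⟩ ⟨a', q'⟩ he
    have he' : tw ι ψ (uEl a) * ι (nn q) = tw ι ψ (uEl a') * ι (nn q') := congrArg Subtype.val he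
    have hd : ι (nn q' * (nn q)⁻¹) = tw ι ψ (uEl a' * uEl a) := by
      have := inv_eq_of_mul_eq_one_left (four_mul.2.2.1 a')
      rw [map_mul ι (nn q'), map_inv ι, map_mul (tw ι ψ), ← this, map_inv (tw ι ψ),
        mul_inv_eq_iff_eq_mul, mul_assoc, he',
        inv_mul_cancel_left]
    have hsq : ∀ a b : Fin 4, uEl a * uEl b * (uEl a * uEl b) = 1 := by decide +kernel
    have h1 : nn q' * (nn q)⁻¹ * inJ v2 = inJ v2 * (nn q' * (nn q)⁻¹) := C.inj (by
      rw [map_mul ι, map_mul ι (inJ v2), hd]; exact (P.tw_comm _).eq)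
    have h2 : nn q' * (nn q)⁻¹ * (nn q' * (nn q)⁻¹) = 1 := C.inj (by
      rw [map_mul ι, hd, ← map_mul, hsq, map_one, map_one])
    obtain ⟨e1, e2⟩ := (slots q.1 q'.1 q.2 q'.2).1 h1 h2
    obtain rfl : q = q' := Prod.ext e1 e2
    rw [mul_left_inj] at he'
    rw [four_inj.1 (P.tw_inj he')]
  have hbij : Function.Bijective φ := (Nat.bijective_iff_injective_and_card φ).2 ⟨hφ, by
    refine le_antisymm (Nat.card_le_card_of_injective φ hφ) ?_
    rw [Nat.card_prod, Nat.card_prod, Nat.card_fin, Nat.card_fin, Nat.card_fin]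
    omega⟩
  have hform : ∀ c ∈ Subgroup.centralizer (Vt ι ψ : Set G), Commute c t →
      ∃ a, ∃ j : ℕ, c = tw ι ψ (uEl a) * t ^ j := by
    intro c hc hct
    obtain ⟨⟨a, q⟩, hq⟩ := hbij.2 ⟨c, hc⟩
    obtain rfl : tw ι ψ (uEl a) * ι (nn q) = c := congrArg Subtype.val hq
    have hqt : Commute (ι (nn q)) t := by
      have := ((P.t_V a).symm.inv_left).mul_left hct
      rwa [inv_mul_cancel_left] at this
    rw [ht, Commute, SemiconjBy, ← map_mul, ← map_mul] at hqt
    have h0 := (slots q.1 q.1 q.2 q.2).2 (C.inj hqt)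
    exact ⟨a, q.2.val, by rw [hnn, h0, Fin.val_zero, pow_zero, one_mul]⟩
  set Ct := Subgroup.centralizer ({t} : Set G)
  set t' : Ct := ⟨t, Subgroup.mem_centralizer_singleton_iff.2 rfl⟩
  haveI hN : (Subgroup.zpowers t').Normal := by
    refine ⟨fun n hn g => ?_⟩
    obtain ⟨k, rfl⟩ := hn
    refine ⟨k, ?_⟩
    have hc : Commute g t' := Subtype.ext (Subgroup.mem_centralizer_singleton_iff.1 g.2)
    show t' ^ k = g * t' ^ k * g⁻¹
    rw [(hc.zpow_right k).eq, mul_inv_cancel_right]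
  set π := QuotientGroup.mk' (Subgroup.zpowers t')
  have hker : ∀ c : Ct, π c = 1 ↔ ((c : G) = 1 ∨ (c : G) = t) := by
    intro c
    rw [QuotientGroup.mk'_apply, QuotientGroup.eq_one_iff]
    constructor
    · rintro ⟨k, rfl⟩
      have h2 : t' ^ (2 : ℤ) = 1 := Subtype.ext (by
        push_cast; rw [zpow_ofNat, pow_two]; exact ht2)
      show ((t' ^ k : Ct) : G) = 1 ∨ ((t' ^ k : Ct) : G) = t
      rw [← Int.emod_add_mul_ediv k 2, zpow_add, zpow_mul t' 2, h2, one_zpow, mul_one]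
      rcases (show k % 2 = 0 ∨ k % 2 = 1 by omega) with e | e <;> rw [e]
      · exact Or.inl (by simp)
      · exact Or.inr (by simp [t'])
    · rintro (e | e)
      · rw [show c = 1 from Subtype.ext e]; exact one_mem _
      · rw [show c = t' from Subtype.ext e]; exact Subgroup.mem_zpowers t'
  have hVC : ∀ w ∈ Vt ι ψ, w ∈ Ct := fun w hw => by
    obtain ⟨i, rfl⟩ := mem_Vt.1 hw
    exact Subgroup.mem_centralizer_singleton_iff.2 (P.t_V i).symm
  have hnt : ∀ i, tw ι ψ (uEl i) ≠ t := fun i e => two_facts.2.2 (C.inj (by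
    rw [map_mul, map_mul, ← ht, ← e]; exact (P.tw_comm _).eq))
  let Wb := ((Vt ι ψ).subgroupOf Ct).map π
  let F0 : Ct := ⟨ψ (wEl 2), Subgroup.mem_centralizer_singleton_iff.2 (by
    rw [ht, ← P.psi_T, ← map_mul, ← map_mul, F_facts.2.1])⟩
  let G0 : Ct := ⟨ψ sG, Subgroup.mem_centralizer_singleton_iff.2 (by
    rw [ht, ← P.psi_T, ← map_mul, ← map_mul, F_facts.2.2.1])⟩
  let H0 : Ct := ⟨ι (inQ ⟨2⟩), Subgroup.mem_centralizer_singleton_iff.2 (by
    rw [ht, ← map_mul ι, ← map_mul ι, t_facts.2.2.2.2])⟩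
  have hcardW : Nat.card Wb = 4 := by
    rw [← P.card_Vt]
    refine (Nat.card_eq_of_bijective (fun w : Vt ι ψ =>
      (⟨π ⟨w, hVC w w.2⟩, ⟨_, w.2, rfl⟩⟩ : Wb)) ⟨fun w w' e => ?_, fun q => ?_⟩).symm
    · have e' : π (⟨w, hVC w w.2⟩⁻¹ * ⟨w', hVC w' w'.2⟩) = 1 := by
        rw [map_mul, map_inv, show π ⟨w, hVC w w.2⟩ = π ⟨w', hVC w' w'.2⟩ from
          congrArg Subtype.val e, inv_mul_cancel]
      refine Subtype.ext (inv_mul_eq_one.1 ?_)
      rcases (hker _).1 e' with h | h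
      · exact h
      · exfalso
        obtain ⟨i, hi⟩ := mem_Vt.1 (mul_mem (inv_mem w.2) w'.2)
        exact hnt i (hi.trans h)
    · obtain ⟨⟨c, hc⟩, hcV, hcq⟩ := q.2
      exact ⟨⟨c, hcV⟩, Subtype.ext hcq⟩
  have hW2 : ∀ w ∈ Wb, w * w = 1 := by
    rintro _ ⟨c, hc, rfl⟩
    rw [← map_mul, show c * c = 1 from Subtype.ext (A.exp _ hc), map_one]
  have hCW : Subgroup.centralizer (Wb : Set (Ct ⧸ Subgroup.zpowers t')) ≤ Wb := by
    intro q hq
    obtain ⟨c, rfl⟩ := QuotientGroup.mk'_surjective _ q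
    have hcV : (c : G) ∈ Subgroup.centralizer (Vt ι ψ : Set G) := by
      refine Subgroup.mem_centralizer_iff.2 fun w hw => ?_
      obtain ⟨i, rfl⟩ := mem_Vt.1 hw
      have h := Subgroup.mem_centralizer_iff.1 hq (π ⟨_, hVC _ hw⟩) ⟨_, hw, rfl⟩
      have h' : π (c * ⟨_, hVC _ hw⟩ * c⁻¹ * ⟨_, hVC _ hw⟩⁻¹) = 1 := by
        rw [map_mul, map_mul, map_mul, map_inv, map_inv, ← h, mul_inv_cancel_right, mul_inv_cancel]
      rcases (hker _).1 h' with e | e
      · push_cast at e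
        exact (mul_inv_eq_iff_eq_mul.1 (mul_inv_eq_one.1 e)).symm
      · exfalso
        push_cast at e
        by_cases hi : i = 0
        · subst hi
          rw [show uEl 0 = 1 from rfl, map_one, mul_one, mul_inv_cancel, inv_one, mul_one] at e
          exact hnt 0 (by rw [show uEl 0 = 1 from rfl, map_one]; exact e)
        · exact P.not_conj_vt C hi (isConj_iff.2 ⟨c, mul_inv_eq_iff_eq_mul.1 e⟩)
    obtain ⟨a, j, hj⟩ := hform c hcV (Subgroup.mem_centralizer_singleton_iff.1 c.2)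
    have hV : tw ι ψ (uEl a) ∈ Vt ι ψ := mem_Vt.2 ⟨a, rfl⟩
    refine ⟨⟨_, hVC _ hV⟩, hV, ?_⟩
    rw [show c = ⟨_, hVC _ hV⟩ * t' ^ j from Subtype.ext (by push_cast; exact hj), map_mul,
      map_pow, (hker t').2 (Or.inr rfl), one_pow, mul_one]
  have key : ∀ {c : Ct}, ((c : G) ≠ 1 ∧ (c : G) ≠ t) → π c ≠ 1 := fun h e => by
    rcases (hker _).1 e with e | e
    exacts [h.1 e, h.2 e]
  have inR : ∀ {c : A6}, c ≠ 1 → c ≠ sT → ψ c ≠ 1 ∧ ψ c ≠ t := fun h1 h2 =>
    ⟨fun e => h1 (P.inj (e.trans (map_one ψ).symm)), fun e => h2 (P.inj (e.trans P.psi_T.symm))⟩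
  have outR : ∀ c : A6, ψ c * ι (inQ ⟨2⟩) ≠ 1 ∧ ψ c * ι (inQ ⟨2⟩) ≠ t := by
    have h2 : ∀ c : A6, ι (inQ ⟨2⟩) ≠ ψ c := fun c e => two_facts.2.1 (C.inj (by
      rw [map_mul, map_mul, e]; exact (P.psi_comm_va c).eq))
    refine fun c => ⟨fun e => h2 c⁻¹ ?_, fun e => h2 (c⁻¹ * sT) ?_⟩
    · rw [map_inv]; exact eq_inv_of_mul_eq_one_right e
    · rw [map_mul, map_inv, P.psi_T, ← ht, ← e, inv_mul_cancel_left]
  have sqY : ∀ {c : Ct}, (c : G) * c = 1 → π c * π c = 1 := fun {c} h => by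
    rw [← map_mul, show c * c = 1 from Subtype.ext h, map_one]
  have commY : ∀ {c d : Ct}, ((c : G) * d = d * c ∨ (c : G) * d = d * c * t) →
      Commute (π c) (π d) := fun {c d} h => by
    show π c * π d = π d * π c
    rw [← map_mul, ← map_mul]
    rcases h with h | h
    · exact congrArg π (Subtype.ext h)
    · rw [show c * d = d * c * t' from Subtype.ext h, map_mul π (d * c), (hker t').2 (Or.inr rfl),
        mul_one]
  have hact : ∀ s : A6, ι (inQ ⟨2⟩) * ψ s * (ι (inQ ⟨2⟩))⁻¹ = ψ (cj (swap 0 1) s) :=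
    P.act _ _ T_agree.2
  obtain ⟨F, hF, hF2⟩ := exists_eight (a := π F0) (b := π G0) (c := π H0)
    (sqY (by show ψ (wEl 2) * ψ (wEl 2) = 1; rw [← map_mul, four_mul.2.2.2, map_one]))
    (sqY (by show ψ sG * ψ sG = 1; rw [← map_mul, F_facts.2.2.2.1, map_one]))
    (sqY (by
      show ι (inQ ⟨2⟩) * ι (inQ ⟨2⟩) = 1
      rw [← map_mul, two_facts.1, map_one]))
    (commY (Or.inr (by
      show ψ (wEl 2) * ψ sG = ψ sG * ψ (wEl 2) * t
      rw [ht, ← P.psi_T, ← map_mul, ← map_mul, ← map_mul, ← F_facts.2.2.2.2.1])))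
    (commY (Or.inl (by
      have := hact (wEl 2)
      rw [F_facts.2.2.2.2.2.1] at this
      exact (mul_inv_eq_iff_eq_mul.1 this).symm)))
    (commY (Or.inr (by
      have := hact sG
      rw [F_facts.2.2.2.2.2.2.1, map_mul, P.psi_T, mul_inv_eq_iff_eq_mul] at this
      show ψ sG * ι (inQ ⟨2⟩) = ι (inQ ⟨2⟩) * ψ sG * t
      rw [this, mul_assoc (ψ sG * t), mul_assoc (ψ sG)]
      rw [show t * (ι (inQ ⟨2⟩) * t) = ι (inQ ⟨2⟩) by
        rw [← mul_assoc, show t * ι (inQ ⟨2⟩) = ι (inQ ⟨2⟩) * t by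
          rw [ht, ← map_mul ι, ← map_mul ι, t_facts.2.2.2.2], mul_assoc, ht2, mul_one]])))
    (key (inR F_facts.2.2.2.2.2.2.2.1 F_facts.2.2.2.2.2.2.2.2.1))
    (key (inR F_facts.2.2.2.2.2.2.2.2.2.1 F_facts.2.2.2.2.2.2.2.2.2.2.1))
    (key (by have := outR 1; rwa [map_one, one_mul] at this))
    (by rw [← map_mul]; exact key (by
      have := inR F_facts.2.2.2.2.2.2.2.2.2.2.2.1 F_facts.2.2.2.2.2.2.2.2.2.2.2.2
      rwa [map_mul] at this))
    (by rw [← map_mul]; exact key (outR _))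
    (by rw [← map_mul]; exact key (outR _))
    (by rw [← map_mul, ← map_mul]; exact key (by
      have := outR (wEl 2 * sG)
      rwa [map_mul] at this))
  exact rank_false Wb F hcardW hW2 hCW hF hF2

/-- The connecting three-cycle centralises the four-group. -/
theorem comm_c5 (C : Cfg ι) : ∀ i, Commute (ψ sC5) (tw ι ψ (uEl i)) :=
  (P.dich_V C).resolve_left (P.small_false C)

end Psi

end Cfsg.Agent.A9Three
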