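import Cfsg.Agent.Lib.A9Three.Twist
import Mathlib.GroupTheory.NoncommCoprod

/-!
S3339: the centraliser of a four-group of the conjugate factor `A₆` pairing the six points.
-/

set_option autoImplicit false
set_option maxRecDepth 40000
set_option linter.style.haveILetI false

namespace Cfsg.Agent.A9Three

open Cfsg.Agent.ThreeTI.Mono
open Cfsg.Agent.ThreeTI.Cube (V)
open Equiv

universe u

/-- The involution of six points which is the first rotation. -/
def pT : Perm (Fin 6) := swap 0 1 * swap 3 4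
/-- A further involution of six points. -/
def pW1 : Perm (Fin 6) := swap 0 1 * swap 2 5
/-- The first involution on four points. -/
def pU1 : Perm (Fin 6) := swap 2 3 * swap 4 5
/-- The second involution on four points. -/
def pU2 : Perm (Fin 6) := swap 2 4 * swap 3 5
/-- The third involution on four points. -/
def pU3 : Perm (Fin 6) := swap 2 5 * swap 3 4
/-- An element of order three normalising the pairing. -/
def pE : Perm (Fin 6) := swap 1 2 * swap 2 3 * (swap 0 5 * swap 5 4)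

theorem four_signs : Perm.sign pT = 1 ∧ Perm.sign pW1 = 1 ∧ Perm.sign pU1 = 1 ∧
    Perm.sign pU2 = 1 ∧ Perm.sign pU3 = 1 ∧ Perm.sign pE = 1 := by decide +kernel

/-- The first rotation as an element of `A₆`. -/
def sT : A6 := ev pT four_signs.1
/-- The element of order three normalising the pairing. -/
def sE : A6 := ev pE four_signs.2.2.2.2.2
/-- The second translation as an element of `A₆`. -/
def sB : A6 := ev pB base_facts.2.1

/-- The four elements on four points. -/
def uEl : Fin 4 → A6 :=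
  ![1, ev pU1 four_signs.2.2.1, ev pU2 four_signs.2.2.2.1, ev pU3 four_signs.2.2.2.2.1]

/-- The four elements preserving the pairing. -/
def wEl : Fin 4 → A6 :=
  ![1, sT, ev pW1 four_signs.2.1, ev pU3 four_signs.2.2.2.2.1]

theorem four_inj : Function.Injective uEl ∧ Function.Injective wEl := by
  unfold Function.Injective; decide +kernel

theorem four_mul : (∀ i j, ∃ k, uEl i * uEl j = uEl k) ∧ (∀ i j, ∃ k, wEl i * wEl j = wEl k) ∧
    (∀ i, uEl i * uEl i = 1) ∧ (∀ i, wEl i * wEl i = 1) := by decide +kernel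

/-- A subgroup with four listed elements. -/
def mkFour (e : Fin 4 → A6) (h1 : e 0 = 1) (hm : ∀ i j, ∃ k, e i * e j = e k)
    (hs : ∀ i, e i * e i = 1) : Subgroup A6 where
  carrier := Set.range e
  one_mem' := ⟨0, h1⟩
  mul_mem' := by
    rintro _ _ ⟨i, rfl⟩ ⟨j, rfl⟩
    obtain ⟨k, hk⟩ := hm i j
    exact ⟨k, hk.symm⟩
  inv_mem' := by
    rintro _ ⟨i, rfl⟩
    exact ⟨i, (inv_eq_of_mul_eq_one_left (hs i)).symm⟩

/-- The four-group on four points. -/
def fourU : Subgroup A6 := mkFour uEl rfl four_mul.1 four_mul.2.2.1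

/-- The four-group preserving the pairing. -/
def fourW : Subgroup A6 := mkFour wEl rfl four_mul.2.1 four_mul.2.2.2

theorem card_fourU : Nat.card fourU = 4 := by
  show Nat.card (Set.range uEl) = 4
  rw [Nat.card_range_of_injective four_inj.1, Nat.card_fin]

theorem card_fourW : Nat.card fourW = 4 := by
  show Nat.card (Set.range wEl) = 4
  rw [Nat.card_range_of_injective four_inj.2, Nat.card_fin]

theorem comm_U : ∀ i j, uEl i * uEl j = uEl j * uEl i := by decide +kernel

theorem cent_W : ∀ p : Perm (Fin 6), Perm.sign p = 1 →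
    (∀ i, p * (wEl i : Perm (Fin 6)) = (wEl i : Perm (Fin 6)) * p) →
      ∃ i, p = (wEl i : Perm (Fin 6)) := by decide +kernel

theorem E_norm : (∀ i, ∃ j, sE * wEl i * sE⁻¹ = wEl j) ∧
    (∀ i, sE * wEl i = wEl i * sE → i = 0) ∧ sE * sE * sE = 1 := by decide +kernel

theorem k_E : ∃ k : Perm (Fin 6), Perm.sign k = 1 ∧ k * (pA * pB) * k⁻¹ = pE := by decide +kernel

theorem sum_agree : perm9 (inJ (actFn swR (v1 * v2))) =
    perm9 (inQ swR) * six (pA * pB) * (perm9 (inQ swR))⁻¹ := by decide +kernel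

theorem sum_class : ∀ i : Fin 3, cl (inJ (v2 ^ i.val * actFn swR (v1 * v2))) = cl (inJ vb) ∨
    cl (inJ (v2 ^ i.val * actFn swR (v1 * v2))) = cl (inJ vc) := by decide +kernel

theorem T_agree : perm9 (inQ ⟨2⟩) = perm9 (inQ swR) * six pT * (perm9 (inQ swR))⁻¹ ∧
    (∀ i, perm9 (inQ ⟨2⟩) (ce i) = ce ((swap 0 1 : Perm (Fin 6)) i)) := by decide +kernel

theorem U_fix : ∀ i, (swap 0 1 : Perm (Fin 6)) * (uEl i : Perm (Fin 6)) * (swap 0 1)⁻¹ =
    (uEl i : Perm (Fin 6)) := by decide +kernel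

theorem W_words : wEl 1 = sT ∧ wEl 2 = sT * uEl 3 ∧ wEl 3 = uEl 3 := by decide +kernel

theorem U_B : ∀ i, uEl i * sB = sB * uEl i → i = 0 := by decide +kernel

/-- The four-group preserving the pairing, in the conjugate factor. -/
def Wt {G : Type u} [Group G] (ι : Mo →* G) (ψ : A6 →* G) : Subgroup G := fourW.map (tw ι ψ)

theorem mem_Wt {G : Type u} [Group G] {ι : Mo →* G} {ψ : A6 →* G} {g : G} :
    g ∈ Wt ι ψ ↔ ∃ i, tw ι ψ (wEl i) = g := by
  constructor
  · rintro ⟨_, ⟨i, rfl⟩, h⟩; exact ⟨i, h⟩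
  · rintro ⟨i, h⟩; exact ⟨_, ⟨i, rfl⟩, h⟩

namespace Psi

variable {G : Type u} [Group G] {ι : Mo →* G} {ψ : A6 →* G} (P : Psi ι ψ)
include P

theorem psi_B : ψ sB = ι (inJ v2) := P.agree _ _ six_gens.2.1

theorem card_Wt : Nat.card (Wt ι ψ) = 4 := by
  rw [Wt, Subgroup.card_map_of_injective P.tw_inj, card_fourW]

theorem fourAct_W (C : Cfg ι) : FourAct (Wt ι ψ) (ι (inJ v2)) (tw ι ψ sE) where
  exp w hw := by
    obtain ⟨i, rfl⟩ := mem_Wt.1 hw
    rw [← map_mul, four_mul.2.2.2, map_one]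
  ne := ⟨_, mem_Wt.2 ⟨1, rfl⟩, fun h => absurd (four_inj.2 (P.tw_inj (h.trans (map_one _).symm) :
    wEl 1 = wEl 0)) (by decide)⟩
  xw w hw := by
    obtain ⟨i, rfl⟩ := mem_Wt.1 hw
    exact (P.tw_comm _).symm.eq
  x3 := by rw [← map_mul, ← map_mul, ← map_mul, ← map_mul, v_cube, map_one, map_one]
  xne h := absurd (SemidirectProduct.inl_injective ((C.inj (h.trans (map_one ι).symm)).trans
    (map_one inJ).symm)) (by decide : v2 ≠ 1)
  y3 := by rw [← map_mul, ← map_mul, E_norm.2.2, map_one]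
  xy := (P.tw_comm _).symm.eq
  ynorm w hw := by
    obtain ⟨i, rfl⟩ := mem_Wt.1 hw
    obtain ⟨j, hj⟩ := E_norm.1 i
    exact mem_Wt.2 ⟨j, by rw [← hj, map_mul, map_mul, map_inv]⟩
  yfpf w hw h := by
    obtain ⟨i, rfl⟩ := mem_Wt.1 hw
    rw [← map_mul, ← map_mul] at h
    rw [E_norm.2.1 i (P.tw_inj h)]
    exact map_one _
  cent g hg hgx := by
    obtain ⟨n, s, rfl⟩ := P.cg_v2 (Subgroup.mem_centralizer_singleton_iff.2 hgx)
    obtain ⟨i, hi⟩ := cent_W s (Perm.mem_alternatingGroup.1 s.2) fun i => by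
      refine congrArg Subtype.val (P.tw_inj (show tw ι ψ (s * wEl i) = tw ι ψ (wEl i * s) from ?_))
      have h := Subgroup.mem_centralizer_iff.1 hg _ (mem_Wt.2 ⟨i, rfl⟩)
      rw [← mul_assoc, ← ((P.tw_comm _).symm.pow_left n).eq, mul_assoc, mul_assoc,
        mul_right_inj] at h
      rw [map_mul, map_mul, h]
    exact ⟨n, _, mem_Wt.2 ⟨i, rfl⟩, by rw [Subtype.ext hi]⟩

variable [Finite G]

theorem Wt_small (C : Cfg ι) (i : Fin 3) {S : Subgroup G}
    (hz : ∀ s ∈ S, s * (ι (inJ v2) ^ i.val * tw ι ψ sE) = ι (inJ v2) ^ i.val * tw ι ψ sE * s)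
    (hco : (Nat.card S).Coprime 3) : Nat.card S ≤ 2 := by
  obtain ⟨k, hk, hkE⟩ := k_E
  set K : A6 := ev k hk
  set m : Mo := inJ (actFn swR (v1 * v2))
  have hm : tw ι ψ (sA * sB) = ι m := P.tw_agree m (sA * sB) sum_agree
  have e : sE = K * (sA * sB) * K⁻¹ := Subtype.ext hkE.symm
  refine C.coprime_le_two (sum_class i) (tw ι ψ K) (fun s hs => ?_) hco
  have h : ι (inJ v2) ^ i.val * tw ι ψ sE =
      tw ι ψ K * ι (inJ (v2 ^ i.val * actFn swR (v1 * v2))) * (tw ι ψ K)⁻¹ := by
    rw [e, map_mul, map_mul, map_inv, hm, map_mul, map_mul ι, map_pow, map_pow]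
    have hc : Commute (ι (inJ v2) ^ i.val) (tw ι ψ K) := (P.tw_comm K).symm.pow_left _
    rw [← mul_assoc, ← mul_assoc, hc.eq, mul_assoc (tw ι ψ K)]
  rw [← h]
  exact hz s hs

/-- The centraliser of the pairing four-group has order at most 24. -/
theorem card_cent_Wt (C : Cfg ι) :
    Nat.card (Subgroup.centralizer (Wt ι ψ : Set G)) ≤ 24 := by
  have A := P.fourAct_W C
  rcases A.dichotomy fun i S hS hz hco hn => A.triv_of_le_two i hS hz hco (P.Wt_small C i hz hco)
      (hn _ (Subgroup.centralizer_le_normalizer _ A.x_mem) (A.z_facts i).2.2.eq) with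
    h | ⟨i, S, -, hz, h, -, -⟩
  · rwa [P.card_Wt] at h
  · rcases h with ⟨h, -⟩ | h <;>
    · have := P.Wt_small C i hz (by rw [h]; norm_num)
      omega

/-- The four-group on four points does not centralise its conjugate. -/
theorem U_not_comm (C : Cfg ι) : ¬ ∀ i j, Commute (ψ (uEl i)) (tw ι ψ (uEl j)) := by
  intro h
  have hT : ∀ i, Commute (ψ (uEl i)) (tw ι ψ sT) := fun i => by
    rw [P.tw_agree _ sT T_agree.1]
    have := P.act _ _ T_agree.2 (uEl i)
    rw [show cj (swap 0 1) (uEl i) = uEl i from Subtype.ext (U_fix i)] at this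
    exact (mul_inv_eq_iff_eq_mul.1 this).symm
  have hW : ∀ i j, Commute (ψ (uEl i)) (tw ι ψ (wEl j)) := fun i j => by
    fin_cases j
    · show Commute _ (tw ι ψ 1)
      rw [map_one]; exact Commute.one_right _
    · exact hT i
    · show Commute _ (tw ι ψ (wEl 2))
      rw [W_words.2.1, map_mul]; exact (hT i).mul_right (h i 3)
    · exact h i 3
  have hc : ∀ (w : fourW) (u : fourU),
      Commute ((tw ι ψ).comp fourW.subtype w) (ψ.comp fourU.subtype u) := by
    rintro ⟨_, j, rfl⟩ ⟨_, i, rfl⟩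
    exact (hW i j).symm
  set F := MonoidHom.noncommCoprod ((tw ι ψ).comp fourW.subtype) (ψ.comp fourU.subtype) hc
  have hF : Function.Injective F := by
    refine (injective_iff_map_eq_one F).2 ?_
    rintro ⟨⟨_, j, rfl⟩, ⟨_, i, rfl⟩⟩ he
    rw [MonoidHom.noncommCoprod_apply] at he
    change tw ι ψ (wEl j) * ψ (uEl i) = 1 at he
    have e := eq_inv_of_mul_eq_one_right he
    have hx : Commute (ψ (uEl i)) (ψ sB) := by
      rw [P.psi_B, e]; exact (P.tw_comm _).inv_left
    rw [Commute, SemiconjBy, ← map_mul, ← map_mul] at hx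
    have hi := U_B i (P.inj hx)
    subst hi
    rw [show uEl 0 = 1 from rfl, map_one, mul_one] at he
    have hj : wEl j = 1 := P.tw_inj (he.trans (map_one _).symm)
    exact Prod.ext (Subtype.ext hj) (Subtype.ext rfl)
  have hle : F.range ≤ Subgroup.centralizer (Wt ι ψ : Set G) := by
    rintro _ ⟨⟨⟨_, j, rfl⟩, ⟨_, i, rfl⟩⟩, rfl⟩
    refine Subgroup.mem_centralizer_iff.2 fun w hw => ?_
    obtain ⟨k, rfl⟩ := mem_Wt.1 hw
    rw [MonoidHom.noncommCoprod_apply]
    exact (Commute.mul_right ((P.fourAct_W C).comm (mem_Wt.2 ⟨k, rfl⟩) (mem_Wt.2 ⟨j, rfl⟩))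
      (hW i k).symm).eq
  have h16 : 16 ∣ Nat.card (Subgroup.centralizer (Wt ι ψ : Set G)) := by
    have := Subgroup.card_dvd_of_le hle
    rwa [← Nat.card_congr (MonoidHom.ofInjective hF).toEquiv, Nat.card_prod, card_fourW,
      card_fourU] at this
  have h3 : 3 ∣ Nat.card (Subgroup.centralizer (Wt ι ψ : Set G)) := by
    have A := P.fourAct_W C
    haveI : Fact (Nat.Prime 3) := ⟨Nat.prime_three⟩
    rw [← orderOf_eq_prime (x := ι (inJ v2)) ((pow_three' _).trans A.x3) A.xne]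
    exact Subgroup.orderOf_dvd_natCard _ A.x_mem
  have h48 : 48 ∣ Nat.card (Subgroup.centralizer (Wt ι ψ : Set G)) :=
    Nat.Coprime.mul_dvd_of_dvd_of_dvd (by norm_num : Nat.Coprime 16 3) h16 h3
  have := Nat.le_of_dvd Nat.card_pos h48
  have := P.card_cent_Wt C
  omega

end Psi

end Cfsg.Agent.A9Three
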