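import Cfsg.Agent.Lib.A9Three.FoursV

/-!
S3339: the subgroup `A₉` generated by the two factors.
-/

set_option autoImplicit false
set_option maxRecDepth 40000
set_option linter.style.haveILetI false

namespace Cfsg.Agent.A9Three

open Cfsg.Agent.ThreeTI.Mono
open Cfsg.Agent.ThreeTI.Cube (V)
open Equiv Cfsg.Agent.BoundedPres

universe u

/-- The alternating group of degree nine. -/
abbrev A9 : Type := alternatingGroup (Fin 9)

/-- The index set of the three-cycles through `0` and `1`. -/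
def rest9 : Finset (Fin 9) := Finset.univ.filter fun i => 2 ≤ i.val

theorem good9 : Good (0 : Fin 9) 1 rest9 := ⟨by decide, by decide, by decide⟩

theorem cs9 : Cs (0 : Fin 9) 1 rest9 = alternatingGroup (Fin 9) :=
  Cs_eq_alternating good9 (by decide)

theorem rest9_cases : ∀ i ∈ rest9,
    (∃ a ∈ rest6, i = ce a) ∨ ∃ a ∈ rest6, i = lb a := by decide +kernel

theorem meet_two : ∀ a ∈ rest6, ∀ b ∈ rest6, ce a ≠ lb b →
    a ≠ b ∧ (a = 2 ∨ b = 2) ∨ (a = 3 ∨ a = 4 ∨ a = 5) ∧ (b = 3 ∨ b = 4 ∨ b = 5) := by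
  decide +kernel

theorem two_both : ce 2 = lb 2 := by decide +kernel

theorem perm9_even : ∀ m : Mo, Perm.sign (perm9 m) = 1 := by decide +kernel

theorem gen_words : perm9 (inJ v1) = six pA ∧
    perm9 (inQ ⟨21⟩) = perm9 (inQ swR) * six pR * (perm9 (inQ swR))⁻¹ ∧
    (⟨qGen 0⟩ : Rot) = ⟨21⟩ * ⟨10⟩ ∧ (⟨qGen 2⟩ : Rot) = ⟨21⟩ * ⟨21⟩ * ⟨10⟩ ∧
    (⟨qGen 1⟩ : Rot) = ⟨1⟩ := by decide +kernel

theorem cyc_labels : ∀ a ∈ rest6, six (cyc 0 1 a) = cyc 0 1 (ce a) ∧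
    perm9 (inQ swR) * six (cyc 0 1 a) * (perm9 (inQ swR))⁻¹ = (cyc 0 1 (lb a))⁻¹ ∧
    ce a ∈ rest9 ∧ lb a ∈ rest9 := by decide +kernel

theorem cyc_steps : pB * cyc 0 1 5 * pB⁻¹ = cyc (0 : Fin 6) 1 3 ∧
    pB * cyc 0 1 3 * pB⁻¹ = cyc (0 : Fin 6) 1 4 ∧
    pU2 * pA * pU2⁻¹ = cyc (0 : Fin 6) 1 4 ∧
    perm9 (inJ (actFn swR v1)) = perm9 (inQ swR) * six pA * (perm9 (inQ swR))⁻¹ := by
  decide +kernel

/-- Permutations of six points among those of nine. -/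
def sixA : A6 →* A9 :=
  (six.comp (alternatingGroup (Fin 6)).subtype).codRestrict _ fun s =>
    Perm.mem_alternatingGroup.2 ((Perm.sign_extendDomain _ _).trans
      (Perm.mem_alternatingGroup.1 s.2))

/-- The monomial group among the even permutations. -/
def monA : Mo →* A9 := perm9.codRestrict _ fun m => Perm.mem_alternatingGroup.2 (perm9_even m)

/-- The conjugate embedding of six points. -/
def twA : A6 →* A9 := (MulAut.conj (monA (inQ swR))).toMonoidHom.comp sixA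

theorem hom_ext6 {K : Type u} [Group K] {f g : A6 →* K}
    (h : ∀ a (ha : a ∈ rest6), f (c6 a ha) = g (c6 a ha)) : f = g := by
  refine MonoidHom.ext fun x => ?_
  have e : f.comp (MulEquiv.subgroupCongr cs6).toMonoidHom =
      g.comp (MulEquiv.subgroupCongr cs6).toMonoidHom :=
    BoundedPres.hom_ext fun a ha => h a ha
  have := DFunLike.congr_fun e ((MulEquiv.subgroupCongr cs6).symm x)
  simpa using this

namespace Psi

variable {G : Type u} [Group G] [Finite G] {ι : Mo →* G} {ψ : A6 →* G} (P : Psi ι ψ)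
include P

omit [Finite G] in
theorem tw_sA : tw ι ψ sA = (ψ sA)⁻¹ := by
  rw [P.tw_agree _ sA cyc_steps.2.2.2, sw_facts.2.1, map_inv, map_inv,
    P.agree _ sA six_gens.1]

omit [Finite G] in
theorem pair_conj {p q : A6} (h : (ψ p * (tw ι ψ q)⁻¹) ^ 2 = 1) :
    (ψ (sB * p * sB⁻¹) * (tw ι ψ q)⁻¹) ^ 2 = 1 ∧ (ψ p * (tw ι ψ (sB * q * sB⁻¹))⁻¹) ^ 2 = 1 := by
  constructor
  · have hc : Commute (ψ sB) (tw ι ψ q)⁻¹ := by
      rw [P.psi_B]; exact (P.tw_comm q).symm.inv_right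
    rw [map_mul, map_mul, map_inv, show ψ sB * ψ p * (ψ sB)⁻¹ * (tw ι ψ q)⁻¹ =
      ψ sB * (ψ p * (tw ι ψ q)⁻¹) * (ψ sB)⁻¹ by
        rw [mul_assoc (ψ sB * ψ p), hc.inv_left.eq]; group, conj_pow, h, mul_one, mul_inv_cancel]
  · have hc : Commute (ι (inJ va)) (ψ p) := (P.psi_comm_va p).symm
    rw [← P.y_act, show ψ p * (ι (inJ va) * tw ι ψ q * (ι (inJ va))⁻¹)⁻¹ =
      ι (inJ va) * (ψ p * (tw ι ψ q)⁻¹) * (ι (inJ va))⁻¹ by
        rw [← mul_assoc (ι (inJ va)) (ψ p), hc.eq]; group, conj_pow, h, mul_one, mul_inv_cancel]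

theorem cross (C : Cfg ι) : ∀ a b : Fin 6, ∀ ha : a ∈ rest6, ∀ hb : b ∈ rest6,
    (a = 3 ∨ a = 4 ∨ a = 5) → (b = 3 ∨ b = 4 ∨ b = 5) →
      (ψ (c6 a ha) * (tw ι ψ (c6 b hb))⁻¹) ^ 2 = 1 := by
  have base : (ψ sC5 * (tw ι ψ (c6 4 (by decide)))⁻¹) ^ 2 = 1 := by
    have hc := P.comm_c5 C 2
    set v := tw ι ψ (uEl 2) with hv
    have e : (tw ι ψ (c6 4 (by decide)))⁻¹ = v * ψ sA * v⁻¹ := by
      rw [show c6 4 (by decide) = uEl 2 * sA * (uEl 2)⁻¹ from Subtype.ext cyc_steps.2.2.1.symm,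
        map_mul, map_mul, map_inv, ← hv, P.tw_sA]
      group
    have h2 : (ψ sC5 * ψ sA) ^ 2 = 1 := by
      rw [← map_mul, ← map_pow, show (sC5 * sA) ^ 2 = 1 from Subtype.ext (by
        push_cast
        exact (by decide +kernel : (cyc (0 : Fin 6) 1 5 * pA) ^ 2 = 1)), map_one]
    rw [e, show ψ sC5 * (v * ψ sA * v⁻¹) = v * (ψ sC5 * ψ sA) * v⁻¹ by
      rw [← mul_assoc v, ← hc.eq]; group, conj_pow, h2, mul_one, mul_inv_cancel]
  have e3 : c6 3 (by decide) = sB * sC5 * sB⁻¹ := Subtype.ext cyc_steps.1.symm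
  have e4 : c6 4 (by decide) = sB * c6 3 (by decide) * sB⁻¹ := Subtype.ext cyc_steps.2.1.symm
  have e5 : sC5 = sB * c6 4 (by decide) * sB⁻¹ := by
    have h3 : sB * sB * sB = 1 := Subtype.ext (by
      push_cast; exact (by decide +kernel : pB * pB * pB = 1))
    rw [e4, e3, show sB * (sB * (sB * sC5 * sB⁻¹) * sB⁻¹) * sB⁻¹ =
      sB * sB * sB * sC5 * (sB * sB * sB)⁻¹ by group, h3, one_mul, inv_one, mul_one]
  have r5 : (ψ sC5 * (tw ι ψ sC5)⁻¹) ^ 2 = 1 := e5 ▸ (P.pair_conj base).2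
  have r3 : (ψ sC5 * (tw ι ψ (c6 3 (by decide)))⁻¹) ^ 2 = 1 := e3 ▸ (P.pair_conj r5).2
  have up : ∀ {q : A6}, (ψ sC5 * (tw ι ψ q)⁻¹) ^ 2 = 1 → ∀ a ha, (a = 3 ∨ a = 4 ∨ a = 5) →
      (ψ (c6 a ha) * (tw ι ψ q)⁻¹) ^ 2 = 1 := by
    intro q h a ha hcase
    have h3 := (P.pair_conj h).1
    rw [← e3] at h3
    rcases hcase with rfl | rfl | rfl
    · exact h3
    · rw [show c6 4 ha = sB * c6 3 (by decide) * sB⁻¹ from e4]; exact (P.pair_conj h3).1
    · exact h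
  intro a b ha hb hA hB
  rcases hB with rfl | rfl | rfl
  · exact up r3 a ha hA
  · exact up base a ha hA
  · exact up r5 a ha hA

/-- The homomorphism from the alternating group of degree nine. -/
theorem exists_A9 (C : Cfg ι) : ∃ f : A9 →* G, Function.Injective f ∧
    (∀ m, f (monA m) = ι m) ∧ (∀ s, f (sixA s) = ψ s) ∧ ∀ s, f (twA s) = tw ι ψ s := by
  classical
  obtain ⟨hcube, hpair⟩ := carRel_cyc good6
  let X : Fin 9 → G := ![1, 1, ψ sA, ψ (c6 3 (by decide)), ψ (c6 4 (by decide)), ψ sC5,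
    (tw ι ψ (c6 3 (by decide)))⁻¹, (tw ι ψ (c6 4 (by decide)))⁻¹, (tw ι ψ sC5)⁻¹]
  have eA : ∀ h : (2 : Fin 6) ∈ rest6, c6 2 h = sA := fun _ => Subtype.ext cyc6_words.1
  have hX : ∀ a (ha : a ∈ rest6), X (ce a) = ψ (c6 a ha) ∧ X (lb a) = (tw ι ψ (c6 a ha))⁻¹ := by
    intro a ha
    rcases rest6_cases a ha with rfl | rfl | rfl | rfl
    · rw [eA, P.tw_sA, inv_inv, ← two_both]; exact ⟨rfl, rfl⟩
    · exact ⟨rfl, rfl⟩
    · exact ⟨rfl, rfl⟩
    · exact ⟨rfl, rfl⟩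
  have pairL : ∀ a (ha : a ∈ rest6) b (hb : b ∈ rest6), a ≠ b →
      (X (ce a) * X (ce b)) ^ 2 = 1 := fun a ha b hb hab => by
    rw [(hX a ha).1, (hX b hb).1, ← map_mul, ← map_pow,
      show (c6 a ha * c6 b hb) ^ 2 = 1 from Subtype.ext (hpair a ha b hb hab), map_one]
  have pairR : ∀ a (ha : a ∈ rest6) b (hb : b ∈ rest6), a ≠ b →
      (X (lb a) * X (lb b)) ^ 2 = 1 := fun a ha b hb hab => by
    rw [(hX a ha).2, (hX b hb).2]
    refine pair_inv ?_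
    rw [← map_mul, ← map_pow,
      show (c6 a ha * c6 b hb) ^ 2 = 1 from Subtype.ext (hpair a ha b hb hab), map_one]
  have pairX : ∀ a (ha : a ∈ rest6) b (hb : b ∈ rest6), ce a ≠ lb b →
      (X (ce a) * X (lb b)) ^ 2 = 1 := fun a ha b hb hab => by
    rcases meet_two a ha b hb hab with ⟨hne, rfl | rfl⟩ | ⟨hA, hB⟩
    · rw [two_both]; exact pairR 2 ha b hb hne
    · rw [← two_both]; exact pairL a ha 2 hb hne
    · rw [(hX a ha).1, (hX b hb).2]; exact P.cross C a b ha hb hA hB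
  have hY : CarRel X rest9 := by
    refine ⟨fun i hi => ?_, fun i hi j hj hij => ?_⟩
    · rcases rest9_cases i hi with ⟨a, ha, rfl⟩ | ⟨a, ha, rfl⟩
      · rw [(hX a ha).1, ← map_pow, show c6 a ha ^ 3 = 1 from Subtype.ext (hcube a ha), map_one]
      · rw [(hX a ha).2, inv_pow, ← map_pow,
          show c6 a ha ^ 3 = 1 from Subtype.ext (hcube a ha), map_one, inv_one]
    · rcases rest9_cases i hi with ⟨a, ha, rfl⟩ | ⟨a, ha, rfl⟩ <;>
        rcases rest9_cases j hj with ⟨b, hb, rfl⟩ | ⟨b, hb, rfl⟩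
      · exact pairL a ha b hb fun e => hij (congrArg ce e)
      · exact pairX a ha b hb hij
      · exact pair_symm (pairX b hb a ha (Ne.symm hij))
      · exact pairR a ha b hb fun e => hij (congrArg lb e)
  obtain ⟨f0, hf0⟩ := car_hom good9 X hY
  let f : A9 →* G := f0.comp (MulEquiv.subgroupCongr cs9).symm.toMonoidHom
  have hf : ∀ i (hi : i ∈ rest9) h, f ⟨cyc 0 1 i, h⟩ = X i := fun i hi h => hf0 i hi
  have hsix : f.comp sixA = ψ := hom_ext6 fun a ha => by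
    show f (sixA (c6 a ha)) = _
    obtain ⟨e, -, hm, -⟩ := cyc_labels a ha
    rw [show sixA (c6 a ha) = ⟨cyc 0 1 (ce a), cs9 ▸ cyc_mem hm⟩ from Subtype.ext e, hf _ hm,
      (hX a ha).1]
  have htw : f.comp twA = tw ι ψ := hom_ext6 fun a ha => by
    show f (twA (c6 a ha)) = _
    obtain ⟨-, e, -, hm⟩ := cyc_labels a ha
    rw [show twA (c6 a ha) = (⟨cyc 0 1 (lb a), cs9 ▸ cyc_mem hm⟩ : A9)⁻¹ from Subtype.ext e,
      map_inv, hf _ hm, (hX a ha).2, inv_inv]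
  have h1 : ∀ s, f (sixA s) = ψ s := DFunLike.congr_fun hsix
  have h2 : ∀ s, f (twA s) = tw ι ψ s := DFunLike.congr_fun htw
  have l10 : f (monA (inQ ⟨10⟩)) = ι (inQ ⟨10⟩) := by
    rw [show monA (inQ ⟨10⟩) = sixA sR from Subtype.ext six_gens.2.2, h1]
    exact P.agree _ _ six_gens.2.2
  have l21 : f (monA (inQ ⟨21⟩)) = ι (inQ ⟨21⟩) := by
    rw [show monA (inQ ⟨21⟩) = twA sR from Subtype.ext gen_words.2.1, h2]
    exact P.tw_agree _ _ gen_words.2.1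
  have hgen : Set.EqOn (f.comp monA) ι gens := by
    rintro m (rfl | rfl | rfl | rfl)
    · show f (monA (inJ v1)) = ι (inJ v1)
      rw [show monA (inJ v1) = sixA sA from Subtype.ext six_gens.1, h1]
      exact P.agree _ _ six_gens.1
    · show f (monA (inQ ⟨qGen 0⟩)) = ι (inQ ⟨qGen 0⟩)
      simp only [gen_words.2.2.1, map_mul, l10, l21]
    · show f (monA (inQ ⟨qGen 1⟩)) = ι (inQ ⟨qGen 1⟩)
      rw [gen_words.2.2.2.2, show monA (inQ ⟨1⟩) = sixA sT from Subtype.ext t_facts.1, h1]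
      exact P.agree _ _ t_facts.1
    · show f (monA (inQ ⟨qGen 2⟩)) = ι (inQ ⟨qGen 2⟩)
      simp only [gen_words.2.2.2.1, map_mul, l10, l21]
  have hmon : ∀ m, f (monA m) = ι m := DFunLike.congr_fun
    (MonoidHom.eq_of_eqOn_dense closure_gens hgen)
  haveI : IsSimpleGroup A9 := alternatingGroup.isSimpleGroup (by simp)
  refine ⟨f, ?_, hmon, h1, h2⟩
  rw [← MonoidHom.ker_eq_bot_iff]
  rcases f.normal_ker.eq_bot_or_eq_top with h | h
  · exact h
  · exfalso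
    have e := h1 sA
    rw [MonoidHom.mem_ker.1 (h ▸ Subgroup.mem_top (sixA sA))] at e
    have e' : sA = 1 := P.inj (e.symm.trans (map_one ψ).symm)
    exact absurd (congrArg Subtype.val e') (by decide +kernel : pA ≠ 1)

end Psi

end Cfsg.Agent.A9Three
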