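import Cfsg.Agent.Lib.A9Three.Nine

/-!
S3339: finite facts about the centraliser of a product of four transpositions in the alternating
group of degree nine.
-/

set_option autoImplicit false
set_option maxRecDepth 100000

namespace Cfsg.Agent.A9Three

open Cfsg.Agent.ThreeTI.Mono
open Cfsg.Agent.ThreeTI.Cube (V)
open Equiv

/-- An element inverting the element of order three. -/
def qR : Perm (Fin 9) := swap 1 2 * swap 4 5

/-- An element exchanging the blocks in pairs. -/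
def qX : Perm (Fin 9) := swap 0 2 * swap 3 5 * (swap 1 6 * swap 4 7)

/-- The exchanges of the blocks. -/
def xP : Fin 4 → Perm (Fin 9) := ![1, qX, qB * qX * qB⁻¹, qB * qB * qX * (qB * qB)⁻¹]

/-- Representatives for the ordered pairs of products. -/
def kP (p : Fin 3 × Fin 2 × Fin 4) : Perm (Fin 9) := qB ^ p.1.val * qR ^ p.2.1.val * xP p.2.2

/-- The products of two of the transpositions, with the identity and the product of all four. -/
def eP : Fin 8 → Perm (Fin 9) := ![1, qT, dP 0, dP 1, dP 2, dP 3, dP 4, dP 5]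

/-- A subgroup of order 32. -/
def pP (p : Fin 4 × Fin 8) : Perm (Fin 9) := xP p.1 * eP p.2

theorem quad_signs : (∀ i, Perm.sign (dP i) = 1) ∧ (∀ p, Perm.sign (kP p) = 1) ∧
    (∀ p, Perm.sign (pP p) = 1) ∧ Perm.sign qR = 1 := by decide +kernel

theorem pairs_table : ∀ j0 j1 : Fin 6,
    (∃ k, kP k * dP 0 * (kP k)⁻¹ = dP j0 ∧ kP k * dP 1 * (kP k)⁻¹ = dP j1) ∨
      dP j0 * dP j1 = qT ∨ j0 = j1 := by decide +kernel

theorem d_facts : dP 0 * qT = dP 3 ∧ dP 1 * qT = dP 4 ∧ dP 0 * dP 1 = dP 2 ∧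
    dP 0 * dP 1 = dP 1 * dP 0 ∧ (∀ i, dP i * dP i = 1) ∧ (∀ i, dP i * qT = qT * dP i) ∧
    qB * dP 0 * qB⁻¹ = dP 2 ∧ qB * dP 2 * qB⁻¹ = dP 1 ∧ qR * qT = qT * qR ∧
    qR * qB * qR⁻¹ = qB⁻¹ ∧ qR * dP 0 * qR⁻¹ = dP 1 := by decide +kernel

theorem d_ne : dP 0 * dP 1 ≠ qT ∧ dP 0 ≠ dP 1 ∧ (∀ i, dP i ≠ 1) ∧ (∀ i, dP i ≠ qT) := by
  decide +kernel

theorem p32_inj : Function.Injective pP := by
  unfold Function.Injective
  decide +kernel

set_option synthInstance.maxSize 1000 in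
theorem p32_mul : (∀ p q, ∃ r, pP p * pP q = pP r) ∧ (∀ p, ∃ r, pP p * pP r = 1) ∧
    pP (0, 0) = 1 ∧ (∀ p, pP p * qT = qT * pP p) := by decide +kernel

/-- The subgroup of order 32 in the alternating group. -/
def p32 : Subgroup A9 where
  carrier := Set.range fun p => (⟨pP p, Perm.mem_alternatingGroup.2 (quad_signs.2.2.1 p)⟩ : A9)
  one_mem' := ⟨(0, 0), Subtype.ext p32_mul.2.2.1⟩
  mul_mem' := by
    rintro _ _ ⟨p, rfl⟩ ⟨q, rfl⟩
    obtain ⟨r, hr⟩ := p32_mul.1 p q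
    exact ⟨r, Subtype.ext hr.symm⟩
  inv_mem' := by
    rintro _ ⟨p, rfl⟩
    obtain ⟨r, hr⟩ := p32_mul.2.1 p
    refine ⟨r, Subtype.ext ?_⟩
    show pP r = (pP p)⁻¹
    exact (inv_eq_of_mul_eq_one_right hr).symm

theorem card_p32 : Nat.card p32 = 32 := by
  have h : Function.Injective
      fun p => (⟨pP p, Perm.mem_alternatingGroup.2 (quad_signs.2.2.1 p)⟩ : A9) :=
    fun p q e => p32_inj (congrArg Subtype.val e)
  show Nat.card (Set.range _) = 32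
  rw [Nat.card_range_of_injective h, Nat.card_prod, Nat.card_fin, Nat.card_fin]

theorem p32_comm {a : A9} (ha : a ∈ p32) : (a : Perm (Fin 9)) * qT = qT * a := by
  obtain ⟨p, rfl⟩ := ha
  exact p32_mul.2.2.2 p

set_option synthInstance.maxSize 1000 in
theorem a5_no_inverter : ∀ a : Perm (Fin 5), a * a = 1 → a ≠ 1 → Perm.sign a = 1 →
    ∀ b : Perm (Fin 5), b * b * b = 1 → b ≠ 1 → Perm.sign b = 1 →
      a * (b * a * b⁻¹) = b * a * b⁻¹ * a → ∀ r : Perm (Fin 5), Perm.sign r = 1 →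
        r * b * r⁻¹ = b⁻¹ → r * a * r⁻¹ = b * b * a * (b * b)⁻¹ → False := by decide +kernel

theorem cent_table : ∀ m : Mo, actFn m.right vb = vb → m * inQ ⟨11⟩ = inQ ⟨11⟩ * m →
    ∃ i : Fin 3, ∃ j : Fin 2, m = inJ (vb ^ i.val) * inQ ((⟨11⟩ : Rot) ^ j.val) := by
  decide +kernel

theorem w_conj : ∃ k : Perm (Fin 6), Perm.sign k = 1 ∧ ∀ i,
    k * (wEl i : Perm (Fin 6)) * k⁻¹ = 1 ∨
    k * (wEl i : Perm (Fin 6)) * k⁻¹ = swap 0 3 * swap 1 4 ∨
    k * (wEl i : Perm (Fin 6)) * k⁻¹ = swap 0 3 * swap 2 5 ∨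
    k * (wEl i : Perm (Fin 6)) * k⁻¹ = swap 0 3 * swap 1 4 * (swap 0 3 * swap 2 5) := by
  decide +kernel

theorem d_six : six (swap 0 3 * swap 1 4) = dP 0 ∧ six (swap 0 3 * swap 2 5) = dP 1 ∧
    Perm.sign (swap (0 : Fin 6) 3 * swap 2 5) = 1 ∧
    (∃ k : Perm (Fin 6), Perm.sign k = 1 ∧ k * pT * k⁻¹ = swap 0 3 * swap 1 4) ∧
    (∃ k : Perm (Fin 6), Perm.sign k = 1 ∧ k * pT * k⁻¹ = swap 0 3 * swap 2 5) := by decide +kernel

theorem W_fix : ∀ i, (swap 0 1 : Perm (Fin 6)) * (wEl i : Perm (Fin 6)) * (swap 0 1)⁻¹ =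
    (wEl i : Perm (Fin 6)) := by decide +kernel

theorem W_sq : ∀ i j : Fin 4, wEl i * wEl j * (wEl i * wEl j) = 1 := by decide +kernel

end Cfsg.Agent.A9Three
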