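import Cfsg.Agent.Lib.A9Three.Three
import Cfsg.Agent.Lib.A9Three.Quad
import Cfsg.Agent.Lib.SelfThree.Main
import Cfsg.Agent.Lib.SixCent.Omega

/-!
S3339: the centraliser of a product of four transpositions lies in the image of the alternating
group of degree nine.
-/

set_option autoImplicit false
set_option maxRecDepth 40000
set_option linter.style.haveILetI false

namespace Cfsg.Agent.A9Three

open Cfsg.Agent.ThreeTI.Mono
open Cfsg.Agent.ThreeTI.Cube (V)
open Equiv

universe u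

/-- A product of two of the transpositions in the alternating group. -/
def dA (i : Fin 6) : A9 := ⟨dP i, Perm.mem_alternatingGroup.2 (quad_signs.1 i)⟩

/-- The second product on six points. -/
def sD : A6 := ev (swap 0 3 * swap 2 5) d_six.2.2.1

/-- The inverting element in the alternating group. -/
def aR : A9 := ⟨qR, Perm.mem_alternatingGroup.2 quad_signs.2.2.2⟩

/-- A representative in the alternating group. -/
def aK (p : Fin 3 × Fin 2 × Fin 4) : A9 := ⟨kP p, Perm.mem_alternatingGroup.2 (quad_signs.2.1 p)⟩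

theorem dA_six : sixA sG = dA 0 ∧ sixA sD = dA 1 :=
  ⟨Subtype.ext d_six.1, Subtype.ext d_six.2.1⟩

theorem monA_vals : ((monA (inQ ⟨11⟩) : A9) : Perm (Fin 9)) = qT ∧
    ((monA (inJ vb) : A9) : Perm (Fin 9)) = qB := ⟨rfl, rfl⟩

theorem pow24_two : ∀ k : ℕ, k ∣ 24 → k.Coprime 6 → k = 1 := by
  intro k h hc
  have := Nat.le_of_dvd (by norm_num) h
  interval_cases k <;> revert h hc <;> decide

theorem two_ne : inQ (⟨11⟩ : Rot) ≠ (1 : Mo) ∧ inJ vb ≠ 1 ∧ inJ vb ≠ inQ ⟨11⟩ := by decide +kernel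

/-- An abelian normal subgroup of order prime to six, on which a four-group with an element of
order three acts without common fixed points, is trivial. -/
theorem odd_abelian_trivial {Q : Type u} [Group Q] [Finite Q] {b : Q} {e : Fin 6 → Q}
    (esq : ∀ i, e i * e i = 1) (e01 : e 0 * e 1 = e 2) (e01c : e 0 * e 1 = e 1 * e 0)
    (hb3 : b ^ 3 = 1) (rb0 : b * e 0 * b⁻¹ = e 2) (rb2 : b * e 2 * b⁻¹ = e 1)
    (hC : ∀ q, q * b = b * q → q ∈ Subgroup.zpowers b) (Z : Subgroup Q) [Z.Normal]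
    (hab : ∀ x ∈ Z, ∀ y ∈ Z, x * y = y * x) (hco : (Nat.card Z).Coprime 6)
    (hfix : ∀ z ∈ Z, z * e 0 = e 0 * z → z * e 1 = e 1 * z → z = 1) : Z = ⊥ := by
  have one_of : ∀ {z : Q}, z ∈ Z → ∀ {k : ℕ}, k ∣ 6 → z ^ k = 1 → z = 1 := fun {z} hz {k} hk h =>
    orderOf_eq_one_iff.1 (Nat.eq_one_of_dvd_coprimes hco (Subgroup.orderOf_dvd_natCard Z hz)
      ((orderOf_dvd_of_pow_eq_one h).trans hk))
  have cj : ∀ {z : Q}, z ∈ Z → ∀ g, g * z * g⁻¹ ∈ Z := fun hz g =>
    ‹Z.Normal›.conj_mem _ hz g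
  have hinv : ∀ i, (e i)⁻¹ = e i := fun i => inv_eq_of_mul_eq_one_left (esq i)
  have e1eq : e 1 = e 0 * e 2 := by rw [← e01, ← mul_assoc, esq, one_mul]
  have c02 : Commute (e 0) (e 2) := by
    rw [← e01]; exact (Commute.refl _).mul_right e01c
  have w_comm : ∀ {z : Q}, z ∈ Z → ∀ i, Commute (z * (e i * z * (e i)⁻¹)) (e i) := by
    intro z hz i
    show z * (e i * z * (e i)⁻¹) * e i = e i * (z * (e i * z * (e i)⁻¹))
    conv_lhs => rw [hab z hz _ (cj hz _)]
    calc e i * z * (e i)⁻¹ * z * e i = e i * z * ((e i)⁻¹ * z * e i) := by group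
      _ = _ := by rw [hinv]; group
  have C0 : ∀ {z : Q}, z ∈ Z → Commute z (e 0) → z = 1 := by
    intro z hz hc
    set z1 := b * z * b⁻¹ with hz1
    set z2 := b * z1 * b⁻¹ with hz2
    have m1 : z1 ∈ Z := cj hz b
    have m2 : z2 ∈ Z := cj m1 b
    have c1 : Commute z1 (e 2) := by
      rw [← rb0]; exact Commute.map hc (MulAut.conj b).toMonoidHom
    have c2 : Commute z2 (e 1) := by
      rw [← rb2]; exact Commute.map c1 (MulAut.conj b).toMonoidHom
    have e3 : b * z2 * b⁻¹ = z := by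
      rw [hz2, hz1, show b * (b * (b * z * b⁻¹) * b⁻¹) * b⁻¹ = b * b * b * z * (b * b * b)⁻¹ by group,
        ← pow_three', hb3,
        one_mul, inv_one, mul_one]
    have hp : z * z1 * z2 = 1 := by
      have hpm : z * z1 * z2 ∈ Z := mul_mem (mul_mem hz m1) m2
      have hpc : b * (z * z1 * z2) * b⁻¹ = z * z1 * z2 := by
        rw [show b * (z * z1 * z2) * b⁻¹ = (b * z * b⁻¹) * (b * z1 * b⁻¹) * (b * z2 * b⁻¹) by group,
          e3, ← hz1, ← hz2, ← hab z hz _ (mul_mem m1 m2), ← mul_assoc]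
      obtain ⟨k, hk⟩ := hC _ (mul_inv_eq_iff_eq_mul.1 hpc).symm
      refine one_of hpm (k := 3) ⟨2, rfl⟩ ?_
      rw [← hk]
      show (b ^ k) ^ 3 = 1
      rw [← zpow_natCast, ← zpow_mul, mul_comm, zpow_mul, zpow_natCast, hb3, one_zpow]
    have inv0 : ∀ {y : Q}, y ∈ Z → (Commute y (e 2) ∨ Commute y (e 1)) →
        e 0 * y * (e 0)⁻¹ = y⁻¹ := by
      intro y hy hyc
      have hw := w_comm hy 0
      have hw1 : Commute (y * (e 0 * y * (e 0)⁻¹)) (e 1) := by
        rcases hyc with h | h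
        · rw [e1eq]
          exact hw.mul_right (Commute.mul_left h
            ((c02.mul_left h).mul_left c02.inv_left))
        · have c01 : Commute (e 0) (e 1) := e01c
          exact Commute.mul_left h ((c01.mul_left h).mul_left c01.inv_left)
      exact (eq_inv_of_mul_eq_one_right (hfix _ (mul_mem hy (cj hy _)) hw.eq hw1.eq))
    have h1 := inv0 m1 (Or.inl c1)
    have h2 := inv0 m2 (Or.inr c2)
    have hz0 : z = (z1 * z2)⁻¹ := eq_inv_of_mul_eq_one_left (by rw [← mul_assoc]; exact hp)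
    have hfz : e 0 * z * (e 0)⁻¹ = z := by rw [← hc.eq, mul_inv_cancel_right]
    refine one_of hz (k := 2) ⟨3, rfl⟩ ?_
    have hzz : z = z⁻¹ := by
      calc z = e 0 * (z1 * z2)⁻¹ * (e 0)⁻¹ := by rw [← hz0, hfz]
        _ = ((e 0 * z1 * (e 0)⁻¹) * (e 0 * z2 * (e 0)⁻¹))⁻¹ := by group
        _ = z2 * z1 := by rw [h1, h2]; group
        _ = _ := by rw [hz0, inv_inv, hab z2 m2 z1 m1]
    rw [pow_two]
    calc z * z = z * z⁻¹ := by rw [← hzz]
      _ = 1 := mul_inv_cancel z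
  have C2 : ∀ {z : Q}, z ∈ Z → Commute z (e 2) → z = 1 := by
    intro z hz hc
    have h := C0 (cj hz b⁻¹) (by
      have h' := Commute.map hc (MulAut.conj b⁻¹).toMonoidHom
      simp only [MulEquiv.coe_toMonoidHom, MulAut.conj_apply] at h'
      rwa [← rb0, show b⁻¹ * (b * e 0 * b⁻¹) * b⁻¹⁻¹ = e 0 by group] at h')
    exact conj_eq_one_iff.1 h
  have C1 : ∀ {z : Q}, z ∈ Z → Commute z (e 1) → z = 1 := by
    intro z hz hc
    have h := C2 (cj hz b⁻¹) (by
      have h' := Commute.map hc (MulAut.conj b⁻¹).toMonoidHom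
      simp only [MulEquiv.coe_toMonoidHom, MulAut.conj_apply] at h'
      rwa [← rb2, show b⁻¹ * (b * e 2 * b⁻¹) * b⁻¹⁻¹ = e 2 by group] at h')
    exact conj_eq_one_iff.1 h
  refine (Subgroup.eq_bot_iff_forall _).2 fun z hz => C1 hz ?_
  have i0 : e 0 * z * (e 0)⁻¹ = z⁻¹ :=
    eq_inv_of_mul_eq_one_right (C0 (mul_mem hz (cj hz _)) (w_comm hz 0))
  have i2 : e 2 * z * (e 2)⁻¹ = z⁻¹ :=
    eq_inv_of_mul_eq_one_right (C2 (mul_mem hz (cj hz _)) (w_comm hz 2))
  have h1 : e 1 * z * (e 1)⁻¹ = z := by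
    rw [e1eq]
    calc e 0 * e 2 * z * (e 0 * e 2)⁻¹ = e 0 * (e 2 * z * (e 2)⁻¹) * (e 0)⁻¹ := by group
      _ = (e 0 * z * (e 0)⁻¹)⁻¹ := by rw [i2]; group
      _ = z := by rw [i0, inv_inv]
  exact (mul_inv_eq_iff_eq_mul.1 h1).symm

namespace Nin

variable {G : Type u} [Group G] {ι : Mo →* G} {ψ : A6 →* G} {f : A9 →* G} (N : Nin ι ψ f)
include N

variable [Finite G]

/-- The centraliser of the pairing four-group lies in the image. -/
theorem cent_Wt_le : Subgroup.centralizer (Wt ι ψ : Set G) ≤ f.range := by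
  classical
  have C := N.cfg
  have P := N.psi
  have A := P.fourAct_W C
  set t := ι (inQ ⟨1⟩) with ht
  have htW : t ∈ Subgroup.centralizer (Wt ι ψ : Set G) := by
    refine Subgroup.mem_centralizer_iff.2 fun w hw => ?_
    obtain ⟨i, rfl⟩ := mem_Wt.1 hw
    have h := P.tw_act _ _ t_facts.2.1 (wEl i)
    rw [show cj (swap 0 1) (wEl i) = wEl i from Subtype.ext (W_fix i)] at h
    exact (mul_inv_eq_iff_eq_mul.1 h).symm
  let nn : Fin 3 × Fin 2 → Mo := fun q => inJ (v2 ^ q.1.val) * inQ ((⟨1⟩ : Rot) ^ q.2.val)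
  let φ : Fin 4 × Fin 3 × Fin 2 → Subgroup.centralizer (Wt ι ψ : Set G) := fun p =>
    ⟨tw ι ψ (wEl p.1) * ι (nn p.2), by
      refine mul_mem (Subgroup.mem_centralizer_iff.2 fun w hw =>
        A.comm hw (mem_Wt.2 ⟨p.1, rfl⟩)) ?_
      simp only [nn, map_mul, map_pow]
      exact mul_mem (pow_mem A.x_mem _) (pow_mem htW _)⟩
  have hφ : Function.Injective φ := by
    rintro ⟨a, q⟩ ⟨a', q'⟩ he
    have he' : tw ι ψ (wEl a) * ι (nn q) = tw ι ψ (wEl a') * ι (nn q') := congrArg Subtype.val he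
    have hd : ι (nn q' * (nn q)⁻¹) = tw ι ψ (wEl a' * wEl a) := by
      have := inv_eq_of_mul_eq_one_left (four_mul.2.2.2 a')
      rw [map_mul ι (nn q'), map_inv ι, map_mul (tw ι ψ), ← this, map_inv (tw ι ψ),
        mul_inv_eq_iff_eq_mul, mul_assoc, he', inv_mul_cancel_left]
    have h1 : nn q' * (nn q)⁻¹ * inJ v2 = inJ v2 * (nn q' * (nn q)⁻¹) := C.inj (by
      rw [map_mul ι, map_mul ι (inJ v2), hd]; exact (P.tw_comm _).eq)
    have h2 : nn q' * (nn q)⁻¹ * (nn q' * (nn q)⁻¹) = 1 := C.inj (by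
      rw [map_mul ι, hd, ← map_mul, W_sq, map_one, map_one])
    obtain ⟨e1, e2⟩ := (slots q.1 q'.1 q.2 q'.2).1 h1 h2
    obtain rfl : q = q' := Prod.ext e1 e2
    rw [mul_left_inj] at he'
    rw [four_inj.2 (P.tw_inj he')]
  have hbij : Function.Bijective φ := (Nat.bijective_iff_injective_and_card φ).2 ⟨hφ, by
    refine le_antisymm (Nat.card_le_card_of_injective φ hφ) ?_
    rw [Nat.card_prod, Nat.card_prod, Nat.card_fin, Nat.card_fin, Nat.card_fin]
    exact P.card_cent_Wt C⟩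
  intro c hc
  obtain ⟨⟨a, q⟩, hq⟩ := hbij.2 ⟨c, hc⟩
  obtain rfl : tw ι ψ (wEl a) * ι (nn q) = c := congrArg Subtype.val hq
  exact mul_mem (N.tw_mem _) (N.mon_mem _)

/-- The centraliser of two products lies in the image. -/
theorem cent_D_le {c : G} (h0 : Commute c (f (dA 0))) (h1 : Commute c (f (dA 1))) :
    c ∈ f.range := by
  rw [← dA_six.1, N.six] at h0
  rw [← dA_six.2, N.six] at h1
  obtain ⟨k, hk, hkw⟩ := w_conj
  set K : A6 := ev k hk
  set w := ι (inQ swR)
  have hcw : ∀ i, Commute c (ψ (K * wEl i * K⁻¹)) := by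
    intro i
    rcases hkw i with e | e | e | e
    · rw [show K * wEl i * K⁻¹ = 1 from Subtype.ext e, map_one]; exact Commute.one_right _
    · rw [show K * wEl i * K⁻¹ = sG from Subtype.ext e]; exact h0
    · rw [show K * wEl i * K⁻¹ = sD from Subtype.ext e]; exact h1
    · rw [show K * wEl i * K⁻¹ = sG * sD from Subtype.ext e, map_mul]; exact h0.mul_right h1
  have hc' : w * ((ψ K)⁻¹ * c * ψ K) * w⁻¹ ∈ f.range := by
    refine N.cent_Wt_le (Subgroup.mem_centralizer_iff.2 fun x hx => ?_)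
    obtain ⟨i, rfl⟩ := mem_Wt.1 hx
    have h := hcw i
    rw [map_mul, map_mul, map_inv] at h
    rw [tw_apply, show ι (inQ swR) = w from rfl]
    calc w * ψ (wEl i) * w⁻¹ * (w * ((ψ K)⁻¹ * c * ψ K) * w⁻¹)
        = w * (ψ K)⁻¹ * (ψ K * ψ (wEl i) * (ψ K)⁻¹ * c) * ψ K * w⁻¹ := by group
      _ = _ := by rw [← h.eq]; group
  rw [show c = ψ K * w⁻¹ * (w * ((ψ K)⁻¹ * c * ψ K) * w⁻¹) * w * (ψ K)⁻¹ by group]
  exact mul_mem (mul_mem (mul_mem (mul_mem (N.six_mem K) (inv_mem (N.mon_mem _))) hc') (N.mon_mem _))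
    (inv_mem (N.six_mem K))

/-- An element mapping two products to products lies in the image. -/
theorem norm_D_le {g : G} {j0 j1 : Fin 6} (h0 : g * f (dA 0) * g⁻¹ = f (dA j0))
    (h1 : g * f (dA 1) * g⁻¹ = f (dA j1)) (ht : g * ι (inQ ⟨11⟩) = ι (inQ ⟨11⟩) * g) :
    g ∈ f.range := by
  rcases pairs_table j0 j1 with ⟨k, e0, e1⟩ | e | e
  · have a0 : aK k * dA 0 * (aK k)⁻¹ = dA j0 := Subtype.ext e0
    have a1 : aK k * dA 1 * (aK k)⁻¹ = dA j1 := Subtype.ext e1
    rw [← a0, map_mul, map_mul, map_inv] at h0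
    rw [← a1, map_mul, map_mul, map_inv] at h1
    have hc : (f (aK k))⁻¹ * g ∈ f.range := by
      refine N.cent_D_le ?_ ?_
      · show _ * _ = _ * _
        calc (f (aK k))⁻¹ * g * f (dA 0) = (f (aK k))⁻¹ * (g * f (dA 0) * g⁻¹) * g := by group
          _ = _ := by rw [h0]; group
      · show _ * _ = _ * _
        calc (f (aK k))⁻¹ * g * f (dA 1) = (f (aK k))⁻¹ * (g * f (dA 1) * g⁻¹) * g := by group
          _ = _ := by rw [h1]; group
    rw [show g = f (aK k) * ((f (aK k))⁻¹ * g) by group]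
    exact mul_mem ⟨_, rfl⟩ hc
  · exfalso
    have e' : f (dA j0) * f (dA j1) = ι (inQ ⟨11⟩) := by
      rw [← map_mul, ← N.mon]; exact congrArg f (Subtype.ext e)
    rw [← h0, ← h1, show g * f (dA 0) * g⁻¹ * (g * f (dA 1) * g⁻¹) =
      g * (f (dA 0) * f (dA 1)) * g⁻¹ by group, mul_inv_eq_iff_eq_mul, ← ht, mul_right_inj,
      ← map_mul, ← N.mon] at e'
    exact d_ne.1 (congrArg Subtype.val (N.inj e'))
  · exfalso
    rw [← e] at h1
    exact d_ne.2.1 (congrArg Subtype.val (N.inj (mul_right_injective g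
      (mul_left_injective g⁻¹ (h0.trans h1.symm)))))

omit [Finite G] in
/-- Elements of the image commuting with the product of four transpositions. -/
theorem mem_comm {n : G} (hn : n ∈ f.range)
    (ht : n * ι (inQ ⟨11⟩) = ι (inQ ⟨11⟩) * n) :
    ∃ a : A9, f a = n ∧ (a : Perm (Fin 9)) * qT = qT * a := by
  obtain ⟨a, rfl⟩ := hn
  refine ⟨a, rfl, ?_⟩
  rw [← N.mon, ← map_mul, ← map_mul] at ht
  exact congrArg Subtype.val (N.inj ht)

/-- The products are not conjugate to the product of four transpositions. -/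
theorem not_conj {s : A6} (hs : ∃ k : Perm (Fin 6), Perm.sign k = 1 ∧ k * pT * k⁻¹ = (s : Perm (Fin 6)))
    (h : IsConj (ψ s) (ι (inQ ⟨11⟩))) : False := by
  obtain ⟨k, hk, hks⟩ := hs
  have e : s = ev k hk * sT * (ev k hk)⁻¹ := Subtype.ext hks.symm
  have h2 : IsConj (ι (inQ ⟨1⟩)) (ι (inQ ⟨11⟩)) := by
    refine (isConj_iff.2 ⟨ψ (ev k hk), ?_⟩ : IsConj (ι (inQ ⟨1⟩)) (ψ s)).trans h
    rw [e, map_mul, map_mul, map_inv, N.psi.psi_T]
  obtain ⟨g, hg⟩ := isConj_iff.1 h2
  refine N.psi.t_not_b N.cfg (g := g⁻¹ * ι (inJ vb) * g) ?_ (isConj_iff.2 ⟨g⁻¹, by rw [inv_inv]⟩)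
  have hb : ι (inJ vb) * ι (inQ ⟨11⟩) = ι (inQ ⟨11⟩) * ι (inJ vb) := by
    rw [← map_mul, ← map_mul]
    exact congrArg ι (by decide +kernel)
  have et : ι (inQ ⟨1⟩) = g⁻¹ * ι (inQ ⟨11⟩) * g := by rw [← hg]; group
  show g⁻¹ * ι (inJ vb) * g * ι (inQ ⟨1⟩) = ι (inQ ⟨1⟩) * (g⁻¹ * ι (inJ vb) * g)
  rw [et]
  calc g⁻¹ * ι (inJ vb) * g * (g⁻¹ * ι (inQ ⟨11⟩) * g)
      = g⁻¹ * (ι (inJ vb) * ι (inQ ⟨11⟩)) * g := by group
    _ = _ := by rw [hb]; group

/-- Recognition of the products among their conjugates. -/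
theorem conj_mem_D {s : A6}
    (hs : ∃ k : Perm (Fin 6), Perm.sign k = 1 ∧ k * pT * k⁻¹ = (s : Perm (Fin 6)))
    (hsq : s * s = 1) (hne : s ≠ 1) {g n : G} (hg : g * ψ s * g⁻¹ = n) (hn : n ∈ f.range)
    (ht : n * ι (inQ ⟨11⟩) = ι (inQ ⟨11⟩) * n)
    (htest : (n * (ι (inJ vb) * n * (ι (inJ vb))⁻¹)) ^ 3 = 1 →
      n * (ι (inJ vb) * n * (ι (inJ vb))⁻¹) = 1) :
    ∃ j, n = f (dA j) := by
  obtain ⟨a, rfl, haT⟩ := N.mem_comm hn ht
  have ha2 : a * a = 1 := N.inj (by
    rw [map_mul, map_one, ← hg, show g * ψ s * g⁻¹ * (g * ψ s * g⁻¹) = g * (ψ s * ψ s) * g⁻¹ by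
      group, ← map_mul, hsq, map_one, mul_one, mul_inv_cancel])
  have hgood : GoodInv (a : Perm (Fin 9)) := by
    refine ⟨Perm.mem_alternatingGroup.1 a.2, fun h3 => ?_⟩
    set B : A9 := monA (inJ vb)
    have h := htest (by
      rw [← N.mon, ← map_inv, ← map_mul, ← map_mul, ← map_mul, ← map_pow,
        show (a * (B * a * B⁻¹)) ^ 3 = 1 from Subtype.ext (by rw [pow_three']; exact h3), map_one])
    rw [← N.mon, ← map_inv, ← map_mul, ← map_mul, ← map_mul] at h
    exact congrArg Subtype.val (N.inj (h.trans (map_one f).symm))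
  rcases inv_class haT (congrArg Subtype.val ha2) hgood with e | e | ⟨j, e⟩ | e
  · exfalso
    rw [show a = 1 from Subtype.ext e, map_one, conj_eq_one_iff] at hg
    exact hne (N.psi.inj (hg.trans (map_one ψ).symm))
  · exfalso
    refine N.not_conj hs (isConj_iff.2 ⟨g, ?_⟩)
    rw [hg, ← N.mon]
    exact congrArg f (Subtype.ext e)
  · exact ⟨j, congrArg f (Subtype.ext e)⟩
  · exfalso
    obtain ⟨k, hk, hka⟩ := fixed_one_conj (congrArg Subtype.val ha2) e
    set K : A9 := ⟨k, Perm.mem_alternatingGroup.2 hk⟩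
    have ea : K * monA (inQ ⟨11⟩) * K⁻¹ = a := Subtype.ext hka
    refine N.not_conj hs ((isConj_iff.2 ⟨g, hg⟩ : IsConj (ψ s) (f a)).trans
      (isConj_iff.2 ⟨(f K)⁻¹, ?_⟩))
    rw [← ea, map_mul, map_mul, map_inv, N.mon]
    group

/-- The centraliser of the product of four transpositions. -/
theorem cent_quad_le : Subgroup.centralizer ({ι (inQ ⟨11⟩)} : Set G) ≤ f.range := by
  classical
  haveI : Fact (Nat.Prime 2) := ⟨Nat.prime_two⟩
  haveI : Fact (Nat.Prime 3) := ⟨Nat.prime_three⟩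
  obtain ⟨dT0, dT1, d01, d01c, dsq, dcT, bd0, bd2, rT, rB, rd0⟩ := d_facts
  set τ := ι (inQ ⟨11⟩) with hτ
  set Ct := Subgroup.centralizer ({τ} : Set G)
  have mk : ∀ a : A9, (a : Perm (Fin 9)) * qT = qT * a → f a ∈ Ct := fun a ha => by
    refine Subgroup.mem_centralizer_singleton_iff.2 ?_
    rw [hτ, ← N.mon, ← map_mul, ← map_mul, show a * monA (inQ ⟨11⟩) = monA (inQ ⟨11⟩) * a from
      Subtype.ext ha]
  let τ' : Ct := ⟨τ, Subgroup.mem_centralizer_singleton_iff.2 rfl⟩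
  let b' : Ct := ⟨f (monA (inJ vb)), mk _ qT_facts.2.1⟩
  let r' : Ct := ⟨f aR, mk _ rT⟩
  let d' : Fin 6 → Ct := fun i => ⟨f (dA i), mk _ (dcT i)⟩
  have eqCt : ∀ (x y : Ct) (a c : A9), (x : G) = f a → (y : G) = f c →
      (a : Perm (Fin 9)) = c → x = y := fun x y a c hx hy h => Subtype.ext (by
    rw [hx, hy, show a = c from Subtype.ext h])
  have hτ2 : τ' * τ' = 1 := Subtype.ext (by
    show τ * τ = 1
    rw [hτ, ← N.mon, ← map_mul, show monA (inQ ⟨11⟩) * monA (inQ ⟨11⟩) = 1 from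
      Subtype.ext qT_facts.1, map_one])
  have hdT : ∀ (i j : Fin 6), dP i * qT = dP j → d' i * τ' = d' j := fun i j h => Subtype.ext (by
    show f (dA i) * τ = f (dA j)
    rw [hτ, ← N.mon, ← map_mul]
    exact congrArg f (Subtype.ext h))
  -- a normal 2-subgroup containing the products suffices
  suffices hkey : ∃ P : Subgroup Ct, P.Normal ∧ IsPGroup 2 P ∧ d' 0 ∈ P ∧ d' 1 ∈ P by
    obtain ⟨P, hPn, hP2, hd0, hd1⟩ := hkey
    have hT : ∀ x : Ct, (x : G) * τ = τ * x := fun x => Subgroup.mem_centralizer_singleton_iff.1 x.2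
    have step : ∀ g : Ct, ((g * d' 0 * g⁻¹ : Ct) : G) ∈ f.range →
        ((g * d' 1 * g⁻¹ : Ct) : G) ∈ f.range → (g : G) ∈ f.range := by
      intro g hg0 hg1
      have test : ∀ x ∈ P, (((x : G) * (ι (inJ vb) * x * (ι (inJ vb))⁻¹)) ^ 3 = 1 →
          (x : G) * (ι (inJ vb) * x * (ι (inJ vb))⁻¹) = 1) := by
        intro x hx h3
        have e : (x : G) * (ι (inJ vb) * x * (ι (inJ vb))⁻¹) = ((x * (b' * x * b'⁻¹) : Ct) : G) := by
          push_cast; rw [show ((b' : Ct) : G) = ι (inJ vb) from N.mon _]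
        rw [e] at h3 ⊢
        obtain ⟨k, hk⟩ := hP2 ⟨_, mul_mem hx (hPn.conj_mem x hx b')⟩
        have hk' : ((x * (b' * x * b'⁻¹) : Ct) : G) ^ 2 ^ k = 1 :=
          congrArg (fun z : P => ((z : Ct) : G)) hk
        have := pow_gcd_eq_one.2 ⟨h3, hk'⟩
        rwa [show (3 : ℕ).gcd (2 ^ k) = 1 from Nat.Coprime.pow_right k (by norm_num), pow_one] at this
      obtain ⟨j0, hj0⟩ := N.conj_mem_D (s := sG) d_six.2.2.2.1
        (Subtype.ext (by decide +kernel)) (fun e => absurd (congrArg Subtype.val e) (by decide +kernel))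
        (g := (g : G)) (n := ((g * d' 0 * g⁻¹ : Ct) : G))
        (by push_cast; rw [← N.six, dA_six.1]) hg0 (hT _)
        (test _ (hPn.conj_mem _ hd0 g))
      obtain ⟨j1, hj1⟩ := N.conj_mem_D (s := sD) d_six.2.2.2.2
        (Subtype.ext (by decide +kernel)) (fun e => absurd (congrArg Subtype.val e) (by decide +kernel))
        (g := (g : G)) (n := ((g * d' 1 * g⁻¹ : Ct) : G))
        (by push_cast; rw [← N.six, dA_six.2]) hg1 (hT _)
        (test _ (hPn.conj_mem _ hd1 g))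
      exact N.norm_D_le hj0 hj1 (hT g)
    have hPL : ∀ x ∈ P, (x : G) ∈ f.range := by
      let K : Subgroup P := f.range.comap (Ct.subtype.comp P.subtype)
      suffices hK : K = ⊤ by
        intro x hx
        exact (show (⟨x, hx⟩ : P) ∈ K from hK ▸ Subgroup.mem_top _)
      by_contra hne
      haveI : Group.IsNilpotent P := hP2.isNilpotent
      obtain ⟨g, hgN, hgK⟩ := SetLike.exists_of_lt
        (Group.normalizerCondition_of_isNilpotent (G := P) K (lt_top_iff_ne_top.2 hne))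
      exact hgK (step g ((Subgroup.mem_normalizer_iff.1 hgN ⟨_, hd0⟩).1 ⟨_, rfl⟩)
        ((Subgroup.mem_normalizer_iff.1 hgN ⟨_, hd1⟩).1 ⟨_, rfl⟩))
    intro c hc
    exact step ⟨c, hc⟩ (hPL _ (hPn.conj_mem _ hd0 _)) (hPL _ (hPn.conj_mem _ hd1 _))
  haveI hTn : (Subgroup.zpowers τ').Normal := by
    refine ⟨fun n hn g => ?_⟩
    obtain ⟨k, rfl⟩ := hn
    refine ⟨k, ?_⟩
    have hc : Commute g τ' := Subtype.ext (Subgroup.mem_centralizer_singleton_iff.1 g.2)
    show τ' ^ k = g * τ' ^ k * g⁻¹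
    rw [(hc.zpow_right k).eq, mul_inv_cancel_right]
  set π := QuotientGroup.mk' (Subgroup.zpowers τ')
  have hπτ : π τ' = 1 := by
    rw [QuotientGroup.mk'_apply, QuotientGroup.eq_one_iff]; exact Subgroup.mem_zpowers τ'
  have hπ1 : ∀ {c : Ct}, π c = 1 → c = 1 ∨ c = τ' := by
    intro c h
    rw [QuotientGroup.mk'_apply, QuotientGroup.eq_one_iff] at h
    obtain ⟨k, rfl⟩ := h
    show τ' ^ k = 1 ∨ τ' ^ k = τ'
    rw [← Int.emod_add_mul_ediv k 2, zpow_add, zpow_mul τ' 2,
      show τ' ^ (2 : ℤ) = 1 by rw [zpow_ofNat, pow_two, hτ2], one_zpow, mul_one]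
    rcases (show k % 2 = 0 ∨ k % 2 = 1 by omega) with e | e <;> rw [e]
    · exact Or.inl (zpow_zero _)
    · exact Or.inr (zpow_one _)
  have hτne : τ' ≠ 1 := fun h => by
    have h' : ι (inQ ⟨11⟩) = ι 1 := (congrArg Subtype.val h).trans (map_one ι).symm
    exact absurd (N.cfg.inj h') two_ne.1
  have hcomap : ∀ (M : Subgroup (Ct ⧸ Subgroup.zpowers τ')), IsPGroup 2 M →
      IsPGroup 2 (M.comap π) := by
    intro M hM x
    obtain ⟨k, hk⟩ := hM ⟨π x, x.2⟩
    have h1 : π ((x : Ct) ^ 2 ^ k) = 1 := by rw [map_pow]; exact congrArg Subtype.val hk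
    refine ⟨k + 1, Subtype.ext ?_⟩
    show (x : Ct) ^ 2 ^ (k + 1) = 1
    rw [pow_succ, pow_mul]
    rcases hπ1 h1 with e | e <;> rw [e]
    · exact one_pow 2
    · rw [pow_two, hτ2]
  set bQ := π b'
  have hb'3 : b' ^ 3 = 1 := Subtype.ext (by
    show f (monA (inJ vb)) ^ 3 = 1
    rw [← map_pow, show monA (inJ vb) ^ 3 = 1 from Subtype.ext (by
      rw [pow_three']; exact qT_facts.2.2), map_one])
  have hb3 : bQ ^ 3 = 1 := by rw [← map_pow, hb'3, map_one]
  have hb'ne : b' ≠ 1 ∧ b' ≠ τ' := by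
    constructor <;> intro h
    · exact two_ne.2.1 (N.cfg.inj ((N.mon _).symm.trans ((congrArg Subtype.val h).trans
        (map_one ι).symm)))
    · exact two_ne.2.2 (N.cfg.inj ((N.mon _).symm.trans (congrArg Subtype.val h)))
  have hbne : bQ ≠ 1 := fun h => by
    rcases hπ1 h with e | e
    exacts [hb'ne.1 e, hb'ne.2 e]
  have hbo : orderOf bQ = 3 := orderOf_eq_prime hb3 hbne
  have hCb : ∀ q, q * bQ = bQ * q → q ∈ Subgroup.zpowers bQ := by
    intro q hq
    obtain ⟨c, rfl⟩ := QuotientGroup.mk'_surjective _ q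
    have h1 : π (c * b' * c⁻¹ * b'⁻¹) = 1 := by
      rw [map_mul, map_mul, map_mul, map_inv, map_inv, hq, mul_inv_cancel_right, mul_inv_cancel]
    have hcb : c * b' = b' * c := by
      rcases hπ1 h1 with e | e
      · exact mul_inv_eq_iff_eq_mul.1 (mul_inv_eq_one.1 e)
      · exfalso
        have e' : c * b' * c⁻¹ = τ' * b' := mul_inv_eq_iff_eq_mul.1 e
        have hcm : Commute τ' b' := Subtype.ext (Subgroup.mem_centralizer_singleton_iff.1 b'.2).symm
        have h3 := congrArg (· ^ 3) e'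
        simp only [conj_pow, hb'3, mul_one, mul_inv_cancel, hcm.mul_pow] at h3
        exact hτne (by rw [h3, pow_three', hτ2, one_mul])
    have hbG : ((b' : Ct) : G) = ι (inJ vb) := N.mon _
    have hc' : (c : G) ∈ cg ι vb := by
      refine Subgroup.mem_centralizer_singleton_iff.2 ?_
      rw [← hbG]; exact congrArg Subtype.val hcb
    obtain ⟨m, hm⟩ := N.cfg.cg_of_cl (Or.inl rfl) hc'
    have hmT : m * inQ ⟨11⟩ = inQ ⟨11⟩ * m := N.cfg.inj (by
      rw [map_mul, map_mul, hm]; exact Subgroup.mem_centralizer_singleton_iff.1 c.2)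
    obtain ⟨i, j, hij⟩ := cent_table m ((N.cfg.mem_cg_iff m vb).1 (hm ▸ hc')) hmT
    refine ⟨i.val, ?_⟩
    show bQ ^ (i.val : ℤ) = π c
    rw [zpow_natCast, show c = b' ^ i.val * τ' ^ j.val from Subtype.ext (by
      push_cast
      rw [← hm, hij, map_mul, map_pow inJ, map_pow inQ, map_pow, map_pow, ← hbG]),
      map_mul, map_pow, map_pow, hπτ, one_pow, mul_one]
  set e : Fin 6 → Ct ⧸ Subgroup.zpowers τ' := fun i => π (d' i)
  have conjQ : ∀ {x : Ct} {a : A9} (i j : Fin 6), (x : G) = f a →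
      (a : Perm (Fin 9)) * dP i * (a : Perm (Fin 9))⁻¹ = dP j → π x * e i * (π x)⁻¹ = e j := by
    intro x a i j hx h
    show π x * π (d' i) * (π x)⁻¹ = π (d' j)
    rw [← map_inv, ← map_mul, ← map_mul]
    refine congrArg π (Subtype.ext ?_)
    show (x : G) * f (dA i) * (x : G)⁻¹ = f (dA j)
    rw [hx, ← map_inv, ← map_mul, ← map_mul]
    exact congrArg f (Subtype.ext h)
  have rb0 : bQ * e 0 * bQ⁻¹ = e 2 := conjQ 0 2 rfl bd0
  have rb2 : bQ * e 2 * bQ⁻¹ = e 1 := conjQ 2 1 rfl bd2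
  have e01 : e 0 * e 1 = e 2 := by
    show π (d' 0) * π (d' 1) = π (d' 2)
    rw [← map_mul]
    exact congrArg π (Subtype.ext (by
      show f (dA 0) * f (dA 1) = f (dA 2)
      rw [← map_mul]; exact congrArg f (Subtype.ext d01)))
  have e01c : e 0 * e 1 = e 1 * e 0 := by
    show π (d' 0) * π (d' 1) = π (d' 1) * π (d' 0)
    rw [← map_mul, ← map_mul]
    exact congrArg π (Subtype.ext (by
      show f (dA 0) * f (dA 1) = f (dA 1) * f (dA 0)
      rw [← map_mul, ← map_mul]; exact congrArg f (Subtype.ext d01c)))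
  have esq : ∀ i, e i * e i = 1 := fun i => by
    show π (d' i) * π (d' i) = 1
    rw [← map_mul, show d' i * d' i = 1 from Subtype.ext (by
      show f (dA i) * f (dA i) = 1
      rw [← map_mul, show dA i * dA i = 1 from Subtype.ext (dsq i), map_one]), map_one]
  have finish : ∀ (M : Subgroup (Ct ⧸ Subgroup.zpowers τ')), M.Normal → IsPGroup 2 M → e 0 ∈ M →
      ∃ P : Subgroup Ct, P.Normal ∧ IsPGroup 2 P ∧ d' 0 ∈ P ∧ d' 1 ∈ P := by
    intro M hMn hM2 h0
    refine ⟨M.comap π, hMn.comap π, hcomap M hM2, h0, ?_⟩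
    have h2 : e 2 ∈ M := rb0 ▸ hMn.conj_mem _ h0 bQ
    exact (rb2 ▸ hMn.conj_mem _ h2 bQ : e 1 ∈ M)
  have hCQ : Subgroup.centralizer ({bQ} : Set (Ct ⧸ Subgroup.zpowers τ')) =
      Subgroup.zpowers bQ :=
    le_antisymm (fun q hq => hCb q (Subgroup.mem_centralizer_singleton_iff.1 hq))
      (Subgroup.zpowers_le.2 (Subgroup.mem_centralizer_singleton_iff.2 rfl))
  rcases SelfThree.main _ _ rfl bQ hbo hCQ with ⟨M, hM, hnil, hco, hquot⟩ | ⟨M, hM, -, h2, ⟨φ⟩⟩ | ⟨⟨φ⟩⟩
  · have hfix : ∀ z ∈ M, z * e 0 = e 0 * z → z * e 1 = e 1 * z → (orderOf z).Coprime 6 → z = 1 := by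
      intro z hz h0 h1 hzc
      obtain ⟨c, rfl⟩ := QuotientGroup.mk'_surjective _ z
      have lift : ∀ i j : Fin 6, dP i * qT = dP j → π c * e i = e i * π c →
          ∃ k, (c : G) * f (dA i) * (c : G)⁻¹ = f (dA k) := by
        intro i j hij h
        have h' : π (c * d' i * c⁻¹ * (d' i)⁻¹) = 1 := by
          rw [map_mul, map_mul, map_mul, map_inv, map_inv, h, mul_inv_cancel_right, mul_inv_cancel]
        rcases hπ1 h' with e' | e'
        · exact ⟨i, congrArg Subtype.val (mul_inv_eq_one.1 e')⟩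
        · refine ⟨j, ?_⟩
          have e'' : c * d' i * c⁻¹ = τ' * d' i := mul_inv_eq_iff_eq_mul.1 e'
          have hcm : τ' * d' i = d' i * τ' :=
            Subtype.ext (Subgroup.mem_centralizer_singleton_iff.1 (d' i).2).symm
          rw [hcm, hdT i j hij] at e''
          exact congrArg Subtype.val e''
      obtain ⟨k0, hk0⟩ := lift 0 3 dT0 h0
      obtain ⟨k1, hk1⟩ := lift 1 4 dT1 h1
      have hcL := N.norm_D_le hk0 hk1 (Subgroup.mem_centralizer_singleton_iff.1 c.2)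
      obtain ⟨a, ha, haT⟩ := N.mem_comm hcL (Subgroup.mem_centralizer_singleton_iff.1 c.2)
      have h24 : π c ^ 24 = 1 := by
        rw [← map_pow, show c ^ 24 = 1 from Subtype.ext (by
          push_cast
          rw [← ha, ← map_pow, show a ^ 24 = 1 from Subtype.ext (by
            rw [Subgroup.coe_pow]; exact pow_24 haT), map_one]), map_one]
      exact orderOf_eq_one_iff.1 (pow24_two _ (orderOf_dvd_of_pow_eq_one h24) hzc)
    have hM2 : IsPGroup 2 M := by
      obtain ⟨k, hk⟩ : ∃ k, Nat.card M = 2 ^ k := by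
        refine ⟨(Nat.card M).primeFactorsList.length, Nat.eq_prime_pow_of_unique_prime_dvd
          Nat.card_pos.ne' fun {p} hp hpd => ?_⟩
        by_contra hp2
        haveI : Fact p.Prime := ⟨hp⟩
        haveI : Group.IsNilpotent M := hnil
        obtain ⟨S⟩ : Nonempty (Sylow p M) := inferInstance
        haveI hSn : (S : Subgroup M).Normal := inferInstance
        haveI : (S : Subgroup M).Characteristic := S.characteristic_of_normal hSn
        set SQ := (S : Subgroup M).map M.subtype with hSQ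
        haveI : SQ.Normal := ConjAct.normal_of_characteristic_of_normal
        have hSp : IsPGroup p SQ := S.isPGroup'.map _
        haveI : Nontrivial SQ := by
          rw [← Finite.one_lt_card_iff_nontrivial, hSQ,
            Subgroup.card_map_of_injective M.subtype_injective]
          exact lt_of_lt_of_le hp.one_lt (Nat.le_of_dvd Nat.card_pos (S.dvd_card_of_dvd_card hpd))
        haveI := hSp.center_nontrivial
        set Z := (Subgroup.center SQ).map SQ.subtype with hZ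
        haveI : Z.Normal := ConjAct.normal_of_characteristic_of_normal
        have hZM : Z ≤ M := le_trans (Subgroup.map_subtype_le _) (Subgroup.map_subtype_le _)
        obtain ⟨kZ, hkZ⟩ := IsPGroup.iff_card.1 ((hSp.to_subgroup (Subgroup.center SQ)).map SQ.subtype)
        have hZc : (Nat.card Z).Coprime 6 := by
          rw [hZ, hkZ]
          refine Nat.Coprime.pow_left _ (hp.coprime_iff_not_dvd.2 fun h6 => ?_)
          have hp3 : p ≠ 3 := fun h => by
            have := Nat.eq_one_of_dvd_coprimes hco (h ▸ hpd) dvd_rfl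
            omega
          rcases hp.dvd_mul.1 (show p ∣ 2 * 3 from h6) with h | h
          · exact hp2 ((Nat.prime_dvd_prime_iff_eq hp Nat.prime_two).1 h)
          · exact hp3 ((Nat.prime_dvd_prime_iff_eq hp Nat.prime_three).1 h)
        have hZb : Z = ⊥ := by
          refine odd_abelian_trivial esq e01 e01c hb3 rb0 rb2 hCb Z ?_ hZc ?_
          · rintro _ ⟨x, hx, rfl⟩ _ ⟨y, hy, rfl⟩
            rw [← map_mul, ← map_mul, Subgroup.mem_center_iff.1 hy x]
          · intro z hz h0 h1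
            exact hfix z (hZM hz) h0 h1
              (Nat.Coprime.coprime_dvd_left (Subgroup.orderOf_dvd_natCard Z hz) hZc)
        exact (Subgroup.nontrivial_iff_ne_bot _).1 ‹Nontrivial (Subgroup.center SQ)›
          ((Subgroup.map_eq_bot_iff_of_injective _ SQ.subtype_injective).1 (hZ ▸ hZb))
      exact IsPGroup.of_card hk
    refine finish M hM hM2 ?_
    refine (QuotientGroup.eq_one_iff _).1 ?_
    show QuotientGroup.mk' M (e 0) = 1
    have hbM : QuotientGroup.mk' M bQ ≠ 1 := fun h => by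
      have := hbo ▸ Subgroup.orderOf_dvd_natCard M ((QuotientGroup.eq_one_iff bQ).1 h)
      have := Nat.eq_one_of_dvd_coprimes hco this dvd_rfl
      omega
    rcases hquot with h3 | ⟨⟨φ⟩⟩
    · have h := pow_card_eq_one' (x := QuotientGroup.mk' M (e 0))
      rw [h3, pow_three', ← map_mul, esq, map_one, one_mul] at h
      exact h
    · set F := φ.toMonoidHom.comp (QuotientGroup.mk' M)
      have key := (SelfThree.perm3_facts (F (e 0)) (F bQ) (fun h => hbM (φ.map_eq_one_iff.1 h))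
        (by rw [← map_pow, hb3, map_one])).1
      by_contra h0
      obtain ⟨hne, hcube⟩ := key (fun h => h0 (φ.map_eq_one_iff.1 h))
        (by rw [← map_mul, esq, map_one])
      rw [← map_inv, ← map_mul, ← map_mul, rb0, ← map_mul, ← e01, ← mul_assoc, esq, one_mul] at hne hcube
      rw [pow_three', ← map_mul, esq, map_one, one_mul] at hcube
      exact hne hcube
  · refine finish M hM (fun n => ⟨1, Subtype.ext (by simpa using h2 n n.2)⟩) ?_
    by_contra h0
    set F : _ →* Perm (Fin 5) := (alternatingGroup (Fin 5)).subtype.comp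
      (φ.toMonoidHom.comp (QuotientGroup.mk' M))
    have hF1 : ∀ {q}, F q = 1 → q ∈ M := fun {q} h =>
      (QuotientGroup.eq_one_iff q).1 (φ.map_eq_one_iff.1 (Subtype.ext h))
    have rr : π r' * bQ * (π r')⁻¹ = bQ⁻¹ := by
      rw [← map_inv, ← map_mul, ← map_mul, ← map_inv]
      refine congrArg π (Subtype.ext ?_)
      show f aR * f (monA (inJ vb)) * (f aR)⁻¹ = (f (monA (inJ vb)))⁻¹
      rw [← map_inv, ← map_mul, ← map_mul, ← map_inv]
      exact congrArg f (Subtype.ext rB)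
    have r0 : π r' * e 0 * (π r')⁻¹ = e 1 := conjQ 0 1 rfl rd0
    refine a5_no_inverter (F (e 0)) (by rw [← map_mul, esq, map_one]) (fun h => h0 (hF1 h))
      (Perm.mem_alternatingGroup.1 (φ _).2) (F bQ)
      (by rw [← map_mul, ← map_mul, ← pow_three', hb3, map_one]) (fun h => ?_)
      (Perm.mem_alternatingGroup.1 (φ _).2) ?_ (F (π r')) (Perm.mem_alternatingGroup.1 (φ _).2) ?_ ?_
    · have h6 := h2 bQ (hF1 h)
      rw [← orderOf_dvd_iff_pow_eq_one, hbo] at h6
      norm_num at h6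
    · simp only [← map_mul F, ← map_inv F]
      congr 1
      rw [rb0, ← e01, ← mul_assoc, esq, one_mul, e01c, mul_assoc, esq, mul_one]
    · simp only [← map_mul F, ← map_inv F]
      exact congrArg F rr
    · simp only [← map_mul F, ← map_inv F]
      congr 1
      rw [r0, ← rb2, ← rb0]
      group
  · exfalso
    have hτo : orderOf τ' = 2 := orderOf_eq_prime ((pow_two τ').trans hτ2) hτne
    have h168 : Nat.card Ct = 336 := by
      rw [Subgroup.card_eq_card_quotient_mul_card_subgroup (Subgroup.zpowers τ'),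
        Nat.card_zpowers, hτo, Nat.card_congr φ.toEquiv, SixCent.card_psl7]
    have hle : p32.map f ≤ Ct := by
      rintro _ ⟨a, ha, rfl⟩
      exact mk a (p32_comm ha)
    have h32 := Subgroup.card_dvd_of_le hle
    rw [Subgroup.card_map_of_injective N.inj, card_p32, h168] at h32
    norm_num at h32

end Nin

end Cfsg.Agent.A9Three
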