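import Cfsg.Agent.Lib.ThreeTI.Mono.Model

/-!
S3339: finite facts about the monomial group `3³ : S₄`.
-/

set_option autoImplicit false
set_option maxRecDepth 40000

namespace Cfsg.Agent.A9Three

open Cfsg.Agent.ThreeTI.Mono
open Cfsg.Agent.ThreeTI.Cube (V)

/-- A translation by its three coordinates. -/
def vec (x y z : ZMod 3) : V := Multiplicative.ofAdd (x, y, z)

/-- A translation in the model. -/
def el (x y z : ZMod 3) : Mo := inJ (vec x y z)

/-- A rotation in the model. -/
def rot (k : Fin 24) : Mo := inQ ⟨k⟩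

theorem v_cube : ∀ v : V, v * v * v = 1 := by decide +kernel

theorem cent_J : ∀ q : Rot, actFn q (vec 1 0 0) = vec 1 0 0 → actFn q (vec 0 1 0) = vec 0 1 0 →
    actFn q (vec 0 0 1) = vec 0 0 1 → q = 1 := by decide +kernel

theorem fixed_le : ∀ q : Rot, q * q * q = 1 → q ≠ 1 →
    (Finset.univ.filter fun v : V => actFn q v = v).card ≤ 3 := by decide +kernel

theorem rot_pow81 : ∀ q : Rot, q ^ 81 = 1 → q * q * q = 1 := by decide +kernel

theorem rot_three_le : ∀ q r : Rot, q * q * q = 1 → r * r * r = 1 → q ≠ 1 → q * r = r * q →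
    r = 1 ∨ r = q ∨ r = q * q := by decide +kernel

theorem rot_card : Fintype.card Rot = 24 := by decide +kernel

/-- Conjugation of a translation. -/
theorem conj_inJ (m : Mo) (v : V) : m * inJ v * m⁻¹ = inJ (actFn m.right v) := by
  refine SemidirectProduct.ext ?_ ?_
  · simp only [SemidirectProduct.mul_left, SemidirectProduct.inv_left, SemidirectProduct.mul_right,
      SemidirectProduct.left_inl, SemidirectProduct.right_inl, mul_one]
    rw [← MulAut.mul_apply, ← map_mul, mul_inv_cancel, map_one, MulAut.one_apply]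
    exact mul_inv_cancel_comm _ _
  · simp

theorem commute_inJ_iff (m : Mo) (v : V) : m * inJ v = inJ v * m ↔ actFn m.right v = v := by
  rw [← mul_inv_eq_iff_eq_mul, conj_inJ]
  exact ⟨fun h => SemidirectProduct.inl_injective h, fun h => by rw [h]⟩

theorem eq_inJ_of_right {m : Mo} (h : m.right = 1) : m = inJ m.left :=
  SemidirectProduct.ext rfl h

end Cfsg.Agent.A9Three
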