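import Cfsg.Agent.Lib.A9Three.Hom
import Mathlib.GroupTheory.Perm.Cycle.Type

/-!
S3339: facts about permutations of nine points.
-/

set_option autoImplicit false
set_option maxRecDepth 100000

namespace Cfsg.Agent.A9Three

open Cfsg.Agent.ThreeTI.Mono
open Cfsg.Agent.ThreeTI.Cube (V)
open Equiv

/-- A product of four transpositions commuting with the chosen element of order three. -/
def qT : Perm (Fin 9) := perm9 (inQ ⟨11⟩)

/-- The chosen element of order three. -/
def qB : Perm (Fin 9) := perm9 (inJ vb)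

/-- The four transpositions as a function. -/
def Tv : Fin 9 → Fin 9 := ![3, 4, 5, 0, 1, 2, 7, 6, 8]

theorem qT_apply : ∀ x, qT x = Tv x := by decide +kernel

theorem Tv_fix : ∀ x, Tv x = x → x = 8 := by decide

theorem qT_facts : qT * qT = 1 ∧ qB * qT = qT * qB ∧ qB * qB * qB = 1 := by decide +kernel

/-- A function commuting with the four transpositions. -/
def buildFn (a c d g : Fin 9) : Fin 9 → Fin 9 := ![a, c, d, Tv a, Tv c, Tv d, g, Tv g, 8]

theorem comm_apply {p : Perm (Fin 9)} (h : p * qT = qT * p) (x : Fin 9) :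
    p (Tv x) = Tv (p x) := by
  rw [← qT_apply, ← qT_apply]
  exact congrArg (fun q : Perm (Fin 9) => q x) h

theorem apply_eight {p : Perm (Fin 9)} (h : p * qT = qT * p) : p 8 = 8 :=
  Tv_fix _ (comm_apply h 8).symm

theorem param {p : Perm (Fin 9)} (h : p * qT = qT * p) :
    ∀ x, p x = buildFn (p 0) (p 1) (p 2) (p 6) x := by
  intro x
  fin_cases x
  · rfl
  · rfl
  · rfl
  · exact comm_apply h 0
  · exact comm_apply h 1
  · exact comm_apply h 2
  · rfl
  · exact comm_apply h 6
  · exact apply_eight h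

/-- The six products of two of the four transpositions. -/
def dP : Fin 6 → Perm (Fin 9) :=
  ![swap 0 3 * swap 1 4, swap 0 3 * swap 2 5, swap 1 4 * swap 2 5, swap 2 5 * swap 6 7,
    swap 1 4 * swap 6 7, swap 0 3 * swap 6 7]

theorem dP_form : ∀ i, ∃ a b : Fin 9, (a ≠ 8 ∧ b ≠ 8 ∧ b ≠ a ∧ b ≠ Tv a) ∧
    dP i = swap a (Tv a) * swap b (Tv b) := by decide +kernel

theorem dP_mem : ∀ a b : Fin 9, a ≠ 8 → b ≠ 8 → b ≠ a → b ≠ Tv a →
    ∃ i, swap a (Tv a) * swap b (Tv b) = dP i := by decide +kernel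

/-- The six products are permuted by the centraliser. -/
theorem D_inv {p : Perm (Fin 9)} (h : p * qT = qT * p) (i : Fin 6) :
    ∃ j, p * dP i * p⁻¹ = dP j := by
  obtain ⟨a, b, ⟨ha, hb, hba, hbT⟩, e⟩ := dP_form i
  obtain ⟨j, hj⟩ := dP_mem (p a) (p b)
    (fun e => ha (p.injective (e.trans (apply_eight h).symm)))
    (fun e => hb (p.injective (e.trans (apply_eight h).symm)))
    (fun e => hba (p.injective e)) (fun e => hbT (p.injective (e.trans (comm_apply h a).symm)))
  refine ⟨j, ?_⟩
  rw [← hj, e, ← comm_apply h, ← comm_apply h, swap_apply_apply, swap_apply_apply]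
  group

/-- Evenness and the test in the table of involutions. -/
def GoodInv (n : Perm (Fin 9)) : Prop :=
  Perm.sign n = 1 ∧ (n * (qB * n * qB⁻¹) * (n * (qB * n * qB⁻¹)) * (n * (qB * n * qB⁻¹)) = 1 →
    n * (qB * n * qB⁻¹) = 1)

instance (n : Perm (Fin 9)) : Decidable (GoodInv n) := by unfold GoodInv; infer_instance

/-- The possible shapes. -/
def Shape4 (n : Perm (Fin 9)) : Prop :=
  n = 1 ∨ n = qT ∨ (∃ i, n = dP i) ∨ (Finset.univ.filter fun x => n x = x).card = 1

instance (n : Perm (Fin 9)) : Decidable (Shape4 n) := by unfold Shape4; infer_instance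

/-- The test on one function. -/
def invTest (a c d g : Fin 9) : Bool :=
  if h : (∀ x, buildFn a c d g (buildFn a c d g x) = x) then
    decide (GoodInv (Function.Involutive.toPerm (buildFn a c d g) h) →
      Shape4 (Function.Involutive.toPerm (buildFn a c d g) h))
  else true

theorem inv_table : ∀ a c d g : Fin 9, invTest a c d g = true := by decide +kernel

theorem inv_class {n : Perm (Fin 9)} (h : n * qT = qT * n) (h2 : n * n = 1) (hg : GoodInv n) :
    Shape4 n := by
  have hp := param h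
  have hi : ∀ x, buildFn (n 0) (n 1) (n 2) (n 6) (buildFn (n 0) (n 1) (n 2) (n 6) x) = x :=
    fun x => by rw [← hp, ← hp, ← Perm.mul_apply, h2, Perm.one_apply]
  have e : Function.Involutive.toPerm _ hi = n := Equiv.ext fun x => (hp x).symm
  have := inv_table (n 0) (n 1) (n 2) (n 6)
  rw [invTest, dif_pos hi, decide_eq_true_iff, e] at this
  exact this hg

theorem pow_table : ∀ a c d g : Fin 9, Function.Injective (buildFn a c d g) →
    ∀ x, (buildFn a c d g)^[24] x = x := by
  unfold Function.Injective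
  decide +kernel

theorem pow_24 {p : Perm (Fin 9)} (h : p * qT = qT * p) : p ^ 24 = 1 := by
  have hp : (⇑p) = buildFn (p 0) (p 1) (p 2) (p 6) := funext (param h)
  refine Equiv.ext fun x => ?_
  rw [Perm.coe_pow, hp]
  exact pow_table _ _ _ _ (hp ▸ p.injective) x

theorem count_table : (Finset.univ.filter fun q : Fin 9 × Fin 9 × Fin 9 × Fin 9 =>
    Function.Injective (buildFn q.1 q.2.1 q.2.2.1 q.2.2.2)).card ≤ 384 := by
  unfold Function.Injective
  decide +kernel

theorem card_cent_qT :
    Nat.card {p : Perm (Fin 9) // p * qT = qT * p} ≤ 384 := by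
  classical
  refine le_trans ?_ count_table
  rw [← Fintype.card_coe, ← Nat.card_eq_fintype_card]
  refine Nat.card_le_card_of_injective
    (fun p => ⟨(p.1 0, p.1 1, p.1 2, p.1 6), Finset.mem_filter.2 ⟨Finset.mem_univ _, ?_⟩⟩)
    fun p q e => ?_
  · have hp : (⇑p.1) = buildFn (p.1 0) (p.1 1) (p.1 2) (p.1 6) := funext (param p.2)
    show Function.Injective (buildFn (p.1 0) (p.1 1) (p.1 2) (p.1 6))
    rw [← hp]
    exact p.1.injective
  · have e' := congrArg Subtype.val e
    simp only [Prod.mk.injEq] at e'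
    refine Subtype.ext (Equiv.ext fun x => ?_)
    rw [param p.2 x, param q.2 x, e'.1, e'.2.1, e'.2.2.1, e'.2.2.2]

theorem ct_eight {n : Perm (Fin 9)} (h2 : n * n = 1)
    (hf : (Finset.univ.filter fun x => n x = x).card = 1) :
    n.cycleType = Multiset.replicate 4 2 := by
  haveI : Fact (Nat.Prime 2) := ⟨Nat.prime_two⟩
  have hne : n ≠ 1 := fun e => by subst e; simp at hf
  have ho : orderOf n = 2 := orderOf_eq_prime ((pow_two n).trans h2) hne
  obtain ⟨m, hm⟩ := Perm.cycleType_prime_order (σ := n) (by rw [ho]; exact Nat.prime_two)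
  rw [ho] at hm
  have hsum := n.sum_cycleType
  rw [hm, Multiset.sum_replicate, smul_eq_mul] at hsum
  have hs := Finset.card_filter_add_card_filter_not (s := (Finset.univ : Finset (Fin 9)))
    (fun x => n x = x)
  rw [hf, Finset.card_univ, Fintype.card_fin] at hs
  have hsupp : n.support = Finset.univ.filter fun x => ¬ n x = x := by ext x; simp
  rw [hsupp] at hsum
  rw [hm, show m + 1 = 4 by omega]

theorem qT_fixed : (Finset.univ.filter fun x => qT x = x).card = 1 ∧
    Perm.sign (swap (0 : Fin 9) 3) = -1 ∧ swap (0 : Fin 9) 3 * qT = qT * swap 0 3 := by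
  decide +kernel

/-- The even permutations with one fixed point which are involutions are conjugate. -/
theorem fixed_one_conj {n : Perm (Fin 9)} (h2 : n * n = 1)
    (hf : (Finset.univ.filter fun x => n x = x).card = 1) :
    ∃ k : Perm (Fin 9), Perm.sign k = 1 ∧ k * qT * k⁻¹ = n := by
  obtain ⟨k, hk⟩ := isConj_iff.1 (Perm.isConj_iff_cycleType_eq.2
    ((ct_eight qT_facts.1 qT_fixed.1).trans (ct_eight h2 hf).symm))
  rcases Int.units_eq_one_or (Perm.sign k) with e | e
  · exact ⟨k, e, hk⟩
  · refine ⟨k * swap 0 3, by rw [map_mul, e, qT_fixed.2.1]; decide, ?_⟩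
    rw [← hk, mul_inv_rev]
    calc k * swap 0 3 * qT * ((swap 0 3)⁻¹ * k⁻¹) = k * (swap 0 3 * qT) * (swap 0 3)⁻¹ * k⁻¹ := by
          group
      _ = _ := by rw [qT_fixed.2.2]; group

theorem prime_dvd_lcm {p : ℕ} (hp : p.Prime) (s : Multiset ℕ) (h : p ∣ s.lcm) :
    ∃ a ∈ s, p ∣ a := by
  induction s using Multiset.induction with
  | empty => rw [Multiset.lcm_zero, Nat.dvd_one] at h; exact absurd h hp.ne_one
  | cons a s ih =>
    rw [Multiset.lcm_cons] at h
    rcases hp.dvd_mul.1 (h.trans (Nat.lcm_dvd_mul a s.lcm)) with h | h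
    · exact ⟨a, Multiset.mem_cons_self _ _, h⟩
    · obtain ⟨b, hb, hb'⟩ := ih h
      exact ⟨b, Multiset.mem_cons_of_mem hb, hb'⟩

/-- No element has order thirty-five. -/
theorem no_35 {s : Perm (Fin 9)} (h : orderOf s = 35) : False := by
  have hl := s.lcm_cycleType
  rw [h] at hl
  obtain ⟨a, ha, ha5⟩ := prime_dvd_lcm (p := 5) (by norm_num) s.cycleType (hl ▸ ⟨7, rfl⟩)
  obtain ⟨b, hb, hb7⟩ := prime_dvd_lcm (p := 7) (by norm_num) s.cycleType (hl ▸ ⟨5, rfl⟩)
  have hsum : s.cycleType.sum ≤ 9 := by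
    rw [s.sum_cycleType]
    exact le_trans (Finset.card_le_univ _) (by simp)
  have hpos : ∀ {c}, c ∈ s.cycleType → 2 ≤ c := fun hc => Perm.two_le_of_mem_cycleType hc
  obtain ⟨t, ht⟩ := Multiset.exists_cons_of_mem ha
  rw [ht, Multiset.sum_cons] at hsum
  have h5 := Nat.le_of_dvd (by have := hpos ha; omega) ha5
  have h7 := Nat.le_of_dvd (by have := hpos hb; omega) hb7
  rw [ht, Multiset.mem_cons] at hb
  rcases hb with rfl | hb
  · have : 35 ∣ b := Nat.Coprime.mul_dvd_of_dvd_of_dvd (by norm_num : Nat.Coprime 5 7) ha5 hb7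
    have := Nat.le_of_dvd (by omega) this
    omega
  · have := Multiset.le_sum_of_mem hb
    omega

/-- A conjugating element for the elements of order three permuting the blocks. -/
def k12 : Perm (Fin 9) where
  toFun := ![0, 3, 6, 4, 1, 7, 2, 5, 8]
  invFun := ![0, 4, 6, 1, 3, 7, 2, 5, 8]
  left_inv := fun x => by fin_cases x <;> rfl
  right_inv := fun x => by fin_cases x <;> rfl

theorem k12_facts : Perm.sign k12 = 1 ∧ k12 * perm9 (inQ ⟨12⟩) * k12⁻¹ = perm9 (inJ vc) := by
  decide +kernel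

theorem three_cases : ∀ m : Mo, m * m * m = 1 → m.right = 1 ∨ cl m = cl (inQ ⟨12⟩) := by
  decide +kernel

theorem trans_class : ∀ v : V, v ≠ 1 →
    cl (inJ v) = cl (inJ va) ∨ cl (inJ v) = cl (inJ vb) ∨ cl (inJ v) = cl (inJ vc) := by
  decide +kernel

end Cfsg.Agent.A9Three
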