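import Cfsg.Agent.Lib.A9Three.Count

/-!
S3339: the normaliser of three disjoint three-cycles in the alternating group of degree nine.
-/

set_option autoImplicit false
set_option maxRecDepth 100000

namespace Cfsg.Agent.A9Three

open Cfsg.Agent.ThreeTI.Mono
open Cfsg.Agent.ThreeTI.Cube (V)
open Equiv

/-- The three translations moving one block each. -/
def unitV : Fin 3 → V := ![vec 1 0 0, vec 0 1 0, vec 0 0 1]

/-- An odd permutation normalising the three cycles. -/
def odd01 : Perm (Fin 9) := swap 0 1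

theorem gen_cycles : perm9 (inJ (unitV 0)) = swap (0 : Fin 9) 1 * swap 1 2 ∧
    perm9 (inJ (unitV 1)) = swap (3 : Fin 9) 4 * swap 4 5 ∧
    perm9 (inJ (unitV 2)) = swap (6 : Fin 9) 7 * swap 7 8 := by decide +kernel

theorem unit_supp : ∀ i, (Finset.univ.filter fun x => perm9 (inJ (unitV i)) x ≠ x).card = 3 := by
  decide +kernel

theorem unit_sep : ∀ i j, (unitV i = unitV j ∨ unitV i = (unitV j)⁻¹) → i = j := by decide +kernel

theorem odd01_facts : Perm.sign odd01 = -1 ∧
    odd01 * perm9 (inJ (unitV 0)) * odd01⁻¹ = perm9 (inJ (unitV 0)⁻¹) ∧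
    odd01 * perm9 (inJ (unitV 1)) * odd01⁻¹ = perm9 (inJ (unitV 1)) ∧
    odd01 * perm9 (inJ (unitV 2)) * odd01⁻¹ = perm9 (inJ (unitV 2)) := by decide +kernel

set_option synthInstance.maxSize 1000 in
theorem frame_table : ∀ a b c : V,
    (Finset.univ.filter fun x => perm9 (inJ a) x ≠ x).card = 3 →
    (Finset.univ.filter fun x => perm9 (inJ b) x ≠ x).card = 3 →
    (Finset.univ.filter fun x => perm9 (inJ c) x ≠ x).card = 3 →
    a ≠ b → a ≠ b⁻¹ → a ≠ c → a ≠ c⁻¹ → b ≠ c → b ≠ c⁻¹ →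
    ∃ q : Rot, (actFn q (unitV 0) = a ∨ actFn q (unitV 0)⁻¹ = a) ∧ actFn q (unitV 1) = b ∧
      actFn q (unitV 2) = c := by decide +kernel

/-- A function commuting with the three cycles. -/
def blockFn (a b c : Fin 9) : Fin 9 → Fin 9 :=
  ![a, perm9 (inJ (unitV 0)) a, perm9 (inJ (unitV 0)) (perm9 (inJ (unitV 0)) a),
    b, perm9 (inJ (unitV 1)) b, perm9 (inJ (unitV 1)) (perm9 (inJ (unitV 1)) b),
    c, perm9 (inJ (unitV 2)) c, perm9 (inJ (unitV 2)) (perm9 (inJ (unitV 2)) c)]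

theorem unit_step : perm9 (inJ (unitV 0)) (0 : Fin 9) = 1 ∧ perm9 (inJ (unitV 0)) 1 = (2 : Fin 9) ∧
    perm9 (inJ (unitV 1)) 3 = (4 : Fin 9) ∧ perm9 (inJ (unitV 1)) 4 = (5 : Fin 9) ∧
    perm9 (inJ (unitV 2)) 6 = (7 : Fin 9) ∧ perm9 (inJ (unitV 2)) 7 = (8 : Fin 9) := by decide +kernel

set_option synthInstance.maxSize 1000 in
theorem block_table : ∀ a b c : Fin 9, perm9 (inJ (unitV 0)) a ≠ a → perm9 (inJ (unitV 1)) b ≠ b →
    perm9 (inJ (unitV 2)) c ≠ c → ∃ v : V, ∀ x, blockFn a b c x = perm9 (inJ v) x := by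
  decide +kernel

theorem cent_cycles {p : Perm (Fin 9)} (h : ∀ i, p * perm9 (inJ (unitV i)) = perm9 (inJ (unitV i)) * p) :
    ∃ v : V, p = perm9 (inJ v) := by
  obtain ⟨s1, s2, s3, s4, s5, s6⟩ := unit_step
  have ap : ∀ i x, p (perm9 (inJ (unitV i)) x) = perm9 (inJ (unitV i)) (p x) := fun i x =>
    congrArg (fun q : Perm (Fin 9) => q x) (h i)
  obtain ⟨v, hv⟩ := block_table (p 0) (p 3) (p 6)
    (fun e => by rw [← ap] at e; rw [s1] at e; exact absurd (p.injective e) (by decide))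
    (fun e => by rw [← ap] at e; rw [s3] at e; exact absurd (p.injective e) (by decide))
    (fun e => by rw [← ap] at e; rw [s5] at e; exact absurd (p.injective e) (by decide))
  refine ⟨v, Equiv.ext fun x => ?_⟩
  rw [← hv]
  fin_cases x
  · rfl
  · show p 1 = perm9 (inJ (unitV 0)) (p 0)
    rw [← ap, s1]
  · show p 2 = perm9 (inJ (unitV 0)) (perm9 (inJ (unitV 0)) (p 0))
    rw [← ap, ← ap, s1, s2]
  · rfl
  · show p 4 = perm9 (inJ (unitV 1)) (p 3)
    rw [← ap, s3]
  · show p 5 = perm9 (inJ (unitV 1)) (perm9 (inJ (unitV 1)) (p 3))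
    rw [← ap, ← ap, s3, s4]
  · rfl
  · show p 7 = perm9 (inJ (unitV 2)) (p 6)
    rw [← ap, s5]
  · show p 8 = perm9 (inJ (unitV 2)) (perm9 (inJ (unitV 2)) (p 6))
    rw [← ap, ← ap, s5, s6]

/-- The subgroup generated by the three cycles. -/
theorem closure_cycles :
    Subgroup.closure {swap (0 : Fin 9) 1 * swap 1 2, swap (3 : Fin 9) 4 * swap 4 5,
      swap (6 : Fin 9) 7 * swap 7 8} = (perm9.comp inJ).range := by
  obtain ⟨g0, g1, g2⟩ := gen_cycles
  refine le_antisymm ((Subgroup.closure_le _).2 ?_) ?_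
  · rintro x (rfl | rfl | rfl)
    exacts [⟨_, g0⟩, ⟨_, g1⟩, ⟨_, g2⟩]
  · rintro _ ⟨v, rfl⟩
    rw [(by decide +kernel : ∀ v : V, v = unitV 0 ^ v.toAdd.1.val * unitV 1 ^ v.toAdd.2.1.val *
      unitV 2 ^ v.toAdd.2.2.val) v, map_mul, map_mul, map_pow, map_pow, map_pow]
    refine mul_mem (mul_mem (pow_mem ?_ _) (pow_mem ?_ _)) (pow_mem ?_ _)
    · show perm9 (inJ (unitV 0)) ∈ _
      rw [g0]; exact Subgroup.subset_closure (Or.inl rfl)
    · show perm9 (inJ (unitV 1)) ∈ _
      rw [g1]; exact Subgroup.subset_closure (Or.inr (Or.inl rfl))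
    · show perm9 (inJ (unitV 2)) ∈ _
      rw [g2]; exact Subgroup.subset_closure (Or.inr (Or.inr rfl))

/-- The model is the normaliser of the three cycles in the alternating group. -/
theorem normalizer_eq (J₀ : Subgroup (Perm (Fin 9)))
    (hJ₀ : J₀ = Subgroup.closure {swap (0 : Fin 9) 1 * swap 1 2, swap (3 : Fin 9) 4 * swap 4 5,
      swap (6 : Fin 9) 7 * swap 7 8}) :
    alternatingGroup (Fin 9) ⊓ Subgroup.normalizer (J₀ : Set (Perm (Fin 9))) = perm9.range := by
  classical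
  rw [closure_cycles] at hJ₀
  subst hJ₀
  have hconj : ∀ (m : Mo) (v : V),
      perm9 m * perm9 (inJ v) * (perm9 m)⁻¹ = perm9 (inJ (actFn m.right v)) := fun m v => by
    rw [← map_inv, ← map_mul, ← map_mul, conj_inJ]
  refine le_antisymm ?_ ?_
  · rintro p ⟨hs, hn⟩
    have img : ∀ i, ∃ a : V, p * perm9 (inJ (unitV i)) * p⁻¹ = perm9 (inJ a) ∧
        (Finset.univ.filter fun x => perm9 (inJ a) x ≠ x).card = 3 := by
      intro i
      obtain ⟨a, ha⟩ := (Subgroup.mem_normalizer_iff.1 hn (perm9 (inJ (unitV i)))).1 ⟨unitV i, rfl⟩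
      have e : ∀ q : Perm (Fin 9), (Finset.univ.filter fun x => q x ≠ x) = q.support := fun q => by
        ext x; simp
      refine ⟨a, ha.symm, ?_⟩
      rw [e, show perm9 (inJ a) = p * perm9 (inJ (unitV i)) * p⁻¹ from ha, Perm.card_support_conj,
        ← e, unit_supp]
    choose a ha ha3 using img
    have sep : ∀ i j, i ≠ j → a i ≠ a j ∧ a i ≠ (a j)⁻¹ := by
      intro i j hij
      refine ⟨fun e => hij (unit_sep i j (Or.inl ?_)), fun e => hij (unit_sep i j (Or.inr ?_))⟩
      · refine SemidirectProduct.inl_injective (perm9_injective ?_)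
        have h := ha i
        rw [e, ← ha j] at h
        exact mul_left_cancel (mul_right_cancel h)
      · refine SemidirectProduct.inl_injective (perm9_injective ?_)
        have h := ha i
        rw [e, map_inv, map_inv, ← ha j,
          show (p * perm9 (inJ (unitV j)) * p⁻¹)⁻¹ = p * (perm9 (inJ (unitV j)))⁻¹ * p⁻¹ by group] at h
        rw [map_inv, map_inv]
        exact mul_left_cancel (mul_right_cancel h)
    obtain ⟨q, hq0, hq1, hq2⟩ := frame_table (a 0) (a 1) (a 2) (ha3 0) (ha3 1) (ha3 2)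
      (sep 0 1 (by decide)).1 (sep 0 1 (by decide)).2 (sep 0 2 (by decide)).1 (sep 0 2 (by decide)).2
      (sep 1 2 (by decide)).1 (sep 1 2 (by decide)).2
    have key : ∀ s : Perm (Fin 9), (∀ i, s * perm9 (inJ (unitV i)) * s⁻¹ = perm9 (inJ (a i))) →
        ∃ v, p = s * perm9 (inJ v) := by
      intro s hsi
      obtain ⟨v, hv⟩ := cent_cycles (p := s⁻¹ * p) fun i => by
        have h := (hsi i).trans (ha i).symm
        calc s⁻¹ * p * perm9 (inJ (unitV i))
            = s⁻¹ * (p * perm9 (inJ (unitV i)) * p⁻¹) * p := by group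
          _ = _ := by rw [← h]; group
      exact ⟨v, by rw [← hv, mul_inv_cancel_left]⟩
    rcases hq0 with h0 | h0
    · obtain ⟨v, rfl⟩ := key (perm9 (inQ q)) fun i => by
        rw [hconj, SemidirectProduct.right_inr]
        fin_cases i
        exacts [congrArg (fun w => perm9 (inJ w)) h0, congrArg (fun w => perm9 (inJ w)) hq1,
          congrArg (fun w => perm9 (inJ w)) hq2]
      exact ⟨inQ q * inJ v, map_mul _ _ _⟩
    · exfalso
      obtain ⟨f1, f2, f3, f4⟩ := odd01_facts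
      obtain ⟨v, rfl⟩ := key (perm9 (inQ q) * odd01) fun i => by
        rw [show perm9 (inQ q) * odd01 * perm9 (inJ (unitV i)) * (perm9 (inQ q) * odd01)⁻¹ =
          perm9 (inQ q) * (odd01 * perm9 (inJ (unitV i)) * odd01⁻¹) * (perm9 (inQ q))⁻¹ by group]
        fin_cases i
        · show perm9 (inQ q) * (odd01 * perm9 (inJ (unitV 0)) * odd01⁻¹) * (perm9 (inQ q))⁻¹ = _
          rw [f2, hconj, SemidirectProduct.right_inr, h0]
          rfl
        · show perm9 (inQ q) * (odd01 * perm9 (inJ (unitV 1)) * odd01⁻¹) * (perm9 (inQ q))⁻¹ = _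
          rw [f3, hconj, SemidirectProduct.right_inr, hq1]
          rfl
        · show perm9 (inQ q) * (odd01 * perm9 (inJ (unitV 2)) * odd01⁻¹) * (perm9 (inQ q))⁻¹ = _
          rw [f4, hconj, SemidirectProduct.right_inr, hq2]
          rfl
      have h : Perm.sign (perm9 (inQ q) * odd01 * perm9 (inJ v)) = 1 := Perm.mem_alternatingGroup.1 hs
      rw [map_mul, map_mul, f1, perm9_even, perm9_even] at h
      exact absurd h (by decide)
  · rintro _ ⟨m, rfl⟩
    refine ⟨Perm.mem_alternatingGroup.2 (perm9_even m), Subgroup.mem_normalizer_iff.2 fun x => ?_⟩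
    constructor
    · rintro ⟨v, rfl⟩
      exact ⟨_, (hconj m v).symm⟩
    · rintro ⟨v, hv⟩
      refine ⟨actFn m⁻¹.right v, ?_⟩
      show perm9 (inJ (actFn m⁻¹.right v)) = x
      rw [← hconj, show perm9 (inJ v) = _ from hv, map_inv]
      group

end Cfsg.Agent.A9Three
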