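import Cfsg.Agent.Lib.BoundedPres.Kappa

/-!
S3339: homomorphisms from the alternating group of degree six are determined by a three-cycle and
an element of order four normalising a Sylow 3-subgroup, and every such pair extends.
-/

set_option autoImplicit false
set_option maxRecDepth 100000

namespace Cfsg.Agent.A9Three

open Equiv Cfsg.Agent.BoundedPres

/-- The alternating group of degree six. -/
abbrev A6 : Type := alternatingGroup (Fin 6)

/-- The first three-cycle. -/
def pA : Perm (Fin 6) := swap 0 1 * swap 1 2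
/-- The second three-cycle. -/
def pB : Perm (Fin 6) := swap 3 4 * swap 4 5
/-- The element of order four. -/
def pR : Perm (Fin 6) := swap 0 4 * swap 0 1 * swap 0 3 * swap 2 5
/-- The connecting three-cycle. -/
def pX : Perm (Fin 6) := swap 0 3 * swap 0 1
/-- The representative of the other class. -/
def pA2 : Perm (Fin 6) := pA * pB

theorem base_facts : Perm.sign pA = 1 ∧ Perm.sign pB = 1 ∧ Perm.sign pR = 1 ∧ Perm.sign pX = 1 ∧
    pR * pA * pR⁻¹ = pB ∧ pR * pB * pR⁻¹ = pA⁻¹ := by decide +kernel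

/-- An even permutation as an element of the alternating group. -/
def ev (p : Perm (Fin 6)) (h : Perm.sign p = 1) : A6 := ⟨p, Perm.mem_alternatingGroup.2 h⟩

/-- The first generator. -/
def sA : A6 := ev pA base_facts.1
/-- The second generator. -/
def sR : A6 := ev pR base_facts.2.2.1

/-- The relations of the connecting element. -/
def Rel {K : Type*} [Group K] (A B r x : K) : Prop :=
  x * x * x = 1 ∧ A * x * (A * x) = 1 ∧ x * (B * x * B⁻¹) * (x * (B * x * B⁻¹)) = 1 ∧
    x * (B * (B * x * B⁻¹) * B⁻¹)⁻¹ * (B * x * B⁻¹) * x⁻¹ = B ∧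
    x * B * A⁻¹ * x * B * x * A⁻¹ = r

instance (A B r x : Perm (Fin 6)) : Decidable (Rel A B r x) := by unfold Rel; infer_instance

theorem rel_base : Rel pA pB pR pX := by decide +kernel

theorem rel_unique : ∀ x : Perm (Fin 6), Perm.sign x = 1 → Rel pA pB pR x → x = pX := by
  decide +kernel

set_option synthInstance.maxSize 1000 in
theorem rel_exists_one : ∀ r : Perm (Fin 6), Perm.sign r = 1 → r * r * (r * r) = 1 →
    pA * (r * pA * r⁻¹) = r * pA * r⁻¹ * pA → r * (r * pA * r⁻¹) * r⁻¹ = pA⁻¹ →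
      ∃ x : Perm (Fin 6), Perm.sign x = 1 ∧ Rel pA (r * pA * r⁻¹) r x := by decide +kernel

set_option synthInstance.maxSize 1000 in
theorem rel_exists_two : ∀ r : Perm (Fin 6), Perm.sign r = 1 → r * r * (r * r) = 1 →
    pA2 * (r * pA2 * r⁻¹) = r * pA2 * r⁻¹ * pA2 → r * (r * pA2 * r⁻¹) * r⁻¹ = pA2⁻¹ →
      ∃ x : Perm (Fin 6), Perm.sign x = 1 ∧ Rel pA2 (r * pA2 * r⁻¹) r x := by decide +kernel

set_option synthInstance.maxSize 1000 in
theorem conj_rep : ∀ A : Perm (Fin 6), A ≠ 1 → A * A * A = 1 → ∃ g : Perm (Fin 6),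
    Perm.sign g = 1 ∧ (g * A * g⁻¹ = pA ∨ g * A * g⁻¹ = pA2) := by decide +kernel

theorem Rel.map {K L : Type*} [Group K] [Group L] (f : K →* L) {A B r x : K} (h : Rel A B r x) :
    Rel (f A) (f B) (f r) (f x) := by
  obtain ⟨h1, h2, h3, h4, h5⟩ := h
  refine ⟨?_, ?_, ?_, ?_, ?_⟩
  · rw [← map_mul, ← map_mul, h1, map_one]
  · rw [← map_mul, ← map_mul, h2, map_one]
  · simp only [← map_inv, ← map_mul, h3, map_one]
  · simp only [← map_inv, ← map_mul, h4]
  · simp only [← map_inv, ← map_mul, h5]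

theorem Rel.of_map {K L : Type*} [Group K] [Group L] (f : K →* L) (hf : Function.Injective f)
    {A B r x : K} (h : Rel (f A) (f B) (f r) (f x)) : Rel A B r x := by
  obtain ⟨h1, h2, h3, h4, h5⟩ := h
  simp only [← map_inv, ← map_mul] at h1 h2 h3 h4 h5
  exact ⟨hf (h1.trans (map_one f).symm), hf (h2.trans (map_one f).symm),
    hf (h3.trans (map_one f).symm), hf h4, hf h5⟩

theorem exists_rel (A r : A6) (hA1 : A ≠ 1) (hA3 : A * A * A = 1) (hr : r * r * (r * r) = 1)
    (hc : A * (r * A * r⁻¹) = r * A * r⁻¹ * A) (hB : r * (r * A * r⁻¹) * r⁻¹ = A⁻¹) :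
    ∃ x : A6, Rel A (r * A * r⁻¹) r x := by
  obtain ⟨g, hg, hgA⟩ := conj_rep A (fun e => hA1 (Subtype.ext e)) (congrArg Subtype.val hA3)
  set g' : A6 := ev g hg
  let f : A6 →* Perm (Fin 6) := (alternatingGroup (Fin 6)).subtype.comp (MulAut.conj g').toMonoidHom
  have hf : Function.Injective f := Subtype.coe_injective.comp (MulAut.conj g').injective
  have hs : Perm.sign (f r) = 1 := Perm.mem_alternatingGroup.1 ((MulAut.conj g') r).2
  have h4 : f r * f r * (f r * f r) = 1 := by rw [← map_mul, ← map_mul, hr, map_one]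
  have hc' : f A * (f r * f A * (f r)⁻¹) = f r * f A * (f r)⁻¹ * f A := by
    simp only [← map_inv, ← map_mul, hc]
  have hB' : f r * (f r * f A * (f r)⁻¹) * (f r)⁻¹ = (f A)⁻¹ := by
    simp only [← map_inv, ← map_mul, hB]
  have hfA : f A = pA ∨ f A = pA2 := hgA
  have fin : ∀ x : Perm (Fin 6), Perm.sign x = 1 → Rel (f A) (f r * f A * (f r)⁻¹) (f r) x →
      ∃ x : A6, Rel A (r * A * r⁻¹) r x := by
    intro x hx hrel
    refine ⟨(MulAut.conj g').symm (ev x hx), Rel.of_map f hf ?_⟩
    rw [show f ((MulAut.conj g').symm (ev x hx)) = x from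
      congrArg Subtype.val ((MulAut.conj g').apply_symm_apply (ev x hx)), map_mul, map_mul, map_inv]
    exact hrel
  rcases hfA with e | e
  · rw [e] at hc' hB'
    obtain ⟨x, hx, hrel⟩ := rel_exists_one _ hs h4 hc' hB'
    exact fin x hx (by rw [e]; exact hrel)
  · rw [e] at hc' hB'
    obtain ⟨x, hx, hrel⟩ := rel_exists_two _ hs h4 hc' hB'
    exact fin x hx (by rw [e]; exact hrel)

/-- The index set of the three-cycles through `0` and `1`. -/
def rest6 : Finset (Fin 6) := {2, 3, 4, 5}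

theorem good6 : Good (0 : Fin 6) 1 rest6 := ⟨by decide, by decide, by decide⟩

theorem cs6 : Cs (0 : Fin 6) 1 rest6 = alternatingGroup (Fin 6) :=
  Cs_eq_alternating good6 (by decide)

/-- A three-cycle through `0` and `1` as an element of the alternating group. -/
def c6 (i : Fin 6) (hi : i ∈ rest6) : A6 := ⟨cyc 0 1 i, cs6 ▸ cyc_mem hi⟩

theorem cyc6_words : cyc (0 : Fin 6) 1 2 = pA ∧ cyc (0 : Fin 6) 1 3 = pX ∧
    cyc (0 : Fin 6) 1 4 = pB * pX * pB⁻¹ ∧ cyc (0 : Fin 6) 1 5 = pB * (pB * pX * pB⁻¹) * pB⁻¹ ∧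
    pB = pX * (cyc 0 1 5)⁻¹ * cyc 0 1 4 * pX⁻¹ ∧
    pR = pX * pB * pA⁻¹ * pX * pB * pX * pA⁻¹ := by decide +kernel

theorem rest6_cases : ∀ i ∈ rest6, i = 2 ∨ i = 3 ∨ i = 4 ∨ i = 5 := by decide

/-- Existence. -/
theorem exists_hom {K : Type*} [Group K] (e : A6 ≃* K) (A r : K) (hA1 : A ≠ 1)
    (hA3 : A * A * A = 1) (hr : r * r * (r * r) = 1)
    (hc : A * (r * A * r⁻¹) = r * A * r⁻¹ * A) (hB : r * (r * A * r⁻¹) * r⁻¹ = A⁻¹) :
    ∃ f : A6 ≃* K, f sA = A ∧ f sR = r := by
  classical
  obtain ⟨x, hx⟩ := exists_rel (e.symm A) (e.symm r)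
    (fun h => hA1 (e.symm.injective (by rw [h, map_one])))
    (by rw [← map_mul, ← map_mul, hA3, map_one]) (by rw [← map_mul, ← map_mul, hr, map_one])
    (by simp only [← map_inv, ← map_mul, hc]) (by simp only [← map_inv, ← map_mul, hB])
  have hR := hx.map e.toMonoidHom
  simp only [map_mul, map_inv, MulEquiv.coe_toMonoidHom, MulEquiv.apply_symm_apply] at hR
  set X := e x
  set B := r * A * r⁻¹ with hBd
  obtain ⟨h1, h2, h3, h4, h5⟩ := hR
  have hAB : B * A * B⁻¹ = A := by rw [← hc, mul_inv_cancel_right]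
  have hB3 : B * B * B = 1 := by
    rw [hBd, show r * A * r⁻¹ * (r * A * r⁻¹) * (r * A * r⁻¹) = r * (A * A * A) * r⁻¹ by group,
      hA3, mul_one, mul_inv_cancel]
  set X4 := B * X * B⁻¹ with hX4
  set X5 := B * X4 * B⁻¹ with hX5
  have cB : ∀ {u w : K}, u * w * (u * w) = 1 →
      B * u * B⁻¹ * (B * w * B⁻¹) * (B * u * B⁻¹ * (B * w * B⁻¹)) = 1 := fun {u w} h => by
    rw [show B * u * B⁻¹ * (B * w * B⁻¹) * (B * u * B⁻¹ * (B * w * B⁻¹)) =
      B * (u * w * (u * w)) * B⁻¹ by group, h, mul_one, mul_inv_cancel]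
  have e53 : B * X5 * B⁻¹ = X := by
    rw [hX5, hX4, show B * (B * (B * X * B⁻¹) * B⁻¹) * B⁻¹ = B * B * B * X * (B * B * B)⁻¹ by group,
      hB3, one_mul, inv_one, mul_one]
  have p24 : A * X4 * (A * X4) = 1 := by have := cB h2; rwa [hAB] at this
  have p25 : A * X5 * (A * X5) = 1 := by have := cB p24; rwa [hAB] at this
  have p45 : X4 * X5 * (X4 * X5) = 1 := cB h3
  have p53 : X5 * X * (X5 * X) = 1 := by have := cB p45; rwa [e53] at this
  let Y : Fin 6 → K := ![1, 1, A, X, X4, X5]
  have hY : CarRel Y rest6 := by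
    have hsym : ∀ {u w : K}, (u * w) * (u * w) = 1 → (u * w) ^ 2 = 1 := fun h => by
      rw [pow_two]; exact h
    refine ⟨fun i hi => ?_, fun i hi j hj hij => ?_⟩
    · rcases rest6_cases i hi with rfl | rfl | rfl | rfl
      · show A ^ 3 = 1; rw [pow_three']; exact hA3
      · show X ^ 3 = 1; rw [pow_three']; exact h1
      · show X4 ^ 3 = 1; rw [hX4, conj_pow, pow_three', h1, mul_one, mul_inv_cancel]
      · show X5 ^ 3 = 1
        rw [hX5, conj_pow, hX4, conj_pow, pow_three', h1, mul_one, mul_inv_cancel, mul_one,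
          mul_inv_cancel]
    · rcases rest6_cases i hi with rfl | rfl | rfl | rfl <;>
        rcases rest6_cases j hj with rfl | rfl | rfl | rfl <;>
        first
          | exact absurd rfl hij
          | exact hsym h2
          | exact pair_symm (hsym h2)
          | exact hsym p24
          | exact pair_symm (hsym p24)
          | exact hsym p25
          | exact pair_symm (hsym p25)
          | exact hsym h3
          | exact pair_symm (hsym h3)
          | exact hsym p45
          | exact pair_symm (hsym p45)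
          | exact hsym p53
          | exact pair_symm (hsym p53)
  obtain ⟨f0, hf0⟩ := car_hom good6 Y hY
  let f : A6 →* K := f0.comp (MulEquiv.subgroupCongr cs6).symm.toMonoidHom
  have hf : ∀ i (hi : i ∈ rest6), f (c6 i hi) = Y i := fun i hi => hf0 i hi
  have eA : sA = c6 2 (by decide) := Subtype.ext cyc6_words.1.symm
  let sX : A6 := c6 3 (by decide)
  let sB : A6 := ev pB base_facts.2.1
  have eB : sB = sX * (c6 5 (by decide))⁻¹ * c6 4 (by decide) * sX⁻¹ := by
    refine Subtype.ext ?_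
    show pB = cyc 0 1 3 * (cyc 0 1 5)⁻¹ * cyc 0 1 4 * (cyc 0 1 3)⁻¹
    rw [cyc6_words.2.1]; exact cyc6_words.2.2.2.2.1
  have eR : sR = sX * sB * sA⁻¹ * sX * sB * sX * sA⁻¹ := by
    refine Subtype.ext ?_
    show pR = cyc 0 1 3 * pB * pA⁻¹ * cyc 0 1 3 * pB * cyc 0 1 3 * pA⁻¹
    rw [cyc6_words.2.1]; exact cyc6_words.2.2.2.2.2
  have vX : f sX = X := hf 3 _
  have vA : f sA = A := by rw [eA, hf]; rfl
  have vB : f sB = B := by
    rw [eB, map_mul, map_mul, map_mul, map_inv, map_inv, vX, hf, hf]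
    exact h4
  have vR : f sR = r := by
    simp only [eR, map_mul, map_inv, vX, vA, vB]
    exact h5
  haveI : IsSimpleGroup A6 := alternatingGroup.isSimpleGroup (by simp)
  have hinj : Function.Injective f := by
    rw [← MonoidHom.ker_eq_bot_iff]
    rcases f.normal_ker.eq_bot_or_eq_top with h | h
    · exact h
    · exact absurd (vA.symm.trans (MonoidHom.mem_ker.1 (h ▸ Subgroup.mem_top sA))) hA1
  haveI : Finite K := Finite.of_equiv A6 e.toEquiv
  refine ⟨MulEquiv.ofBijective f ((Nat.bijective_iff_injective_and_card f).2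
    ⟨hinj, Nat.card_congr e.toEquiv⟩), vA, vR⟩

/-- Two homomorphisms with comparable ranges agree when they agree on the two generators. -/
theorem hom_unique {K : Type*} [Group K] (f g : A6 →* K) (hg : Function.Injective g)
    (hr : f.range ≤ g.range) (hA : f sA = g sA) (hR : f sR = g sR) : f = g := by
  classical
  let α : A6 →* A6 := (MonoidHom.ofInjective hg).symm.toMonoidHom.comp
    (f.codRestrict g.range fun x => hr ⟨x, rfl⟩)
  have hα : ∀ x, g (α x) = f x := fun x => by
    show g ((MonoidHom.ofInjective hg).symm ⟨f x, _⟩) = f x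
    exact (MonoidHom.apply_ofInjective_symm hg _)
  have aA : α sA = sA := hg (by rw [hα, hA])
  have aR : α sR = sR := hg (by rw [hα, hR])
  let sB : A6 := ev pB base_facts.2.1
  have eB : sB = sR * sA * sR⁻¹ := Subtype.ext base_facts.2.2.2.2.1.symm
  have aB : α sB = sB := by rw [eB, map_mul, map_mul, map_inv, aA, aR]
  have hb : Rel sA sB sR (c6 3 (by decide)) :=
    Rel.of_map (alternatingGroup (Fin 6)).subtype Subtype.coe_injective (by
      show Rel pA pB pR (cyc 0 1 3)
      rw [cyc6_words.2.1]; exact rel_base)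
  have hm := hb.map α
  rw [aA, aB, aR] at hm
  have aX : α (c6 3 (by decide)) = c6 3 (by decide) := Subtype.ext (by
    show ((α (c6 3 _) : A6) : Perm (Fin 6)) = cyc 0 1 3
    rw [cyc6_words.2.1]
    exact rel_unique _ (Perm.mem_alternatingGroup.1 (α (c6 3 _)).2)
      (hm.map (alternatingGroup (Fin 6)).subtype))
  have gen : ∀ i (hi : i ∈ rest6), α (c6 i hi) = c6 i hi := by
    intro i hi
    rcases rest6_cases i hi with rfl | rfl | rfl | rfl
    · rw [show c6 2 hi = sA from Subtype.ext cyc6_words.1, aA]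
    · exact aX
    · rw [show c6 4 hi = sB * c6 3 (by decide) * sB⁻¹ from Subtype.ext (by
        show cyc 0 1 4 = pB * cyc 0 1 3 * pB⁻¹
        rw [cyc6_words.2.1]; exact cyc6_words.2.2.1), map_mul, map_mul, map_inv, aB, aX]
    · rw [show c6 5 hi = sB * (sB * c6 3 (by decide) * sB⁻¹) * sB⁻¹ from Subtype.ext (by
        show cyc 0 1 5 = pB * (pB * cyc 0 1 3 * pB⁻¹) * pB⁻¹
        rw [cyc6_words.2.1]; exact cyc6_words.2.2.2.1)]
      simp only [map_mul, map_inv, aB, aX]
  have hid : α.comp (MulEquiv.subgroupCongr cs6).toMonoidHom =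
      (MulEquiv.subgroupCongr cs6).toMonoidHom :=
    BoundedPres.hom_ext fun i hi => gen i hi
  refine MonoidHom.ext fun x => ?_
  have := DFunLike.congr_fun hid ((MulEquiv.subgroupCongr cs6).symm x)
  simp only [MonoidHom.comp_apply, MulEquiv.coe_toMonoidHom, MulEquiv.apply_symm_apply] at this
  rw [← hα x, this]

end Cfsg.Agent.A9Three
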