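import Cfsg.Agent.Lib.A9Three.CentA
import Cfsg.Agent.Lib.A9Three.Six

/-!
S3339: the factor `A₆` of the centraliser of `a` labelled by six of the nine points.
-/

set_option autoImplicit false
set_option maxRecDepth 40000

namespace Cfsg.Agent.A9Three

open Cfsg.Agent.ThreeTI.Mono
open Cfsg.Agent.ThreeTI.Cube (V)
open Equiv
open scoped commutatorElement

universe u

/-- The first six of the nine points. -/
def lowEquiv : Fin 6 ≃ {i : Fin 9 // i.val < 6} where
  toFun i := ⟨⟨i.val, by omega⟩, i.isLt⟩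
  invFun i := ⟨i.1.val, i.2⟩
  left_inv _ := rfl
  right_inv _ := rfl

/-- A permutation of six points as one of nine. -/
def six : Perm (Fin 6) →* Perm (Fin 9) := Perm.extendDomainHom lowEquiv

/-- A point among the nine. -/
def ce (i : Fin 6) : Fin 9 := (lowEquiv i).1

theorem six_ce (s : Perm (Fin 6)) (i : Fin 6) : six s (ce i) = ce (s i) :=
  Perm.extendDomain_apply_image s lowEquiv i

theorem six_high (s : Perm (Fin 6)) {j : Fin 9} (hj : ¬ j.val < 6) : six s j = j :=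
  Perm.extendDomain_apply_not_subtype s lowEquiv hj

theorem six_injective : Function.Injective six := Perm.extendDomainHom_injective lowEquiv

/-- The first translation. -/
def v1 : V := vec 1 0 0
/-- The second translation. -/
def v2 : V := vec 0 1 0

theorem six_gens : perm9 (inJ v1) = six pA ∧ perm9 (inJ v2) = six pB ∧
    perm9 (inQ ⟨10⟩) = six pR := by decide +kernel

theorem gen_facts : piz v1 = 1 ∧ actFn ⟨10⟩ v1 = v2 ∧ actFn ⟨10⟩ v2 = v1⁻¹ ∧ v1 ≠ 1 ∧
    v1 * v1 * v1 = 1 := by decide +kernel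

set_option synthInstance.maxSize 1000 in
theorem fix_high : ∀ m : Mo, (∀ j : Fin 9, 6 ≤ j.val → perm9 m j = j) →
    ∃ i j : Fin 3, ∃ k : Fin 4,
      m = inJ (v1 ^ i.val * v2 ^ j.val) * inQ ((⟨10⟩ : Rot) ^ k.val) := by decide +kernel

set_option synthInstance.maxSize 1000 in
theorem keep_low : ∀ m : Mo, (∀ i : Fin 6, (perm9 m (ce i)).val < 6) →
    actFn m.right va = va ∨ actFn m.right va = va⁻¹ := by decide +kernel

/-- Conjugation by a permutation of six points. -/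
def cj (π : Perm (Fin 6)) : A6 →* A6 :=
  ((MulAut.conj π).toMonoidHom.comp (alternatingGroup (Fin 6)).subtype).codRestrict _ fun s =>
    Perm.mem_alternatingGroup.2 (by
      show Perm.sign (π * (s : Perm (Fin 6)) * π⁻¹) = 1
      rw [map_mul, map_mul, map_inv, Perm.mem_alternatingGroup.1 s.2, mul_one, mul_inv_cancel])

theorem cj_val (π : Perm (Fin 6)) (s : A6) : ((cj π s : A6) : Perm (Fin 6)) = π * s * π⁻¹ := rfl

theorem six_conj {m : Mo} {π : Perm (Fin 6)} (hπ : ∀ i, perm9 m (ce i) = ce (π i))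
    (s : Perm (Fin 6)) : perm9 m * six s * (perm9 m)⁻¹ = six (π * s * π⁻¹) := by
  refine mul_inv_eq_iff_eq_mul.2 (Equiv.ext fun j => ?_)
  rw [Perm.mul_apply, Perm.mul_apply]
  by_cases hj : j.val < 6
  · obtain ⟨i, rfl⟩ : ∃ i, j = ce i := ⟨⟨j.val, hj⟩, rfl⟩
    rw [six_ce, hπ, hπ, six_ce, Perm.mul_apply, Perm.mul_apply, Perm.inv_def,
      Equiv.symm_apply_apply]
  · rw [six_high s hj, six_high]
    intro h
    obtain e : perm9 m j = ce ⟨(perm9 m j).val, h⟩ := rfl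
    set i : Fin 6 := ⟨(perm9 m j).val, h⟩
    have : j = ce (π⁻¹ i) := (perm9 m).injective (by
      rw [hπ, ← Perm.mul_apply, mul_inv_cancel, Perm.one_apply]; exact e)
    exact hj (this ▸ (lowEquiv _).2)

/-- A labelling of the factor `A₆`. -/
structure Psi {G : Type u} [Group G] (ι : Mo →* G) (ψ : A6 →* G) : Prop where
  inj : Function.Injective ψ
  le : ψ.range ≤ cg ι va
  agree : ∀ (m : Mo) (s : A6), perm9 m = six s → ψ s = ι m
  cover : ∀ g ∈ cg ι va, ∃ i : ℕ, g * ι (inJ va) ^ i ∈ ψ.range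
  normal : ∀ g ∈ cg ι va, ∀ x ∈ ψ.range, g * x * g⁻¹ ∈ ψ.range

namespace Cfg

variable {G : Type u} [Group G] {ι : Mo →* G} (C : Cfg ι)
include C

theorem exists_psi [Finite G] (hbig : ¬ cg ι va ≤ ι.range) : ∃ ψ : A6 →* G, Psi ι ψ := by
  obtain ⟨K, hK, hKJ, hKr, hKn, hKc, ⟨e⟩⟩ := C.cg_a.resolve_left hbig
  obtain ⟨g1, g2, g3, g4, g5⟩ := gen_facts
  let A : K := ⟨ι (inJ v1), (hKJ v1).2 g1⟩
  let r : K := ⟨ι (inQ ⟨10⟩), hKr⟩
  have hrA : ι (inQ ⟨10⟩) * ι (inJ v1) * (ι (inQ ⟨10⟩))⁻¹ = ι (inJ v2) := by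
    rw [← map_inv, ← map_mul, ← map_mul, conj_inJ, SemidirectProduct.right_inr, g2]
  obtain ⟨f, hfA, hfr⟩ := exists_hom e.symm A r
    (fun h => g4 (SemidirectProduct.inl_injective ((C.inj ((congrArg Subtype.val h).trans
      (map_one ι).symm)).trans (map_one inJ).symm)))
    (Subtype.ext (by
      show ι (inJ v1) * ι (inJ v1) * ι (inJ v1) = 1
      rw [← map_mul, ← map_mul, ← map_mul, ← map_mul, g5, map_one, map_one]))
    (Subtype.ext (by
      show ι (inQ ⟨10⟩) * ι (inQ ⟨10⟩) * (ι (inQ ⟨10⟩) * ι (inQ ⟨10⟩)) = 1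
      simp only [← map_mul, ten_four, map_one]))
    (Subtype.ext (by
      show ι (inJ v1) * (ι (inQ ⟨10⟩) * ι (inJ v1) * (ι (inQ ⟨10⟩))⁻¹) =
        ι (inQ ⟨10⟩) * ι (inJ v1) * (ι (inQ ⟨10⟩))⁻¹ * ι (inJ v1)
      rw [hrA]
      exact J_comm (mem_J v1) (mem_J v2)))
    (Subtype.ext (by
      show ι (inQ ⟨10⟩) * (ι (inQ ⟨10⟩) * ι (inJ v1) * (ι (inQ ⟨10⟩))⁻¹) * (ι (inQ ⟨10⟩))⁻¹ =
        (ι (inJ v1))⁻¹
      rw [hrA, ← map_inv, ← map_mul, ← map_mul, conj_inJ, SemidirectProduct.right_inr, g3, map_inv,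
        map_inv]))
  let ψ : A6 →* G := K.subtype.comp f.toMonoidHom
  have hrange : ∀ x, x ∈ ψ.range ↔ x ∈ K := fun x =>
    ⟨fun ⟨s, hs⟩ => hs ▸ (f s).2, fun hx => ⟨f.symm ⟨x, hx⟩, by
      show ((f (f.symm ⟨x, hx⟩) : K) : G) = x
      rw [f.apply_symm_apply]⟩⟩
  have vA : ψ sA = ι (inJ v1) := congrArg Subtype.val hfA
  have vR : ψ sR = ι (inQ ⟨10⟩) := congrArg Subtype.val hfr
  refine ⟨ψ, ⟨Subtype.coe_injective.comp f.injective, fun x hx => hK ((hrange x).1 hx),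
    fun m s hms => ?_, fun g hg => (hKc g hg).imp fun i hi => (hrange _).2 hi,
    fun g hg x hx => (hrange _).2 (hKn g hg x ((hrange x).1 hx))⟩⟩
  obtain ⟨i, j, k, hm⟩ := fix_high m fun j hj => by rw [hms, six_high _ (by omega)]
  obtain ⟨h1, h2, h3⟩ := six_gens
  let sB : A6 := ev pB base_facts.2.1
  have eB : sB = sR * sA * sR⁻¹ := Subtype.ext base_facts.2.2.2.2.1.symm
  have hs : s = sA ^ i.val * sB ^ j.val * sR ^ k.val := by
    refine Subtype.ext (six_injective ?_)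
    rw [← hms, hm]
    push_cast
    simp only [map_mul, map_pow, h1, h2, h3]
    rfl
  rw [hs, hm, map_mul, map_mul, map_pow, map_pow, map_pow, eB, map_mul, map_mul, map_inv, vA, vR,
    hrA]
  simp only [map_mul, map_pow]

end Cfg

theorem perfect_A6 : commutator A6 = ⊤ := by
  haveI : IsSimpleGroup A6 := alternatingGroup.isSimpleGroup (by simp)
  rcases (Subgroup.Normal.eq_bot_or_eq_top (inferInstance : (commutator A6).Normal)) with h | h
  · exfalso
    have hne : sA * sR ≠ sR * sA := fun e =>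
      absurd (congrArg Subtype.val e) (by decide +kernel : pA * pR ≠ pR * pA)
    refine hne (commutatorElement_eq_one_iff_mul_comm.1 (Subgroup.mem_bot.1 (h ▸ ?_)))
    exact Subgroup.commutator_mem_commutator (Subgroup.mem_top _) (Subgroup.mem_top _)
  · exact h

namespace Psi

variable {G : Type u} [Group G] {ι : Mo →* G} {ψ : A6 →* G} (P : Psi ι ψ)
include P

theorem range_le {f : A6 →* G} (hf : f.range ≤ cg ι va) : f.range ≤ ψ.range := by
  rintro _ ⟨x, rfl⟩
  have hx : x ∈ commutator A6 := perfect_A6 ▸ Subgroup.mem_top x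
  refine (Subgroup.commutator_le.2 fun a _ b _ => ?_ :
    commutator A6 ≤ ψ.range.comap f) hx
  show f ⁅a, b⁆ ∈ ψ.range
  rw [map_commutatorElement]
  obtain ⟨i, hi⟩ := P.cover _ (hf ⟨a, rfl⟩)
  obtain ⟨j, hj⟩ := P.cover _ (hf ⟨b, rfl⟩)
  have hz : ∀ {g : G}, g ∈ cg ι va → ∀ n : ℕ, Commute g (ι (inJ va) ^ n) := fun hg n =>
    Commute.pow_right (Subgroup.mem_centralizer_singleton_iff.1 hg) n
  have key : ⁅f a, f b⁆ = ⁅f a * ι (inJ va) ^ i, f b * ι (inJ va) ^ j⁆ := by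
    set z := ι (inJ va)
    have c1 : Commute (f a) (z ^ j) := hz (hf ⟨a, rfl⟩) j
    have c2 : Commute (f b) (z ^ i) := hz (hf ⟨b, rfl⟩) i
    have c3 : Commute (z ^ i) (z ^ j) := Commute.pow_pow (Commute.refl z) i j
    rw [commutatorElement_def, commutatorElement_def]
    symm
    calc f a * z ^ i * (f b * z ^ j) * (f a * z ^ i)⁻¹ * (f b * z ^ j)⁻¹
        = f a * (z ^ i * f b) * z ^ j * (z ^ i)⁻¹ * (f a)⁻¹ * (z ^ j)⁻¹ * (f b)⁻¹ := by group
      _ = f a * f b * ((z ^ i * z ^ j) * (z ^ i)⁻¹) * ((f a)⁻¹ * (z ^ j)⁻¹) * (f b)⁻¹ := by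
          rw [← c2.eq]; group
      _ = f a * f b * z ^ j * ((z ^ j)⁻¹ * (f a)⁻¹) * (f b)⁻¹ := by
          rw [c3.eq, mul_inv_cancel_right, c1.inv_inv.eq]
      _ = _ := by group
  rw [key, commutatorElement_def]
  exact mul_mem (mul_mem (mul_mem hi hj) (inv_mem hi)) (inv_mem hj)

/-- Conjugation by the monomial group permutes the labels. -/
theorem act (m : Mo) (π : Perm (Fin 6)) (hπ : ∀ i, perm9 m (ce i) = ce (π i)) (s : A6) :
    ι m * ψ s * (ι m)⁻¹ = ψ (cj π s) := by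
  have hlow : ∀ i : Fin 6, (perm9 m (ce i)).val < 6 := fun i => hπ i ▸ (lowEquiv _).2
  let f : A6 →* G := (MulAut.conj (ι m)).toMonoidHom.comp ψ
  let g : A6 →* G := ψ.comp (cj π)
  have hcj : Function.Injective (cj π) := fun a b h => Subtype.ext (by
    have := congrArg Subtype.val h
    rwa [cj_val, cj_val, mul_left_inj, mul_right_inj] at this)
  have hg : g.range = ψ.range := by
    refine le_antisymm (by rintro _ ⟨x, rfl⟩; exact ⟨_, rfl⟩) ?_
    rintro _ ⟨x, rfl⟩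
    obtain ⟨y, hy⟩ := Finite.surjective_of_injective hcj x
    exact ⟨y, congrArg ψ hy⟩
  have hfcg : f.range ≤ cg ι va := by
    rintro _ ⟨x, rfl⟩
    refine Subgroup.mem_centralizer_singleton_iff.2 ?_
    have hx := Subgroup.mem_centralizer_singleton_iff.1 (P.le ⟨x, rfl⟩)
    show Commute (ι m * ψ x * (ι m)⁻¹) (ι (inJ va))
    have hc := Commute.map (show Commute (ψ x) (ι (inJ va)) from hx) (MulAut.conj (ι m)).toMonoidHom
    simp only [MulEquiv.coe_toMonoidHom, MulAut.conj_apply] at hc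
    rw [← map_inv ι, ← map_mul ι, ← map_mul ι, conj_inJ] at hc
    rw [map_inv] at hc
    rcases keep_low m hlow with e | e <;> rw [e] at hc
    · exact hc
    · rw [map_inv, map_inv] at hc; exact inv_inv (ι (inJ va)) ▸ hc.inv_right
  have key : ∀ (x : A6) (m' : Mo), perm9 m' = six x → f x = g x := by
    intro x m' hm'
    show ι m * ψ x * (ι m)⁻¹ = ψ (cj π x)
    rw [P.agree m' x hm', ← map_inv, ← map_mul, ← map_mul]
    exact (P.agree _ (cj π x) (by rw [map_mul, map_mul, map_inv, hm', six_conj hπ, cj_val])).symm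
  exact DFunLike.congr_fun (hom_unique f g (P.inj.comp hcj) (hg ▸ P.range_le hfcg)
    (key sA _ six_gens.1) (key sR _ six_gens.2.2)) s

end Psi

end Cfsg.Agent.A9Three
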