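import Cfsg.Agent.Lib.A9Three.ModelFacts
import Mathlib.GroupTheory.Sylow
import Mathlib.GroupTheory.Nilpotent
import Cfsg.Prelude.Def_Solvable

/-!
S3339: a group with an elementary abelian subgroup of order 27 whose normaliser is `3³ : S₄`:
Sylow subgroups and fusion.
-/

set_option autoImplicit false

namespace Cfsg.Agent.A9Three

open Cfsg.Agent.ThreeTI.Mono
open Cfsg.Agent.ThreeTI.Cube (V)

universe u

variable {G : Type u} [Group G]

/-- The elementary abelian subgroup. -/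
def J (ι : Mo →* G) : Subgroup G := (ι.comp inJ).range

/-- The hypotheses. -/
structure Cfg (ι : Mo →* G) : Prop where
  inj : Function.Injective ι
  norm : Subgroup.normalizer (J ι : Set G) ≤ ι.range
  cores : ∀ m : Mo, orderOf m = 3 →
    Cfsg.pPrimeCore 3 (Subgroup.centralizer ({ι m} : Set G)) = ⊥

namespace Cfg

variable {ι : Mo →* G} (C : Cfg ι)
include C

omit C in
theorem mem_J (v : V) : ι (inJ v) ∈ J ι := ⟨v, rfl⟩

theorem card_J : Nat.card (J ι) = 27 := by
  have h : Function.Injective (ι.comp inJ) := C.inj.comp SemidirectProduct.inl_injective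
  rw [J, ← Nat.card_congr (MonoidHom.ofInjective h).toEquiv, Nat.card_eq_fintype_card]
  decide

omit C in
theorem J_comm {x y : G} (hx : x ∈ J ι) (hy : y ∈ J ι) : x * y = y * x := by
  obtain ⟨u, rfl⟩ := hx
  obtain ⟨v, rfl⟩ := hy
  rw [← map_mul, ← map_mul, mul_comm]

theorem mem_J_iff {m : Mo} : ι m ∈ J ι ↔ m.right = 1 := by
  constructor
  · rintro ⟨v, hv⟩
    have : inJ v = m := C.inj hv
    rw [← this]; rfl
  · intro h
    exact ⟨m.left, congrArg ι (eq_inJ_of_right h).symm⟩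

omit C in
theorem conj_mem_J (m : Mo) {x : G} (hx : x ∈ J ι) : ι m * x * (ι m)⁻¹ ∈ J ι := by
  obtain ⟨v, rfl⟩ := hx
  rw [MonoidHom.comp_apply, ← map_mul, ← map_inv, ← map_mul, conj_inJ]
  exact mem_J _

theorem range_le_norm : ι.range ≤ Subgroup.normalizer (J ι : Set G) := by
  rintro _ ⟨m, rfl⟩
  refine Subgroup.mem_normalizer_iff.2 fun x => ⟨conj_mem_J m, fun h => ?_⟩
  have := conj_mem_J (ι := ι) m⁻¹ h
  rwa [map_inv, inv_inv, mul_assoc, mul_assoc, inv_mul_cancel, mul_one, inv_mul_cancel_left] at this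

theorem norm_eq : Subgroup.normalizer (J ι : Set G) = ι.range :=
  le_antisymm C.norm C.range_le_norm

theorem card_range : Nat.card ι.range = 648 := by
  rw [← Nat.card_congr (MonoidHom.ofInjective C.inj).toEquiv, Nat.card_eq_fintype_card, card_mo]

theorem cent_le_J : Subgroup.centralizer (J ι : Set G) ≤ J ι := by
  intro g hg
  obtain ⟨m, rfl⟩ := C.norm (Subgroup.centralizer_le_normalizer _ hg)
  have key : ∀ v : V, actFn m.right v = v := fun v => (commute_inJ_iff m v).1 (C.inj (by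
    rw [map_mul, map_mul]
    exact (Subgroup.mem_centralizer_iff.1 hg _ (mem_J v)).symm))
  exact C.mem_J_iff.2 (cent_J m.right (key _) (key _) (key _))

omit C in
theorem rot_cube_of_pGroup {m : Mo} {k : ℕ} (h : m ^ 3 ^ k = 1) :
    m.right * m.right * m.right = 1 := by
  refine rot_pow81 _ (orderOf_dvd_iff_pow_eq_one.1 ?_)
  have h1 : orderOf m.right ∣ 3 ^ k := orderOf_dvd_of_pow_eq_one (by
    show (SemidirectProduct.rightHom m) ^ 3 ^ k = 1
    rw [← map_pow, h, map_one])
  have h2 : orderOf m.right ∣ 24 := rot_card ▸ orderOf_dvd_card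
  obtain ⟨i, -, hi⟩ := (Nat.dvd_prime_pow Nat.prime_three).1 h1
  rw [hi] at h2 ⊢
  have hi4 : i ≤ 4 := by
    by_contra hc
    have : 3 ^ i ≤ 24 := Nat.le_of_dvd (by norm_num) h2
    have : 3 ^ 5 ≤ 3 ^ i := Nat.pow_le_pow_right (by norm_num) (by omega)
    omega
  rw [show (81 : ℕ) = 3 ^ 4 by norm_num]
  exact Nat.pow_dvd_pow 3 hi4

/-- An abelian subgroup of order 27 of the monomial group consists of translations. -/
theorem eq_J_of_le_range [Finite G] {A : Subgroup G} (hA : A ≤ ι.range) (hp : IsPGroup 3 A)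
    (hc : ∀ x ∈ A, ∀ y ∈ A, x * y = y * x) (h27 : Nat.card A = 27) : A = J ι := by
  classical
  suffices h : A ≤ J ι from Subgroup.eq_of_le_of_card_ge h (by rw [C.card_J, h27])
  intro x hx
  obtain ⟨m, rfl⟩ := hA hx
  rw [C.mem_J_iff]
  by_contra hm
  have rc : ∀ {n : Mo}, ι n ∈ A → n.right * n.right * n.right = 1 := by
    intro n hn
    obtain ⟨k, hk⟩ := hp ⟨ι n, hn⟩
    exact rot_cube_of_pGroup (k := k) (C.inj (by
      rw [map_pow, map_one]; exact congrArg Subtype.val hk))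
  let B := A.comap ι
  have hB : Nat.card B = 27 := by
    rw [← h27]
    refine Nat.card_eq_of_bijective (fun b : B => (⟨ι b, b.2⟩ : A))
      ⟨fun b b' e => Subtype.ext (C.inj (congrArg Subtype.val e)), fun a => ?_⟩
    obtain ⟨n, hn⟩ := hA a.2
    exact ⟨⟨n, show ι n ∈ A from hn ▸ a.2⟩, Subtype.ext hn⟩
  let Fx := Finset.univ.filter fun v : V => actFn m.right v = v
  let f : B → Fin 3 × V := fun b =>
    (if (b : Mo).right = 1 then 0 else if (b : Mo).right = m.right then 1 else 2, (b : Mo).left)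
  have split : ∀ b : B, (b : Mo).right = 1 ∨ (b : Mo).right = m.right ∨
      (b : Mo).right = m.right * m.right := fun b => by
    refine rot_three_le _ _ (rc hx) (rc b.2) hm ?_
    have := C.inj (show ι (m * b) = ι ((b : Mo) * m) by
      rw [map_mul, map_mul]; exact hc _ hx _ b.2)
    exact congrArg (fun n : Mo => n.right) this
  -- at most three times the fixed points
  let B0 := B ⊓ (inJ : V →* Mo).range
  have hB0 : Nat.card B0 ≤ 3 := by
    refine le_trans ?_ (fixed_le m.right (rc hx) hm)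
    rw [← Fintype.card_coe, ← Nat.card_eq_fintype_card]
    refine Nat.card_le_card_of_injective (fun b : B0 => ⟨(b : Mo).left, ?_⟩) fun b b' e => ?_
    · obtain ⟨v, hv⟩ := b.2.2
      refine Finset.mem_filter.2 ⟨Finset.mem_univ _, (commute_inJ_iff m _).1 (C.inj ?_)⟩
      rw [map_mul, map_mul, show inJ (b : Mo).left = (b : Mo) by rw [← hv]; rfl]
      exact hc _ hx _ b.2.1
    · obtain ⟨v, hv⟩ := b.2.2
      obtain ⟨v', hv'⟩ := b'.2.2
      refine Subtype.ext ?_
      have := congrArg Subtype.val e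
      simp only at this
      rw [← hv, ← hv'] at this ⊢
      simpa using this
  have hidx : Nat.card B ≤ 3 * Nat.card B0 := by
    have h1 := Subgroup.card_mul_index (B0.subgroupOf B)
    have h2 : (B0.subgroupOf B).index ≤ 3 := by
      have hms : m.right * m.right ≠ 1 := fun h => hm (by
        have := rc hx
        rwa [h, one_mul] at this)
      let g : B → Fin 3 := fun b =>
        if (b : Mo).right = 1 then 0 else if (b : Mo).right = m.right then 1 else 2
      have key : ∀ b b' : B, g b = g b' → b⁻¹ * b' ∈ B0.subgroupOf B := by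
        intro b b' e
        have hr : (b : Mo).right = (b' : Mo).right := by
          simp only [g] at e
          rcases split b with h | h | h <;> rcases split b' with h' | h' | h' <;>
            simp_all
        refine ⟨(b⁻¹ * b').2, ⟨((b⁻¹ * b' : B) : Mo).left, (eq_inJ_of_right ?_).symm⟩⟩
        simp [hr]
      rw [Subgroup.index_eq_card]
      refine le_trans (Nat.card_le_card_of_injective (fun q : B ⧸ B0.subgroupOf B => g q.out)
        fun q q' e => ?_) (by simp)
      rw [← QuotientGroup.out_eq' q, ← QuotientGroup.out_eq' q', QuotientGroup.eq]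
      exact key _ _ e
    rw [Nat.card_congr (Subgroup.subgroupOfEquivOfLe (inf_le_left : B0 ≤ B)).toEquiv] at h1
    calc Nat.card B = Nat.card B0 * (B0.subgroupOf B).index := h1.symm
      _ ≤ Nat.card B0 * 3 := Nat.mul_le_mul_left _ h2
      _ = _ := mul_comm _ _
  omega

/-- A Sylow subgroup lies in the normaliser. -/
theorem exists_sylow [Finite G] :
    ∃ S : Sylow 3 G, (S : Subgroup G) ≤ ι.range ∧ J ι ≤ (S : Subgroup G) ∧
      Nat.card (S : Subgroup G) = 81 := by
  haveI : Fact (Nat.Prime 3) := ⟨Nat.prime_three⟩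
  have hJp : IsPGroup 3 (J ι) := IsPGroup.of_card (n := 3) C.card_J
  have hJr : J ι ≤ ι.range := fun x ⟨v, hv⟩ => ⟨inJ v, hv⟩
  obtain ⟨S0, hS0⟩ := (hJp.comap_of_injective ι.range.subtype Subtype.coe_injective).exists_le_sylow
  set T : Subgroup G := (S0 : Subgroup ι.range).map ι.range.subtype with hT
  have hTr : T ≤ ι.range := Subgroup.map_subtype_le _
  have hTp : IsPGroup 3 T := S0.isPGroup'.map _
  have hJT : J ι ≤ T := fun x hx => ⟨⟨x, hJr hx⟩, hS0 hx, rfl⟩
  have hT81 : Nat.card T = 81 := by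
    rw [hT, Subgroup.card_map_of_injective Subtype.coe_injective, Sylow.card_eq_multiplicity,
      C.card_range, show (648 : ℕ) = 3 ^ 4 * 8 by norm_num,
      Nat.factorization_mul (by norm_num) (by norm_num), Finsupp.add_apply,
      Nat.Prime.factorization_pow Nat.prime_three, Finsupp.single_eq_same,
      Nat.factorization_eq_zero_of_not_dvd (by norm_num)]
    norm_num
  obtain ⟨S, hS⟩ := hTp.exists_le_sylow
  suffices hST : (S : Subgroup G) = T from ⟨S, hST ▸ hTr, hST ▸ hJT, hST ▸ hT81⟩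
  by_contra hne
  have hlt : T.subgroupOf (S : Subgroup G) < ⊤ := lt_top_iff_ne_top.2 fun h =>
    hne (le_antisymm (Subgroup.subgroupOf_eq_top.1 h) hS)
  haveI : Group.IsNilpotent (S : Subgroup G) := S.isPGroup'.isNilpotent
  have hnc := Group.normalizerCondition_of_isNilpotent (G := (S : Subgroup G)) _ hlt
  obtain ⟨g, hgN, hgT⟩ := SetLike.exists_of_lt hnc
  have hg : (g : G) ∈ Subgroup.normalizer (J ι : Set G) := by
    have hconj : ∀ y ∈ T, (g : G) * y * (g : G)⁻¹ ∈ T := fun y hy =>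
      (Subgroup.mem_normalizer_iff.1 hgN ⟨y, hS hy⟩).1 hy
    let A := (J ι).map (MulAut.conj (g : G)).toMonoidHom
    have hAeq : A = J ι := by
      refine C.eq_J_of_le_range ?_ (hJp.map _) ?_ ?_
      · rintro _ ⟨y, hy, rfl⟩
        exact hTr (hconj y (hJT hy))
      · rintro _ ⟨y, hy, rfl⟩ _ ⟨z, hz, rfl⟩
        rw [← map_mul, ← map_mul, J_comm hy hz]
      · rw [Subgroup.card_map_of_injective (MulEquiv.injective _), C.card_J]
    refine Subgroup.mem_normalizer_iff.2 fun y => ⟨fun hy => hAeq ▸ ⟨y, hy, rfl⟩, fun hy => ?_⟩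
    rw [← hAeq] at hy
    obtain ⟨z, hz, hze⟩ := hy
    rwa [show y = z from ((MulAut.conj (g : G)).injective hze).symm]
  set gR : ι.range := ⟨(g : G), C.norm hg⟩
  have hp' : IsPGroup 3 ((S : Subgroup G).subgroupOf ι.range) :=
    S.isPGroup'.comap_of_injective _ Subtype.coe_injective
  have heq := S0.is_maximal' hp' (fun x hx => hS ⟨x, hx, rfl⟩)
  have : gR ∈ (S0 : Subgroup ι.range) := heq ▸ (show (g : G) ∈ (S : Subgroup G) from g.2)
  exact hgT ⟨gR, this, rfl⟩

/-- A 3-subgroup has at most one abelian subgroup of order 27. -/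
theorem unique27 [Finite G] {P A B : Subgroup G} (hP : IsPGroup 3 P) (hAP : A ≤ P) (hBP : B ≤ P)
    (hAc : ∀ x ∈ A, ∀ y ∈ A, x * y = y * x) (hBc : ∀ x ∈ B, ∀ y ∈ B, x * y = y * x)
    (hA : Nat.card A = 27) (hB : Nat.card B = 27) : A = B := by
  haveI : Fact (Nat.Prime 3) := ⟨Nat.prime_three⟩
  obtain ⟨S, hSr, -, -⟩ := C.exists_sylow
  obtain ⟨Q, hQ⟩ := hP.exists_le_sylow
  obtain ⟨g, hg⟩ := MulAction.exists_smul_eq G Q S
  let φ : G →* G := (MulAut.conj g).toMonoidHom
  have hφ : Function.Injective φ := (MulAut.conj g).injective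
  have key : ∀ {X : Subgroup G}, X ≤ P → (∀ x ∈ X, ∀ y ∈ X, x * y = y * x) → Nat.card X = 27 →
      X.map φ = J ι := by
    intro X hX hXc hX27
    refine C.eq_J_of_le_range (le_trans ?_ hSr) ((hP.to_le hX).map _) ?_ ?_
    · rintro _ ⟨x, hx, rfl⟩
      rw [← hg, Sylow.coe_subgroup_smul]
      exact Subgroup.smul_mem_pointwise_smul x _ _ (hQ (hX hx))
    · rintro _ ⟨x, hx, rfl⟩ _ ⟨y, hy, rfl⟩
      rw [← map_mul, ← map_mul, hXc x hx y hy]
    · rw [Subgroup.card_map_of_injective hφ, hX27]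
  exact Subgroup.map_injective hφ ((key hAP hAc hA).trans (key hBP hBc hB).symm)

/-- Fusion in `J` inside a centraliser takes place in the normaliser. -/
theorem fusion' [Finite G] {x g z : G} (hx : x ∈ J ι) (hy : g * x * g⁻¹ ∈ J ι) (hz : z ∈ J ι)
    (hg : g * z = z * g) : ∃ m : Mo, ι m * x * (ι m)⁻¹ = g * x * g⁻¹ ∧ ι m * z = z * ι m := by
  haveI : Fact (Nat.Prime 3) := ⟨Nat.prime_three⟩
  set y := g * x * g⁻¹ with hyd
  set Cy := Subgroup.centralizer ({y, z} : Set G)
  set J' := (J ι).map (MulAut.conj g).toMonoidHom with hJ'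
  have hJp : IsPGroup 3 (J ι) := IsPGroup.of_card (n := 3) C.card_J
  have hgz : MulAut.conj g z = z := by rw [MulAut.conj_apply, hg, mul_inv_cancel_right]
  have h1 : J ι ≤ Cy := by
    intro w hw
    rw [Subgroup.mem_centralizer_iff]
    rintro w' (rfl | rfl)
    · exact J_comm hy hw
    · exact J_comm hz hw
  have h2 : J' ≤ Cy := by
    rintro _ ⟨w, hw, rfl⟩
    rw [Subgroup.mem_centralizer_iff]
    rintro w' (h | h) <;> rw [h]
    · rw [show y = MulAut.conj g x from rfl, MulEquiv.coe_toMonoidHom, ← map_mul, ← map_mul,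
        J_comm hw hx]
    · rw [← hgz, MulEquiv.coe_toMonoidHom, ← map_mul, ← map_mul, J_comm hw hz]
  obtain ⟨P1, hP1⟩ := (hJp.comap_of_injective Cy.subtype Subtype.coe_injective).exists_le_sylow
  obtain ⟨P2, hP2⟩ :=
    ((hJp.map _ : IsPGroup 3 J').comap_of_injective Cy.subtype Subtype.coe_injective).exists_le_sylow
  obtain ⟨k, hk⟩ := MulAction.exists_smul_eq Cy P1 P2
  let P : Subgroup G := (P2 : Subgroup Cy).map Cy.subtype
  let A := (J ι).map (MulAut.conj (k : G)).toMonoidHom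
  have hcomm : ∀ {X : Subgroup G} (f : G →* G), (∀ a ∈ X, ∀ b ∈ X, a * b = b * a) →
      ∀ a ∈ X.map f, ∀ b ∈ X.map f, a * b = b * a := by
    rintro X f hX _ ⟨a, ha, rfl⟩ _ ⟨b, hb, rfl⟩
    rw [← map_mul, ← map_mul, hX a ha b hb]
  have hAJ : A = J' := by
    refine C.unique27 (P := P) (P2.isPGroup'.map _) ?_ (fun z hz => ⟨⟨z, h2 hz⟩, hP2 hz, rfl⟩)
      (hcomm _ fun a ha b hb => J_comm ha hb) (hcomm _ fun a ha b hb => J_comm ha hb)
      (by rw [Subgroup.card_map_of_injective (MulEquiv.injective _), C.card_J])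
      (by rw [Subgroup.card_map_of_injective (MulEquiv.injective _), C.card_J])
    rintro _ ⟨z, hz, rfl⟩
    refine ⟨k * ⟨z, h1 hz⟩ * k⁻¹, ?_, rfl⟩
    rw [← hk, Sylow.coe_subgroup_smul]
    exact Subgroup.smul_mem_pointwise_smul _ _ _ (hP1 hz)
  have hn : g⁻¹ * (k : G) ∈ Subgroup.normalizer (J ι : Set G) := by
    refine Subgroup.mem_normalizer_iff.2 fun z => ⟨fun hz => ?_, fun hz => ?_⟩
    · have h3 : (k : G) * z * (k : G)⁻¹ ∈ J' := hAJ ▸ ⟨z, hz, rfl⟩
      obtain ⟨w, hw, hwe⟩ := h3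
      change g * w * g⁻¹ = _ at hwe
      rwa [show g⁻¹ * (k : G) * z * (g⁻¹ * (k : G))⁻¹ = w by
        rw [show w = g⁻¹ * (g * w * g⁻¹) * g by group, hwe]; group]
    · have h3 : g * (g⁻¹ * (k : G) * z * (g⁻¹ * (k : G))⁻¹) * g⁻¹ ∈ A := hAJ ▸ ⟨_, hz, rfl⟩
      obtain ⟨w, hw, hwe⟩ := h3
      change (k : G) * w * (k : G)⁻¹ = _ at hwe
      rwa [show z = w by
        rw [show w = (k : G)⁻¹ * ((k : G) * w * (k : G)⁻¹) * k by group, hwe]; group]
  obtain ⟨m, hm⟩ := C.norm (Subgroup.inv_mem _ hn)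
  have hkz : ∀ w : G, w = y ∨ w = z → (k : G)⁻¹ * w = w * (k : G)⁻¹ := fun w hw =>
    (Subgroup.mem_centralizer_iff.1 (Subgroup.inv_mem _ k.2) w hw).symm
  have hky := hkz y (Or.inl rfl)
  refine ⟨m, ?_, ?_⟩
  swap
  · rw [hm]
    simp only [mul_inv_rev, inv_inv]
    rw [mul_assoc, hg, ← mul_assoc, hkz z (Or.inr rfl), mul_assoc]
  rw [hm]
  simp only [mul_inv_rev, inv_inv]
  rw [show (k : G)⁻¹ * g * x * (g⁻¹ * k) = (k : G)⁻¹ * y * k by
    rw [hyd]; group, hky, mul_assoc, inv_mul_cancel, mul_one]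

/-- Fusion in `J` takes place in the normaliser. -/
theorem fusion [Finite G] {x g : G} (hx : x ∈ J ι) (hy : g * x * g⁻¹ ∈ J ι) :
    ∃ m : Mo, ι m * x * (ι m)⁻¹ = g * x * g⁻¹ :=
  let ⟨m, hm, _⟩ := C.fusion' (z := 1) hx hy (one_mem _) (by rw [mul_one, one_mul])
  ⟨m, hm⟩

/-- Conjugate translations are conjugate in the model. -/
theorem isConj_inJ [Finite G] {u v : V} (h : IsConj (ι (inJ u)) (ι (inJ v))) :
    cl (inJ u) = cl (inJ v) := by
  obtain ⟨g, hg⟩ := isConj_iff.1 h
  obtain ⟨m, hm⟩ := C.fusion (x := ι (inJ u)) (g := g) (mem_J u) (hg ▸ mem_J v)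
  rw [hg, ← map_mul, ← map_inv, ← map_mul] at hm
  exact cl_of_isConj (isConj_iff.2 ⟨m, C.inj hm⟩)

end Cfg

end Cfsg.Agent.A9Three
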