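import Cfsg.Agent.Lib.ThreeTI.Mono.Main
import Cfsg.Agent.Lib.A9Three.Setup

/-!
S3339: the centralisers of the elements of `J` are not all inside the normaliser of `J`, unless
this normaliser is the whole group.
-/

set_option autoImplicit false
set_option maxRecDepth 40000
set_option linter.style.haveILetI false

namespace Cfsg.Agent.A9Three

open Cfsg Cfsg.Agent.Char Cfsg.Agent.LocalTI Cfsg.Agent.ThreeTI Cfsg.Agent.ThreeTI.Mono
open Cfsg.Agent.ThreeTI.Cube (V)

universe u

/-- The signed degrees attached to a configuration. -/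
structure Degs' (S : List (List ℤ)) (N : ℤ) (ds : List ℤ) : Prop where
  len : ds.length = S.length
  head : ds.head? = some 1
  ne : ∀ d ∈ ds, d ≠ 0
  vanish : ∀ j : Fin 9, ((S.zip ds).map fun p => p.1.getD j.val 0 * p.2).sum = 0
  sq : (ds.map fun d => d * d).sum ≤ N
  cong : ∀ p ∈ S.zip ds, 27 ∣ p.2 + 6 * rowVal 0 p.1 + 12 * rowVal 1 p.1 + 8 * rowVal 2 p.1
  cubic : ∀ l : Fin 7 → ℤ, l 1 = 0 ∧ l 4 = 0 ∧ l 6 = 0 →
    (N : ℚ) * ((S.zip ds).map fun p => (cubForm l p.1 : ℚ) / p.2).sum =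
      (∑ m, l m * cubTot m : ℤ)

/-- A small case of the arithmetic. -/
def smallChk (q : Fin 26) (i : Fin 10) (j : Fin 10) (k : Fin 7) : Bool :=
  let N : ℤ := 648 * (q.val + 2)
  let b : ℤ := 27 * ((i.val : ℤ) - 5) + 12
  let b' : ℤ := 27 * ((j.val : ℤ) - 5) + 12
  let c : ℤ := 27 * ((k.val : ℤ) - 3) + 8
  let g : ℤ := b + b' - 2 * c
  !(N * (b + b') == 108 * (b * b') && N * (c + 2 * g) == 243 * (g * c))

theorem smallChk_true : ∀ q i j k, smallChk q i j k = true := by decide +kernel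

/-- The arithmetic of the coherent configuration. -/
theorem coherent_arith' {N b b' c g : ℤ} (hN : 1296 ≤ N) (h648 : 648 ∣ N)
    (hb : 27 ∣ b + 15) (hb' : 27 ∣ b' + 15) (hc : 27 ∣ c + 19)
    (hB : N * (b + b') = 108 * (b * b')) (hC : N * (c + 2 * g) = 243 * (g * c))
    (hrel : b + b' = g + 2 * c) (hsq : b * b + b' * b' ≤ N) (hc2 : 2 * (c * c) ≤ N) : False := by
  by_cases hbig : 18144 ≤ N
  · exact coherent_arith hbig h648 hb hb' hc hB hC hrel hsq hc2
  obtain ⟨q, rfl⟩ := h648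
  have hq : 2 ≤ q ∧ q ≤ 27 := by omega
  have b1 : b ≤ 132 ∧ -132 ≤ b := by constructor <;> nlinarith [mul_self_nonneg b']
  have b2 : b' ≤ 132 ∧ -132 ≤ b' := by constructor <;> nlinarith [mul_self_nonneg b]
  have c1 : c ≤ 93 ∧ -93 ≤ c := by constructor <;> nlinarith
  obtain ⟨i, hi⟩ : ∃ i : Fin 10, b = 27 * ((i.val : ℤ) - 5) + 12 :=
    ⟨⟨((b + 15) / 27 + 4).toNat, by omega⟩, by simp only; omega⟩
  obtain ⟨j, hj⟩ : ∃ j : Fin 10, b' = 27 * ((j.val : ℤ) - 5) + 12 :=
    ⟨⟨((b' + 15) / 27 + 4).toNat, by omega⟩, by simp only; omega⟩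
  obtain ⟨k, hk⟩ : ∃ k : Fin 7, c = 27 * ((k.val : ℤ) - 3) + 8 :=
    ⟨⟨((c + 19) / 27 + 2).toNat, by omega⟩, by simp only; omega⟩
  obtain ⟨q', hq'⟩ : ∃ q' : Fin 26, q = (q'.val : ℤ) + 2 :=
    ⟨⟨(q - 2).toNat, by omega⟩, by simp only; omega⟩
  have h := smallChk_true q' i j k
  obtain rfl : g = b + b' - 2 * c := by linarith
  simp only [smallChk, Bool.not_eq_true', Bool.and_eq_false_iff, beq_eq_false_iff_ne,
    ← hi, ← hj, ← hk, ← hq'] at h
  rcases h with h | h
  exacts [h hB, h hC]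

theorem final0_false' {N : ℤ} {ds : List ℤ} (_hN : 1296 ≤ N) (_h648 : 648 ∣ N)
    (h : Degs' final0 N ds) : False := by
  obtain ⟨hl, hh, hne, hv, hsq, hcong, hcub⟩ := h
  match ds, hl with
  | [d0, d1, d2, d3, d4, d5, d6, d7, d8, d9, d10, d11], _ => ?_
  simp only [List.head?_cons, Option.some.injEq] at hh
  subst hh
  have v := Fin.forall_fin_succ.1 hv
  simp [final0, Fin.forall_fin_succ] at v
  have hz := hne d10 (by simp)
  apply hz
  linarith

theorem final1_false' {N : ℤ} {ds : List ℤ} (_hN : 1296 ≤ N) (_h648 : 648 ∣ N)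
    (h : Degs' final1 N ds) : False := by
  obtain ⟨hl, hh, hne, hv, hsq, hcong, hcub⟩ := h
  match ds, hl with
  | [d0, d1, d2, d3, d4, d5, d6, d7, d8, d9, d10, d11, d12], _ => ?_
  simp only [List.head?_cons, Option.some.injEq] at hh
  subst hh
  have v := Fin.forall_fin_succ.1 hv
  simp [final1, Fin.forall_fin_succ] at v
  have hz := hne d11 (by simp)
  apply hz
  linarith

theorem final2_false' {N : ℤ} {ds : List ℤ} (hN : 1296 ≤ N) (h648 : 648 ∣ N)
    (h : Degs' final2 N ds) : False := by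
  obtain ⟨hl, hh, hne, hv, hsq, hcong, hcub⟩ := h
  match ds, hl with
  | [d0, d1, d2, d3, d4, d5, d6, d7, d8, d9, d10, d11, d12, d13], _ => ?_
  simp only [List.head?_cons, Option.some.injEq] at hh
  subst hh
  have v := Fin.forall_fin_succ.1 hv
  simp [final2, Fin.forall_fin_succ] at v
  have hB := hcub formB (by decide)
  have hC := hcub formC (by decide)
  simp [final2, cubForm, formB, formC, cubTot, rowVal, vrow, Fin.sum_univ_succ] at hB hC
  have hb := hcong ([0, 0, 0, 0, 0, 0, 0, 0, 1], d1) (by simp [final2])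
  have hb' := hcong ([0, 0, 0, 0, 0, 0, 0, 1, 0], d2) (by simp [final2])
  have hc := hcong ([0, 1, 1, 0, 0, 0, 0, -1, -1], d11) (by simp [final2])
  simp [rowVal, vrow] at hb hb' hc
  have e10 : d10 = -d11 := by linarith
  subst e10
  have n1 : (d1 : ℚ) ≠ 0 := Int.cast_ne_zero.2 (hne d1 (by simp))
  have n2 : (d2 : ℚ) ≠ 0 := Int.cast_ne_zero.2 (hne d2 (by simp))
  have n4 : (d4 : ℚ) ≠ 0 := Int.cast_ne_zero.2 (hne d4 (by simp))
  have n11 : (d11 : ℚ) ≠ 0 := Int.cast_ne_zero.2 (hne d11 (by simp))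
  simp only [List.map_cons, List.map_nil, List.sum_cons, List.sum_nil] at hsq
  refine coherent_arith' (b := d1) (b' := d2) (c := d11) (g := d4) hN h648 ?_ ?_ ?_ ?_ ?_ ?_ ?_ ?_
  · omega
  · omega
  · omega
  · push_cast at hB
    field_simp at hB
    have : (N : ℚ) * (d1 + d2) = 108 * (d1 * d2) := by grind
    exact_mod_cast this
  · push_cast at hC
    field_simp at hC
    have : (N : ℚ) * (d11 + 2 * d4) = 243 * (d4 * d11) := by grind
    exact_mod_cast this
  · linarith
  · nlinarith [mul_self_nonneg d3, mul_self_nonneg d4, mul_self_nonneg d5, mul_self_nonneg d6,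
      mul_self_nonneg d7, mul_self_nonneg d8, mul_self_nonneg d9, mul_self_nonneg d11,
      mul_self_nonneg d12, mul_self_nonneg d13]
  · nlinarith [mul_self_nonneg d1, mul_self_nonneg d2, mul_self_nonneg d3, mul_self_nonneg d4,
      mul_self_nonneg d5, mul_self_nonneg d6, mul_self_nonneg d7, mul_self_nonneg d8,
      mul_self_nonneg d9, mul_self_nonneg d12, mul_self_nonneg d13]

/-- The form isolating the last configuration. -/
def formY : Fin 7 → ℤ := ![1, 0, 1, -2, 0, 0, 0]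

theorem final3_false' {N : ℤ} {ds : List ℤ} (hN : 1296 ≤ N)
    (h : Degs' final3 N ds) : False := by
  obtain ⟨hl, hh, hne, hv, hsq, hcong, hcub⟩ := h
  match ds, hl with
  | [d0, d1, d2, d3, d4, d5, d6, d7, d8, d9, d10, d11, d12], _ => ?_
  simp only [List.head?_cons, Option.some.injEq] at hh
  subst hh
  have v := Fin.forall_fin_succ.1 hv
  simp [final3, Fin.forall_fin_succ] at v
  have hx := hcub formY (by decide)
  simp [final3, cubForm, formY, cubTot, rowVal, vrow, Fin.sum_univ_succ] at hx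
  have h1 := hcong ([0, 0, 0, 0, 0, 0, 0, 0, 1], d1) (by simp [final3])
  have h2 := hcong ([0, 0, 0, 0, 0, 0, 1, 1, 0], d2) (by simp [final3])
  simp [rowVal, vrow] at h1 h2
  have e10 : d10 = -d9 := by linarith
  subst e10
  have n3 : (d3 : ℚ) ≠ 0 := Int.cast_ne_zero.2 (hne d3 (by simp))
  have n4 : (d4 : ℚ) ≠ 0 := Int.cast_ne_zero.2 (hne d4 (by simp))
  push_cast at hx
  rcases hx with h | h
  · omega
  field_simp at h
  have : (d3 : ℚ) + 2 * d4 = 0 := by grind
  have e : d3 + 2 * d4 = 0 := by exact_mod_cast this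
  omega

theorem final_false' {N : ℤ} {S : List (List ℤ)} {ds : List ℤ} (hS : S ∈ configs 9)
    (hN : 1296 ≤ N) (h648 : 648 ∣ N) (h : Degs' S N ds) : False := by
  rw [configs_nine] at hS
  simp only [List.mem_cons, List.not_mem_nil, or_false] at hS
  rcases hS with rfl | rfl | rfl | rfl
  exacts [final0_false' hN h648 h, final1_false' hN h648 h, final2_false' hN h648 h,
    final3_false' hN h]

section

variable {G : Type u} [Group G] [Finite G] {ι : Mo →* G} [Fintype G]

/-- The structure constants are computed inside the normal subgroup. -/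
theorem count' (E : Emb ι Dset) (sc : ∀ (i : Fin 14) (h : Mo), i = 5 ∨ i = 6 → IsConj (ι (rep i)) (ι h) → h.right = 1)
    {c d x : Fin 14} (hc : 5 ≤ c ∧ c ≤ 7) (hd : 5 ≤ d ∧ d ≤ 7) (hx : x = 5 ∨ x = 6) (hne : d ≠ x)
    (hcd : (c = 5 ∨ c = 6) ∨ (d = 5 ∨ d = 6)) :
    Nat.card {a : G // IsConj (ι (rep c)) a ∧ IsConj (ι (rep d)) (a⁻¹ * ι (rep x))} =
      (Finset.univ.filter fun v : V => cl (inJ v) = c ∧ cl ((inJ v)⁻¹ * rep x) = d).card := by
  classical
  rw [← Fintype.card_coe, ← Nat.card_eq_fintype_card]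
  symm
  refine Nat.card_eq_of_bijective (fun v => ⟨ι (inJ v.1), ?_, ?_⟩) ⟨fun v v' e => ?_, fun a => ?_⟩
  · exact ι.map_isConj (isConj_of_cl ((cl_rep c).trans (Finset.mem_filter.1 v.2).2.1.symm))
  · rw [← map_inv, ← map_mul]
    exact ι.map_isConj (isConj_of_cl ((cl_rep d).trans (Finset.mem_filter.1 v.2).2.2.symm))
  · exact Subtype.ext (SemidirectProduct.inl_injective (E.inj (congrArg Subtype.val e)))
  obtain ⟨a, hac, had⟩ := a
  have hx5 : 5 ≤ x ∧ x ≤ 7 := by rcases hx with rfl | rfl <;> decide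
  have hinj : ∀ m : Mo, m.right = 1 → inJ m.left = m := fun m hm =>
    SemidirectProduct.ext rfl hm.symm
  have hcube : ∀ {e : Fin 14}, 5 ≤ e ∧ e ≤ 7 → ∀ {b : G}, IsConj (ι (rep e)) b → b ^ 3 = 1 := by
    intro e he b hb
    obtain ⟨g, rfl⟩ := isConj_iff.1 hb
    rw [conj_pow, ← map_pow, pow_three', J_cube _ (rep_J e he.1 he.2).1, map_one, mul_one,
      mul_inv_cancel]
  have hb3 := hcube hd had
  have hxi : (ι (rep x))⁻¹ ^ 3 = 1 := by rw [inv_pow, hcube hx5 (IsConj.refl _), inv_one]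
  have hprod : (a⁻¹ * ι (rep x) * (ι (rep x))⁻¹) ^ 3 = 1 := by
    rw [mul_inv_cancel_right, inv_pow, hcube hc hac, inv_one]
  have hdd : Dset (rep d) := by rw [Dset, cl_rep]; exact hd.1
  have hdx : Dset (rep x)⁻¹ := by rw [Dset, real_class, cl_rep]; exact hx5.1
  have hdc : Dset (rep c) := by rw [Dset, cl_rep]; exact hc.1
  rcases isConj_or_commute_three hb3 hxi hprod with h | ⟨q, q1, q3, qb, qx⟩
  · exfalso
    refine hne ?_
    rw [← map_inv] at h
    have := cl_of_isConj (E.isConj hdd hdx (had.trans h))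
    rwa [cl_rep, real_class, cl_rep] at this
  · rw [← map_inv] at qx
    obtain ⟨r, rfl⟩ := E.mem_range_of_commute hdx qx.eq
    have hr1 : r.right = 1 := by
      refine cube_comm x hx r (E.inj (by rw [← pow_three', map_pow, q3, map_one])) (E.inj ?_)
      rw [map_mul, map_mul]
      simpa using qx.inv_right.eq
    have hr : Dset r := (J_dset r hr1 fun h => q1 (by rw [h, map_one])).1
    obtain ⟨s, hs⟩ := E.mem_range_of_commute hr qb.eq.symm
    have ha : a = ι (rep x * s⁻¹) := by rw [map_mul, map_inv, hs]; group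
    subst ha
    have hs1 : s.right = 1 := by
      rcases hcd with h | h
      · have := sc c (rep x * s⁻¹) h hac
        rw [SemidirectProduct.mul_right, SemidirectProduct.inv_right, (rep_J x hx5.1 hx5.2).1,
          one_mul, inv_eq_one] at this
        exact this
      · exact sc d s h (by rw [hs]; exact had)
    have h1 : (rep x * s⁻¹).right = 1 := by
      rw [SemidirectProduct.mul_right, SemidirectProduct.inv_right, hs1, (rep_J x hx5.1 hx5.2).1,
        inv_one, one_mul]
    have hne1 : ∀ {e : Fin 14}, 5 ≤ e → ∀ {m : Mo}, IsConj (ι (rep e)) (ι m) → m ≠ 1 := by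
      intro e he m hm h
      rw [h, map_one, isConj_one_left] at hm
      exact not_one_rep e he (E.inj (hm.trans (map_one ι).symm))
    have hs2 : (rep x * s⁻¹)⁻¹ * rep x = s := by group
    rw [← map_inv, ← map_mul, hs2] at had
    refine ⟨⟨(rep x * s⁻¹).left, Finset.mem_filter.2 ⟨Finset.mem_univ _, ?_, ?_⟩⟩,
      Subtype.ext (congrArg ι (hinj _ h1))⟩
    · rw [hinj _ h1]
      have := cl_of_isConj (E.isConj hdc (J_dset _ h1 (hne1 hc.1 hac)).1 hac)
      rw [cl_rep] at this
      exact this.symm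
    · rw [hinj _ h1, hs2]
      have := cl_of_isConj (E.isConj hdd (J_dset _ hs1 (hne1 hd.1 had)).1 had)
      rw [cl_rep] at this
      exact this.symm

theorem cubic' (E : Emb ι Dset)
    (sc : ∀ (i : Fin 14) (h : Mo), i = 5 ∨ i = 6 → IsConj (ι (rep i)) (ι h) → h.right = 1)
    (m : Fin 7) (hm : m ≠ 1 ∧ m ≠ 4 ∧ m ≠ 6) : (Nat.card G : ℚ) * ∑ χ : IrrCharacter G,
      ((jval ι χ (mon m).1 * jval ι χ (mon m).2.1 * jval ι χ (mon m).2.2 : ℤ) : ℚ) /
        (Cfsg.charDegree (χ : G → ℂ) : ℚ) = monTot m := by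
  classical
  have hcond : ∀ m : Fin 7, m ≠ 1 ∧ m ≠ 4 ∧ m ≠ 6 → (5 ≤ jc (mon m).1 ∧ jc (mon m).1 ≤ 7) ∧
      (5 ≤ jc (mon m).2.1 ∧ jc (mon m).2.1 ≤ 7) ∧
      (jc (mon m).2.2 = 5 ∨ jc (mon m).2.2 = 6) ∧ jc (mon m).2.1 ≠ jc (mon m).2.2 ∧
      ((jc (mon m).1 = 5 ∨ jc (mon m).1 = 6) ∨ (jc (mon m).2.1 = 5 ∨ jc (mon m).2.1 = 6)) := by decide
  obtain ⟨hc, hd, hx, hne, hcd⟩ := hcond m hm
  have hcen : ∀ i : Fin 14, 5 ≤ i →
      Nat.card (Subgroup.centralizer ({ι (rep i)} : Set G)) = 648 / size i := fun i hi => by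
    rw [← card_centralizer E hi,
      Nat.mul_div_cancel _ (Nat.pos_of_ne_zero ((by decide : ∀ i, size i ≠ 0) i))]
  have h := ClassCount.pair_count (ι (rep (jc (mon m).1))) (ι (rep (jc (mon m).2.1)))
    (ι (rep (jc (mon m).2.2)))
  rw [count' E sc hc hd hx hne hcd, hcen _ hc.1, hcen _ hd.1] at h
  apply Rat.cast_injective (α := ℂ)
  rw [← mon_model m]
  generalize 648 / size (jc (mon m).1) = A, 648 / size (jc (mon m).2.1) = B at h ⊢
  push_cast
  rw [h]
  congr 1
  refine Finset.sum_congr rfl fun χ _ => ?_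
  rw [CharX.irr_deg χ, show (χ : G → ℂ) (ι (rep (jc (mon m).1))) = _ from jval_eq χ _,
    show (χ : G → ℂ) (ι (rep (jc (mon m).2.1))) = _ from jval_eq χ _,
    show (χ : G → ℂ) (ι (rep (jc (mon m).2.2))) = _ from jval_eq χ _, map_intCast]

end

section

variable {G : Type u} [Group G] [Finite G] {ι : Mo →* G}

theorem false_of_emb' (E : Emb ι Dset)
    (sc : ∀ (i : Fin 14) (h : Mo), i = 5 ∨ i = 6 → IsConj (ι (rep i)) (ι h) → h.right = 1)
    (hN : 1296 ≤ Nat.card G) (h648 : 648 ∣ Nat.card G) : False := by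
  classical
  haveI := Fintype.ofFinite G
  let o : IrrCharacter G := ⟨fun _ => 1, isIrrCharacter_one⟩
  let F : ℕ → IrrCharacter G → ℤ := fun j χ => if h : j < 9 then coord9 ι χ ⟨j, h⟩ else 0
  have hF : ∀ (k : Fin 9) (χ : IrrCharacter G), F k χ = coord9 ι χ k := fun k χ => dif_pos k.isLt
  have stage : ∀ k, k ≤ 9 → ∃ S ∈ configs k, Cover F o k S := by
    intro k
    induction k with
    | zero => exact fun _ => ⟨[[]], by decide, cover_zero F o⟩
    | succ k ih =>
      intro hk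
      obtain ⟨S, hS, hcov⟩ := ih (by omega)
      have hk9 : k < 9 := by omega
      obtain ⟨T, hT, hcov'⟩ := cover_succ F o hcov (c0 := princCol ⟨k, hk9⟩)
        (need := needOf ⟨k, hk9⟩) (norm := (gram ⟨k, hk9⟩ ⟨k, hk9⟩).toNat) (gram_toNat _).2
        ((hF ⟨k, hk9⟩ o).trans (coord_princ (χ := o) (fun _ => rfl) _))
        (fun j hj => by
          rw [needOf_eq ⟨k, hk9⟩ ⟨j, by omega⟩ hj, ← coord_gram E]
          exact Finset.sum_congr rfl fun χ _ => by rw [← hF, ← hF])
        (by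
          rw [(gram_toNat _).1, ← coord_gram E]
          exact Finset.sum_congr rfl fun χ _ => by rw [← hF])
      refine ⟨T, ?_, hcov'⟩
      have h := configs_step ⟨k, hk9⟩
      simp only [List.all_eq_true, decide_eq_true_eq] at h
      exact h S hS T hT
  obtain ⟨S, hS, L, hLS, hnd, hsgn, hout⟩ := stage 9 le_rfl
  set M : List (IrrCharacter G × ℤ) := (o, 1) :: L with hM
  have hMsgn : ∀ p ∈ M, p.2 = 1 ∨ p.2 = -1 := by
    intro p hp
    rcases List.mem_cons.1 hp with rfl | h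
    exacts [Or.inl rfl, hsgn p h]
  set D : IrrCharacter G × ℤ → ℤ := fun p => p.2 * (Cfsg.charDegree (p.1 : G → ℂ) : ℤ) with hD
  have hrow : ∀ (p : IrrCharacter G × ℤ) (j : Fin 9),
      (rowOf F 9 p).getD j.val 0 = p.2 * coord9 ι p.1 j := fun p j => by
    rw [rowOf, getD_map_range _ j.isLt, hF]
  have hval : ∀ (p : IrrCharacter G × ℤ) (a : Fin 3),
      rowVal a (rowOf F 9 p) = p.2 * jval ι p.1 a := by
    intro p a
    have e : rowOf F 9 p = List.ofFn fun j : Fin 9 => p.2 * coord9 ι p.1 j := by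
      refine List.ext_getElem (by simp [rowOf]) fun j h1 h2 => ?_
      simp [rowOf] at h1
      simp only [rowOf, List.getElem_map, List.getElem_range, List.getElem_ofFn]
      rw [← hF]
    rw [rowVal, e, vrow_eq, jval, Finset.mul_sum]
    simp [List.zip, List.sum_ofFn, Fin.sum_univ_succ]
    ring
  have hzero : ∀ χ : IrrCharacter G, χ ∉ M.map Prod.fst → ∀ k : Fin 9, coord9 ι χ k = 0 :=
    fun χ hχ k => (hF k χ).symm.trans (hout χ hχ k.val k.isLt)
  have hz : (S.zip (M.map D)) = M.map fun p => (rowOf F 9 p, D p) := by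
    rw [← hLS, List.zip_map']
  refine final_false' (N := (Nat.card G : ℤ)) (ds := M.map D) hS (by exact_mod_cast hN)
    (by exact_mod_cast h648) ⟨by simp [← hLS, hM], ?_, ?_, ?_, ?_, ?_, ?_⟩
  · simp [hM, hD, o, CharX.charDegree_one]
  · intro d hd
    obtain ⟨p, hp, rfl⟩ := List.mem_map.1 hd
    have h1 := CharX.irr_deg_pos p.1
    rcases hMsgn p hp with e | e <;> simp [hD, e] <;> omega
  · intro j
    rw [hz, List.map_map]
    have h := coord_degree E j
    rw [sum_cover M hnd _ (fun χ hχ => by rw [hzero χ hχ, zero_mul])] at h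
    refine Eq.trans ?_ h
    congr 1
    refine List.map_congr_left fun p hp => ?_
    show (rowOf F 9 p).getD j.val 0 * D p = _
    rw [hrow]
    simp only [hD]
    rcases hMsgn p hp with e | e <;> rw [e] <;> ring
  · rw [List.map_map]
    have h : (List.map (fun p : IrrCharacter G × ℤ =>
        ((Cfsg.charDegree (p.1 : G → ℂ) : ℤ)) ^ 2) M).sum ≤ (Nat.card G : ℤ) := by
      rw [show (fun p : IrrCharacter G × ℤ => ((Cfsg.charDegree (p.1 : G → ℂ) : ℤ)) ^ 2) =
        (fun χ : IrrCharacter G => ((Cfsg.charDegree (χ : G → ℂ) : ℤ)) ^ 2) ∘ Prod.fst from rfl,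
        ← List.map_map, ← List.sum_toFinset _ hnd]
      refine le_trans (Finset.sum_le_sum_of_subset_of_nonneg (Finset.subset_univ _)
        fun _ _ _ => by positivity) ?_
      exact_mod_cast (CharX.sum_deg_sq (G := G)).le
    refine le_of_eq_of_le ?_ h
    congr 1
    refine List.map_congr_left fun p hp => ?_
    simp only [Function.comp, hD]
    rcases hMsgn p hp with e | e <;> rw [e] <;> ring
  · intro q hq
    rw [hz] at hq
    obtain ⟨p, hp, rfl⟩ := List.mem_map.1 hq
    obtain ⟨t, ht⟩ := degree_cong (ι := ι) p.1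
    refine ⟨p.2 * t, ?_⟩
    simp only [hval, hD]
    linear_combination p.2 * ht
  · intro l hl
    rw [hz, List.map_map]
    have key : ∀ p ∈ M, ((cubForm l (rowOf F 9 p) : ℤ) : ℚ) / (D p : ℤ) =
        ∑ m, (l m : ℚ) * ((jval ι p.1 (mon m).1 * jval ι p.1 (mon m).2.1 *
          jval ι p.1 (mon m).2.2 : ℤ) : ℚ) / (Cfsg.charDegree (p.1 : G → ℂ) : ℚ) := by
      intro p hp
      have hd : (Cfsg.charDegree (p.1 : G → ℂ) : ℚ) ≠ 0 :=
        Nat.cast_ne_zero.2 (CharX.irr_deg_pos p.1).ne'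
      rw [← Finset.sum_div, div_eq_div_iff (by
        rcases hMsgn p hp with e | e <;> simp [hD, e, hd]) hd]
      simp only [cubForm, hval, hD, mon, Fin.sum_univ_succ, Fin.sum_univ_zero, add_zero]
      simp only [Matrix.cons_val_zero, Matrix.cons_val_succ]
      push_cast
      rcases hMsgn p hp with e | e <;> rw [e] <;> push_cast <;> ring
    rw [show (M.map (((fun p : List ℤ × ℤ => (cubForm l p.1 : ℚ) / p.2)) ∘
        fun p => (rowOf F 9 p, D p))) = M.map _ from List.map_congr_left key,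
      ← sum_cover M hnd (fun χ : IrrCharacter G => ∑ m, (l m : ℚ) *
        ((jval ι χ (mon m).1 * jval ι χ (mon m).2.1 * jval ι χ (mon m).2.2 : ℤ) : ℚ) /
          (Cfsg.charDegree (χ : G → ℂ) : ℚ)) (fun χ hχ => by
        simp [jval, hzero χ hχ])]
    rw [Finset.sum_comm, Finset.mul_sum]
    push_cast
    refine Finset.sum_congr rfl fun m _ => ?_
    by_cases hm : m = 1 ∨ m = 4 ∨ m = 6
    · rcases hm with rfl | rfl | rfl <;> simp [hl.1, hl.2.1, hl.2.2]
    push Not at hm
    have h := cubic' E sc m hm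
    rw [show (cubTot m : ℚ) = (monTot m : ℚ) from rfl, ← h]
    simp only [mul_div_assoc, ← Finset.mul_sum]
    push_cast
    ring

end

theorem rep_order : ∀ i j : Fin 14, 5 ≤ i → 5 ≤ j →
    (∀ k : Fin 13, rep i ^ k.val = 1 ↔ rep j ^ k.val = 1) → powIn i = powIn j := by decide +kernel

set_option synthInstance.maxSize 1000 in
theorem outside_cube : ∀ h : Mo, h * h * h = 1 → h.right ≠ 1 →
    ∃ v : V, v ≠ 1 ∧ h * inJ v = inJ v * h := by decide +kernel

namespace Cfg

variable {G : Type u} [Group G] [Finite G] {ι : Mo →* G} (C : Cfg ι)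
include C

/-- The case of small centralisers. -/
theorem range_eq_top (hC : ∀ v : V, v ≠ 1 →
    Subgroup.centralizer ({ι (inJ v)} : Set G) ≤ ι.range) : ι.range = ⊤ := by
  by_contra hne
  have tiJ : ∀ v : V, v ≠ 1 → ∀ g : G, g * ι (inJ v) * g⁻¹ ∈ J ι → g ∈ ι.range := by
    intro v hv g hg
    obtain ⟨m, hm⟩ := C.fusion (mem_J v) hg
    have h : (ι m)⁻¹ * g ∈ Subgroup.centralizer ({ι (inJ v)} : Set G) := by
      refine Subgroup.mem_centralizer_singleton_iff.2 ?_
      calc (ι m)⁻¹ * g * ι (inJ v) = (ι m)⁻¹ * (g * ι (inJ v) * g⁻¹) * g := by group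
        _ = _ := by rw [← hm]; group
    have := mul_mem (show ι m ∈ ι.range from ⟨m, rfl⟩) (hC v hv h)
    rwa [mul_inv_cancel_left] at this
  have hleft : ∀ {i : Fin 14}, i = 5 ∨ i = 6 ∨ i = 7 → inJ (rep i).left = rep i ∧
      (rep i).left ≠ 1 := by
    intro i hi
    obtain ⟨h1, h2⟩ := rep_J i (by rcases hi with rfl | rfl | rfl <;> decide)
      (by rcases hi with rfl | rfl | rfl <;> decide)
    exact ⟨(eq_inJ_of_right h1).symm, fun h => h2 (by rw [eq_inJ_of_right h1, h, map_one])⟩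
  have sc : ∀ (i : Fin 14) (h : Mo), i = 5 ∨ i = 6 → IsConj (ι (rep i)) (ι h) → h.right = 1 := by
    intro i h hi hc
    obtain ⟨g, hg⟩ := isConj_iff.1 hc
    by_contra hr
    obtain ⟨e, en⟩ := hleft (i := i) (by tauto)
    have h3 : h * h * h = 1 := C.inj (by
      rw [map_mul, map_mul, map_one, ← hg]
      have := congrArg ι (J_cube (rep i) (rep_J i (by rcases hi with rfl | rfl <;> decide)
        (by rcases hi with rfl | rfl <;> decide)).1)
      rw [map_mul, map_mul, map_one] at this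
      calc _ = g * (ι (rep i) * ι (rep i) * ι (rep i)) * g⁻¹ := by group
        _ = 1 := by rw [this]; group)
    obtain ⟨v, hv, hcom⟩ := outside_cube h h3 hr
    have hq : g⁻¹ * ι (inJ v) * g ∈ Subgroup.centralizer ({ι (rep i)} : Set G) := by
      refine Subgroup.mem_centralizer_singleton_iff.2 ?_
      have hcom' : ι h * ι (inJ v) = ι (inJ v) * ι h := by rw [← map_mul, hcom, map_mul]
      rw [← hg] at hcom'
      calc g⁻¹ * ι (inJ v) * g * ι (rep i)
          = g⁻¹ * (ι (inJ v) * (g * ι (rep i) * g⁻¹)) * g := by group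
        _ = _ := by rw [← hcom']; group
    rw [← e] at hq
    obtain ⟨m, hm⟩ := hC _ en hq
    rw [e] at hq
    have hm1 : m.right = 1 := by
      refine cube_comm i hi m (C.inj ?_) (C.inj ?_)
      · rw [map_mul, map_mul, map_one, hm]
        have := congrArg ι (J_cube (inJ v) (SemidirectProduct.right_inl v))
        rw [map_mul, map_mul, map_one] at this
        calc _ = g⁻¹ * (ι (inJ v) * ι (inJ v) * ι (inJ v)) * g := by group
          _ = 1 := by rw [this]; group
      · rw [map_mul, map_mul, hm]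
        exact Subgroup.mem_centralizer_singleton_iff.1 hq
    obtain ⟨n, hn⟩ := tiJ v hv g⁻¹ (by rw [inv_inv, ← hm]; exact C.mem_J_iff.2 hm1)
    have hn' : ι (n⁻¹ * rep i * n⁻¹⁻¹) = ι h := by
      rw [inv_inv, map_mul, map_mul, map_inv, hn, inv_inv, hg]
    refine hr ?_
    rw [← C.inj hn']
    simp [(rep_J i (by rcases hi with rfl | rfl <;> decide)
      (by rcases hi with rfl | rfl <;> decide)).1]
  have E : Emb ι Dset := by
    refine ⟨C.inj, fun h h' hh hh' g hg => ?_⟩
    have hpow : powIn (cl h) = powIn (cl h') := by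
      refine rep_order _ _ hh hh' fun k => ?_
      rw [← conj_eq_one_iff (a := wit h), ← conj_pow, conj_wit,
        ← conj_eq_one_iff (a := wit h') (b := rep (cl h') ^ k.val), ← conj_pow, conj_wit,
        ← C.inj.eq_iff, ← C.inj.eq_iff (a := h' ^ k.val), map_pow, map_pow, map_one, ← hg,
        conj_pow, conj_eq_one_iff]
    obtain ⟨hr, hn⟩ := power_in h hh
    have hr' := (power_in h' hh').1
    rw [← hpow] at hr'
    refine tiJ (h ^ powIn (cl h)).left (fun h1 => hn ?_) g ?_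
    · rw [eq_inJ_of_right hr, h1, map_one]
    · rw [← eq_inJ_of_right hr, map_pow, ← conj_pow, hg, ← map_pow]
      exact C.mem_J_iff.2 hr'
  have hcard : Nat.card ι.range = 648 := C.card_range
  refine false_of_emb' E sc ?_ (hcard ▸ ι.range.card_subgroup_dvd_card)
  rw [← ι.range.card_mul_index, hcard]
  have h0 : ι.range.index ≠ 0 := Subgroup.index_ne_zero_of_finite
  have h1 : ι.range.index ≠ 1 := fun h => hne (Subgroup.index_eq_one.1 h)
  omega

end Cfg

end Cfsg.Agent.A9Three
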