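import Cfsg.Agent.Lib.A9Three.Setup
import Cfsg.Agent.Lib.Transfer.Basic
import Mathlib.GroupTheory.Focal

/-!
S3339: Sylow subgroups and transfers of the centralisers of translations.
-/

set_option autoImplicit false
set_option maxRecDepth 40000

namespace Cfsg.Agent.A9Three

open Cfsg.Agent.ThreeTI.Mono
open Cfsg.Agent.ThreeTI.Cube (V)

universe u

/-- A homomorphism of a Sylow subgroup constant on fused elements extends up to a power. -/
theorem exists_transfer {X : Type*} [Group X] [Finite X] {p : ℕ} [Fact p.Prime] (P : Sylow p X)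
    {A : Type*} [CommGroup A] (φ : (P : Subgroup X) →* A)
    (hφ : ∀ x y : (P : Subgroup X), ∀ g : X, g * (x : X) * g⁻¹ = y → φ x = φ y) :
    ∃ f : X →* A, ∀ x : (P : Subgroup X), f x = φ x ^ (P : Subgroup X).index := by
  have h : Subgroup.focalSubgroupOf (P : Subgroup X) ≤ φ.ker := by
    rw [Subgroup.focalSubgroupOf_eq_closure, Subgroup.closure_le]
    rintro g ⟨x, hx, u, e⟩
    have e' := hφ ⟨x⁻¹, inv_mem hx⟩ (⟨x⁻¹, inv_mem hx⟩ * g) u (by
      push_cast
      rw [e, commutatorElement_def]; group)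
    rw [map_mul, left_eq_mul] at e'
    exact e'
  refine ⟨(QuotientGroup.lift _ φ h).comp (Subgroup.transferFocal (P : Subgroup X)), fun x => ?_⟩
  rw [MonoidHom.comp_apply, Subgroup.transferFocal_eq_pow, map_pow]
  rfl

theorem pow_eq_one_iff_m3 {n : ℕ} (z : Multiplicative (ZMod 3)) (hn : ¬ 3 ∣ n) :
    z ^ n = 1 ↔ z = 1 := by
  rw [pow_eq_pow_mod n ((by decide : ∀ z : Multiplicative (ZMod 3), z ^ 3 = 1) z)]
  obtain e | e : n % 3 = 1 ∨ n % 3 = 2 := by omega
  all_goals rw [e]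
  · exact (by decide : ∀ z : Multiplicative (ZMod 3), z ^ 1 = 1 ↔ z = 1) z
  · exact (by decide : ∀ z : Multiplicative (ZMod 3), z ^ 2 = 1 ↔ z = 1) z

/-- The centraliser of a translation. -/
abbrev cg {G : Type u} [Group G] (ι : Mo →* G) (v : V) : Subgroup G :=
  Subgroup.centralizer ({ι (inJ v)} : Set G)

/-- No rotation of order three fixes the translation. -/
def NoThree (v : V) : Prop := ∀ q : Rot, actFn q v = v → q * q * q = 1 → q = 1

namespace Cfg

variable {G : Type u} [Group G] {ι : Mo →* G} (C : Cfg ι)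
include C

omit C in
theorem J_le_cg (v : V) : J ι ≤ cg ι v := fun _ hx =>
  Subgroup.mem_centralizer_singleton_iff.2 (J_comm hx (mem_J v))

theorem mem_cg_iff (m : Mo) (v : V) : ι m ∈ cg ι v ↔ actFn m.right v = v := by
  rw [Subgroup.mem_centralizer_singleton_iff, ← commute_inJ_iff m v, ← map_mul, ← map_mul,
    C.inj.eq_iff]

theorem eq_inv_mem {x : G} (hx : x ∈ J ι) : ∃ u : V, ι (inJ u) = x := hx

/-- The Sylow subgroup of such a centraliser is `J`. -/
theorem eq_J_of_pGroup [Finite G] {v : V} (hv : NoThree v) {Q : Subgroup G} (hQ : IsPGroup 3 Q)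
    (hle : Q ≤ cg ι v) (hJQ : J ι ≤ Q) : Q = J ι := by
  haveI : Fact (Nat.Prime 3) := ⟨Nat.prime_three⟩
  by_contra hne
  have hlt : (J ι).subgroupOf Q < ⊤ := lt_top_iff_ne_top.2 fun h =>
    hne (le_antisymm (Subgroup.subgroupOf_eq_top.1 h) hJQ)
  haveI : Group.IsNilpotent Q := hQ.isNilpotent
  obtain ⟨g, hgN, hgJ⟩ := SetLike.exists_of_lt
    (Group.normalizerCondition_of_isNilpotent (G := Q) _ hlt)
  have hg : (g : G) ∈ Subgroup.normalizer (J ι : Set G) := by
    refine Subgroup.mem_normalizer_iff.2 fun y => ⟨fun hy =>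
      (Subgroup.mem_normalizer_iff.1 hgN ⟨y, hJQ hy⟩).1 hy, fun hy => ?_⟩
    have hyQ : y ∈ Q := by
      have := mul_mem (mul_mem (inv_mem g.2) (hJQ hy)) g.2
      rwa [show (g : G)⁻¹ * ((g : G) * y * (g : G)⁻¹) * g = y by group] at this
    exact (Subgroup.mem_normalizer_iff.1 hgN ⟨y, hyQ⟩).2 hy
  obtain ⟨m, hm⟩ := C.norm hg
  obtain ⟨k, hk⟩ := hQ g
  have h3 : m.right * m.right * m.right = 1 := rot_cube_of_pGroup (k := k) (C.inj (by
    rw [map_pow, map_one, hm]
    exact congrArg Subtype.val hk))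
  have h1 := hv m.right ((C.mem_cg_iff m v).1 (hm ▸ hle g.2)) h3
  exact hgJ (show (g : G) ∈ J ι from hm ▸ C.mem_J_iff.2 h1)

/-- `J` as a Sylow subgroup of the centraliser. -/
theorem exists_sylow_cg [Finite G] {v : V} (hv : NoThree v) :
    ∃ P : Sylow 3 (cg ι v), (P : Subgroup (cg ι v)) = (J ι).subgroupOf (cg ι v) := by
  have hp : IsPGroup 3 ((J ι).subgroupOf (cg ι v)) :=
    (IsPGroup.of_card (n := 3) C.card_J : IsPGroup 3 (J ι)).comap_subtype
  obtain ⟨P, hP⟩ := hp.exists_le_sylow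
  refine ⟨P, le_antisymm ?_ hP⟩
  have h := C.eq_J_of_pGroup hv (P.isPGroup'.map (cg ι v).subtype) (Subgroup.map_subtype_le _)
    (fun x hx => ⟨⟨x, J_le_cg v hx⟩, hP hx, rfl⟩)
  exact fun x hx => h.le ⟨x, hx, rfl⟩

/-- A homomorphism off the centraliser with prescribed values on `J`. -/
theorem split [Finite G] {v : V} (hv : NoThree v) (π : V →* Multiplicative (ZMod 3))
    (hπ : ∀ q : Rot, actFn q v = v → ∀ u : V, π (actFn q u) = π u) :
    ∃ f : cg ι v →* Multiplicative (ZMod 3), ∀ (u : V) (h : ι (inJ u) ∈ cg ι v),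
      f ⟨_, h⟩ = 1 ↔ π u = 1 := by
  haveI : Fact (Nat.Prime 3) := ⟨Nat.prime_three⟩
  obtain ⟨P, hP⟩ := C.exists_sylow_cg hv
  have hinj : Function.Injective (ι.comp inJ) := C.inj.comp SemidirectProduct.inl_injective
  let e : V ≃* J ι := MonoidHom.ofInjective hinj
  let φ : (P : Subgroup (cg ι v)) →* Multiplicative (ZMod 3) :=
    π.comp (e.symm.toMonoidHom.comp
      (((Subgroup.subgroupOfEquivOfLe (J_le_cg v)).toMonoidHom).comp
        (MulEquiv.subgroupCongr hP).toMonoidHom))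
  have hφu : ∀ (x : (P : Subgroup (cg ι v))) (u : V), ι (inJ u) = ((x : cg ι v) : G) →
      φ x = π u := by
    intro x u hu
    show π (e.symm _) = π u
    congr 1
    rw [MulEquiv.symm_apply_eq]
    exact Subtype.ext hu.symm
  have hmem : ∀ x : (P : Subgroup (cg ι v)), ((x : cg ι v) : G) ∈ J ι := fun x =>
    hP.le x.2
  obtain ⟨f, hf⟩ := exists_transfer P φ (by
    intro x y g e'
    obtain ⟨u, hu⟩ := hmem x
    obtain ⟨w, hw⟩ := hmem y
    change ι (inJ u) = _ at hu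
    change ι (inJ w) = _ at hw
    have eg : (g : G) * ι (inJ u) * (g : G)⁻¹ = ι (inJ w) := by
      rw [hu, hw, ← e']; rfl
    obtain ⟨m, hm, hmv⟩ := C.fusion' (mem_J u) (eg ▸ mem_J w) (mem_J v)
      (Subgroup.mem_centralizer_singleton_iff.1 g.2)
    rw [eg, ← map_mul, ← map_inv, ← map_mul, conj_inJ] at hm
    rw [← map_mul, ← map_mul] at hmv
    rw [hφu x u hu, hφu y w hw, ← SemidirectProduct.inl_injective (C.inj hm)]
    exact (hπ m.right ((commute_inJ_iff m v).1 (C.inj hmv)) u).symm)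
  refine ⟨f, fun u h => ?_⟩
  have hmP : (⟨_, h⟩ : cg ι v) ∈ (P : Subgroup (cg ι v)) := hP.ge (mem_J u)
  rw [hf ⟨_, hmP⟩, hφu ⟨_, hmP⟩ u rfl]
  exact pow_eq_one_iff_m3 _ P.not_dvd_index

end Cfg

end Cfsg.Agent.A9Three
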