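import Cfsg.Agent.Lib.A9Three.Nine

/-!
S3339: the image of the alternating group of degree nine contains the centralisers of its elements
of order three and is strongly embedded at the prime three.
-/

set_option autoImplicit false
set_option maxRecDepth 40000
set_option linter.style.haveILetI false

namespace Cfsg.Agent.A9Three

open Cfsg.Agent.ThreeTI.Mono
open Cfsg.Agent.ThreeTI.Cube (V)
open Equiv

universe u

/-- The data of the embedded alternating group of degree nine. -/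
structure Nin {G : Type u} [Group G] (ι : Mo →* G) (ψ : A6 →* G) (f : A9 →* G) : Prop where
  cfg : Cfg ι
  psi : Psi ι ψ
  inj : Function.Injective f
  mon : ∀ m, f (monA m) = ι m
  six : ∀ s, f (sixA s) = ψ s
  twist : ∀ s, f (twA s) = tw ι ψ s

namespace Nin

variable {G : Type u} [Group G] {ι : Mo →* G} {ψ : A6 →* G} {f : A9 →* G} (N : Nin ι ψ f)
include N

theorem mon_mem (m : Mo) : ι m ∈ f.range := ⟨monA m, N.mon m⟩

theorem six_mem (s : A6) : ψ s ∈ f.range := ⟨sixA s, N.six s⟩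

theorem range_le : ι.range ≤ f.range := by rintro _ ⟨m, rfl⟩; exact N.mon_mem m

theorem tw_mem (s : A6) : tw ι ψ s ∈ f.range := ⟨twA s, N.twist s⟩

theorem cg_va_le : cg ι va ≤ f.range := by
  intro g hg
  obtain ⟨i, hi⟩ := N.psi.cover g hg
  obtain ⟨s, hs⟩ := hi
  have e : g = ψ s * (ι (inJ va) ^ i)⁻¹ := eq_mul_inv_of_mul_eq hs.symm
  rw [e]
  exact mul_mem (N.six_mem s) (inv_mem (pow_mem (N.mon_mem _) i))

theorem cg_le [Finite G] {v : V} (hv : v ≠ 1) : cg ι v ≤ f.range := by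
  rcases trans_class v hv with h | h | h
  · obtain ⟨m, hm⟩ := isConj_iff.1 (isConj_of_cl h.symm)
    intro g hg
    have hg' : (ι m)⁻¹ * g * ι m ∈ cg ι va := by
      refine Subgroup.mem_centralizer_singleton_iff.2 ?_
      have e : ι (inJ v) = ι m * ι (inJ va) * (ι m)⁻¹ := by
        rw [← map_inv, ← map_mul, ← map_mul, hm]
      have h2 := Subgroup.mem_centralizer_singleton_iff.1 hg
      rw [e] at h2
      calc (ι m)⁻¹ * g * ι m * ι (inJ va)
          = (ι m)⁻¹ * (g * (ι m * ι (inJ va) * (ι m)⁻¹)) * ι m := by group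
        _ = _ := by rw [h2]; group
    rw [show g = ι m * ((ι m)⁻¹ * g * ι m) * (ι m)⁻¹ by group]
    exact mul_mem (mul_mem (N.mon_mem m) (N.cg_va_le hg')) (inv_mem (N.mon_mem m))
  · exact le_trans (N.cfg.cg_of_cl (Or.inl h)) N.range_le
  · exact le_trans (N.cfg.cg_of_cl (Or.inr h)) N.range_le

variable [Finite G]

/-- A 3-subgroup of the image is conjugate there into the monomial group. -/
theorem conj_into_range {A : Subgroup G} (hA : IsPGroup 3 A) (hle : A ≤ f.range) :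
    ∃ l ∈ f.range, ∀ a ∈ A, l * a * l⁻¹ ∈ ι.range := by
  haveI : Fact (Nat.Prime 3) := ⟨Nat.prime_three⟩
  obtain ⟨S, hSr, -, -⟩ := N.cfg.exists_sylow
  set S' := S.subtype (le_trans hSr N.range_le) with hS'
  obtain ⟨R, hR⟩ :=
    (hA.comap_of_injective f.range.subtype Subtype.coe_injective).exists_le_sylow
  obtain ⟨l, hl⟩ := MulAction.exists_smul_eq f.range R S'
  refine ⟨l, l.2, fun a ha => hSr ?_⟩
  have h : l * ⟨a, hle ha⟩ * l⁻¹ ∈ (S' : Subgroup f.range) := by
    rw [← hl, Sylow.coe_subgroup_smul]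
    exact Subgroup.smul_mem_pointwise_smul _ _ _ (hR ha)
  rw [hS', Sylow.coe_subtype] at h
  exact h

/-- An element of order three of the image is conjugate there to a translation. -/
theorem three_conj {x : G} (hx : x ∈ f.range) (h3 : x ^ 3 = 1) (h1 : x ≠ 1) :
    ∃ l ∈ f.range, ∃ v : V, v ≠ 1 ∧ l * x * l⁻¹ = ι (inJ v) := by
  haveI : Fact (Nat.Prime 3) := ⟨Nat.prime_three⟩
  have hp : IsPGroup 3 (Subgroup.zpowers x) := IsPGroup.of_card (n := 1)
    (by rw [Nat.card_zpowers, orderOf_eq_prime h3 h1, pow_one])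
  obtain ⟨l, hl, hlA⟩ := N.conj_into_range hp (Subgroup.zpowers_le.2 hx)
  obtain ⟨m, hm⟩ := hlA x (Subgroup.mem_zpowers x)
  have hm3 : m * m * m = 1 := N.cfg.inj (by
    rw [map_mul, map_mul, map_one, hm, ← pow_three', conj_pow, h3, mul_one, mul_inv_cancel])
  have hm1 : m ≠ 1 := fun e => h1 (conj_eq_one_iff.1 (by rw [← hm, e, map_one]))
  rcases three_cases m hm3 with h | h
  · refine ⟨l, hl, m.left, fun e => hm1 ?_, by rw [← hm, ← eq_inJ_of_right h]⟩
    rw [eq_inJ_of_right h, e, map_one]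
  · obtain ⟨c, hc⟩ := isConj_iff.1 (isConj_of_cl h)
    set k : A9 := ⟨k12, Perm.mem_alternatingGroup.2 k12_facts.1⟩
    refine ⟨f k * ι c * l, mul_mem (mul_mem ⟨k, rfl⟩ (N.mon_mem c)) hl, vc, by decide, ?_⟩
    have e : k * monA (inQ ⟨12⟩) * k⁻¹ = monA (inJ vc) := Subtype.ext k12_facts.2
    calc f k * ι c * l * x * (f k * ι c * l)⁻¹
        = f k * (ι c * (l * x * l⁻¹) * (ι c)⁻¹) * (f k)⁻¹ := by group
      _ = _ := by
          rw [← hm, ← map_inv, ← map_mul, ← map_mul, hc, ← N.mon (inQ _), ← map_inv, ← map_mul,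
            ← map_mul, e, N.mon]

/-- The centralisers of the elements of order three. -/
theorem cent3_le {x : G} (hx : x ∈ f.range) (h3 : x ^ 3 = 1) (h1 : x ≠ 1) :
    Subgroup.centralizer ({x} : Set G) ≤ f.range := by
  obtain ⟨l, hl, v, hv, he⟩ := N.three_conj hx h3 h1
  intro g hg
  have hg' : l * g * l⁻¹ ∈ cg ι v := by
    refine Subgroup.mem_centralizer_singleton_iff.2 ?_
    rw [← he]
    calc l * g * l⁻¹ * (l * x * l⁻¹) = l * (g * x) * l⁻¹ := by group
      _ = _ := by rw [Subgroup.mem_centralizer_singleton_iff.1 hg]; group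
  rw [show g = l⁻¹ * (l * g * l⁻¹) * l by group]
  exact mul_mem (mul_mem (inv_mem hl) (N.cg_le hv hg')) hl

/-- Conjugates of `J` inside the image come from the image. -/
theorem conj_J_mem {h : G} (hh : ∀ j ∈ J ι, h * j * h⁻¹ ∈ f.range) : h ∈ f.range := by
  have hJp : IsPGroup 3 (J ι) :=
    (haveI : Fact (Nat.Prime 3) := ⟨Nat.prime_three⟩; IsPGroup.of_card (n := 3) N.cfg.card_J)
  set A := (J ι).map (MulAut.conj h).toMonoidHom
  obtain ⟨l, hl, hlA⟩ := N.conj_into_range (A := A) (hJp.map _)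
    (by rintro _ ⟨j, hj, rfl⟩; exact hh j hj)
  set B := (J ι).map (MulAut.conj (l * h)).toMonoidHom
  have hB : B = J ι := by
    refine N.cfg.eq_J_of_le_range ?_ (hJp.map _) ?_ ?_
    · rintro _ ⟨j, hj, rfl⟩
      have := hlA _ ⟨j, hj, rfl⟩
      rw [MulEquiv.coe_toMonoidHom, MulAut.conj_apply] at this ⊢
      rwa [show l * h * j * (l * h)⁻¹ = l * (h * j * h⁻¹) * l⁻¹ by group]
    · rintro _ ⟨y, hy, rfl⟩ _ ⟨z, hz, rfl⟩
      rw [← map_mul, ← map_mul, Cfg.J_comm hy hz]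
    · rw [Subgroup.card_map_of_injective (MulEquiv.injective _), N.cfg.card_J]
  have hn : l * h ∈ Subgroup.normalizer (J ι : Set G) := by
    refine Subgroup.mem_normalizer_iff.2 fun y => ⟨fun hy => hB ▸ ⟨y, hy, rfl⟩, fun hy => ?_⟩
    rw [← hB] at hy
    obtain ⟨z, hz, hze⟩ := hy
    rwa [show y = z from ((MulAut.conj (l * h)).injective hze).symm]
  rw [show h = l⁻¹ * (l * h) by group]
  exact mul_mem (inv_mem hl) (N.range_le (N.cfg.norm hn))

/-- Strong embedding at the prime three. -/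
theorem strong {g x : G} (hg : g ∉ f.range) (hx : x ∈ f.range) (hy : g⁻¹ * x * g ∈ f.range)
    (h3 : x ^ 3 = 1) : x = 1 := by
  by_contra h1
  obtain ⟨l, hl, v, -, he⟩ := N.three_conj hx h3 h1
  have hy3 : (g⁻¹ * x * g) ^ 3 = 1 := by
    rw [show g⁻¹ * x * g = g⁻¹ * x * g⁻¹⁻¹ by rw [inv_inv], conj_pow, h3, mul_one, mul_inv_cancel]
  have hy1 : g⁻¹ * x * g ≠ 1 := fun e => h1 (by
    rw [show x = g * (g⁻¹ * x * g) * g⁻¹ by group, e, mul_one, mul_inv_cancel])
  refine hg ?_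
  have hh : g⁻¹ * l⁻¹ ∈ f.range := N.conj_J_mem fun j hj => by
    refine N.cent3_le hy hy3 hy1 (Subgroup.mem_centralizer_singleton_iff.2 ?_)
    have hc : j * (l * x * l⁻¹) = (l * x * l⁻¹) * j := by
      rw [he]; exact Cfg.J_comm hj (Cfg.mem_J v)
    calc g⁻¹ * l⁻¹ * j * (g⁻¹ * l⁻¹)⁻¹ * (g⁻¹ * x * g)
        = g⁻¹ * l⁻¹ * (j * (l * x * l⁻¹)) * l * g := by group
      _ = _ := by rw [hc]; group
  rw [show g = l⁻¹ * (g⁻¹ * l⁻¹)⁻¹ by group]
  exact mul_mem (inv_mem hl) (inv_mem hh)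

end Nin

namespace Cfg

/-- The data exist unless the centraliser is small. -/
theorem exists_nin {G : Type u} [Group G] [Finite G] {ι : Mo →* G} (C : Cfg ι)
    (hbig : ¬ cg ι va ≤ ι.range) :
    ∃ (ψ : A6 →* G) (f : A9 →* G), Nin ι ψ f := by
  obtain ⟨ψ, P⟩ := C.exists_psi hbig
  obtain ⟨f, hf, hm, hs, ht⟩ := P.exists_A9 C
  exact ⟨ψ, f, C, P, hf, hm, hs, ht⟩

end Cfg

end Cfsg.Agent.A9Three
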