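import Cfsg.Agent.Lib.A9Three.Psi
import Cfsg.Agent.Lib.A9Three.FourAct

/-!
S3339: the factor `A₆` of the centraliser of the second coordinate translation.
-/

set_option autoImplicit false
set_option maxRecDepth 40000

namespace Cfsg.Agent.A9Three

open Cfsg.Agent.ThreeTI.Mono
open Cfsg.Agent.ThreeTI.Cube (V)
open Equiv

universe u

/-- The rotation interchanging the last two blocks. -/
def swR : Rot := ⟨5⟩

/-- The labelling of the six points moved by the conjugate factor. -/
def lb (i : Fin 6) : Fin 9 := perm9 (inQ swR) (ce i)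

theorem sw_facts : actFn swR va = v2 ∧ actFn swR v1 = v1⁻¹ ∧ actFn swR v2 = va := by decide +kernel

/-- The conjugate embedding. -/
def tw {G : Type u} [Group G] (ι : Mo →* G) (ψ : A6 →* G) : A6 →* G :=
  (MulAut.conj (ι (inQ swR))).toMonoidHom.comp ψ

theorem tw_apply {G : Type u} [Group G] (ι : Mo →* G) (ψ : A6 →* G) (s : A6) :
    tw ι ψ s = ι (inQ swR) * ψ s * (ι (inQ swR))⁻¹ := rfl

theorem sw_conj_v {G : Type u} [Group G] (ι : Mo →* G) (v : V) :
    ι (inQ swR) * ι (inJ v) * (ι (inQ swR))⁻¹ = ι (inJ (actFn swR v)) := by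
  rw [← map_mul, ← map_inv, ← map_mul, conj_inJ, SemidirectProduct.right_inr]

namespace Psi

variable {G : Type u} [Group G] {ι : Mo →* G} {ψ : A6 →* G} (P : Psi ι ψ)
include P

theorem tw_inj : Function.Injective (tw ι ψ) :=
  (MulAut.conj (ι (inQ swR))).injective.comp P.inj

theorem psi_comm_va (s : A6) : Commute (ψ s) (ι (inJ va)) :=
  Subgroup.mem_centralizer_singleton_iff.1 (P.le ⟨s, rfl⟩)

theorem tw_comm (s : A6) : Commute (tw ι ψ s) (ι (inJ v2)) := by
  have h := Commute.map (P.psi_comm_va s) (MulAut.conj (ι (inQ swR))).toMonoidHom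
  simp only [MulEquiv.coe_toMonoidHom, MulAut.conj_apply, sw_conj_v, sw_facts.1] at h
  exact h

theorem tw_agree (m : Mo) (s : A6) (h : perm9 m = perm9 (inQ swR) * six s * (perm9 (inQ swR))⁻¹) :
    tw ι ψ s = ι m := by
  rw [tw_apply, P.agree ((inQ swR)⁻¹ * m * inQ swR) s (by
    rw [map_mul, map_mul, map_inv, h]; group), map_mul, map_mul, map_inv]
  group

theorem tw_act (m : Mo) (π : Perm (Fin 6)) (hπ : ∀ i, perm9 m (lb i) = lb (π i)) (s : A6) :
    ι m * tw ι ψ s * (ι m)⁻¹ = tw ι ψ (cj π s) := by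
  have h := P.act ((inQ swR)⁻¹ * m * inQ swR) π (fun i => by
    rw [map_mul, map_mul, map_inv, Perm.mul_apply, Perm.mul_apply]
    show (perm9 (inQ swR))⁻¹ (perm9 m (lb i)) = ce (π i)
    rw [hπ, lb, Perm.inv_def, Equiv.symm_apply_apply]) s
  rw [map_mul, map_mul, map_inv] at h
  rw [tw_apply, tw_apply, ← h]
  group

/-- The centraliser of the translation. -/
theorem cg_v2 {g : G} (hg : g ∈ cg ι v2) :
    ∃ (i : ℕ) (s : A6), g = ι (inJ v2) ^ i * tw ι ψ s := by
  set w := ι (inQ swR)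
  have hg' : w⁻¹ * g * w ∈ cg ι va := by
    refine Subgroup.mem_centralizer_singleton_iff.2 ?_
    have e : ι (inJ v2) = w * ι (inJ va) * w⁻¹ := by rw [sw_conj_v, sw_facts.1]
    have h := Subgroup.mem_centralizer_singleton_iff.1 hg
    rw [e] at h
    calc w⁻¹ * g * w * ι (inJ va) = w⁻¹ * (g * (w * ι (inJ va) * w⁻¹)) * w := by group
      _ = _ := by rw [h]; group
  obtain ⟨i, s, hs⟩ := P.cover _ hg'
  refine ⟨2 * i, s, ?_⟩
  have h3 : ι (inJ va) ^ i * ι (inJ va) ^ (2 * i) = 1 := by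
    rw [← pow_add, show i + 2 * i = 3 * i by ring, pow_mul, ← map_pow, ← map_pow inJ, va_cube,
      map_one, map_one, one_pow]
  have e : w⁻¹ * g * w = ι (inJ va) ^ (2 * i) * ψ s := by
    rw [← ((P.psi_comm_va s).pow_right (2 * i)).eq, hs, mul_assoc (w⁻¹ * g * w), h3, mul_one]
  calc g = w * (w⁻¹ * g * w) * w⁻¹ := by group
    _ = (w * ι (inJ va) * w⁻¹) ^ (2 * i) * (w * ψ s * w⁻¹) := by rw [e, conj_pow]; group
    _ = _ := by rw [sw_conj_v, sw_facts.1]; rfl

end Psi

namespace Cfg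

variable {G : Type u} [Group G] {ι : Mo →* G} (C : Cfg ι)
include C

set_option synthInstance.maxSize 1000 in
omit C in
theorem small_stab : ∀ w : V, (cl (inJ w) = cl (inJ vb) ∨ cl (inJ w) = cl (inJ vc)) →
    (Finset.univ.filter fun q : Rot => actFn q w = w).card ≤ 3 := by decide +kernel

/-- A subgroup of order prime to three in the centraliser of a conjugate of a translation of the
second or third class. -/
theorem coprime_le_two [Finite G] {S : Subgroup G} {w : V}
    (hw : cl (inJ w) = cl (inJ vb) ∨ cl (inJ w) = cl (inJ vc)) (k : G)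
    (hS : ∀ s ∈ S, Commute s (k * ι (inJ w) * k⁻¹)) (hco : (Nat.card S).Coprime 3) :
    Nat.card S ≤ 2 := by
  classical
  have hm : ∀ s ∈ S, ∃ m : Mo, ι m = k⁻¹ * s * k ∧ actFn m.right w = w := by
    intro s hs
    have hc : k⁻¹ * s * k ∈ cg ι w := by
      refine Subgroup.mem_centralizer_singleton_iff.2 ?_
      calc k⁻¹ * s * k * ι (inJ w) = k⁻¹ * (s * (k * ι (inJ w) * k⁻¹)) * k := by group
        _ = _ := by rw [(hS s hs).eq]; group
    obtain ⟨m, hm⟩ := C.cg_of_cl hw hc
    exact ⟨m, hm, (C.mem_cg_iff m w).1 (hm ▸ hc)⟩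
  choose m hm1 hm2 using fun s : S => hm s s.2
  have hle : Nat.card S ≤ Nat.card {q : Rot // actFn q w = w} := by
    refine Nat.card_le_card_of_injective (fun s => ⟨(m s).right, hm2 s⟩) fun s t hst => ?_
    have h1 : ((m s)⁻¹ * m t).right = 1 := by
      simp only [SemidirectProduct.mul_right, SemidirectProduct.inv_right]
      have e : (m s).right = (m t).right := congrArg Subtype.val hst
      rw [e, inv_mul_cancel]
    have hd : ((m s)⁻¹ * m t) ^ 3 = 1 := by
      rw [eq_inJ_of_right h1, ← map_pow, (pow_three' _).trans (v_cube _), map_one]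
    have h2 : ((s⁻¹ * t : S) : G) ^ 3 = 1 := by
      have h := congrArg ι hd
      rw [map_pow, map_mul, map_inv, hm1, hm1, map_one] at h
      rw [show (k⁻¹ * (s : G) * k)⁻¹ * (k⁻¹ * (t : G) * k) = k⁻¹ * ((s : G)⁻¹ * t) * k⁻¹⁻¹ by
        group, conj_pow, conj_eq_one_iff] at h
      exact h
    have h3 := orderOf_dvd_of_pow_eq_one (Subtype.ext h2 : (s⁻¹ * t : S) ^ 3 = 1)
    have h4 : (orderOf (s⁻¹ * t : S)).Coprime 3 :=
      Nat.Coprime.coprime_dvd_left (orderOf_dvd_natCard _) hco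
    have h5 : orderOf (s⁻¹ * t : S) = 1 := by
      rcases (Nat.dvd_prime Nat.prime_three).1 h3 with e | e
      · exact e
      · rw [e] at h4; norm_num at h4
    exact inv_mul_eq_one.1 (orderOf_eq_one_iff.1 h5)
  rw [Nat.card_eq_fintype_card (α := {q : Rot // _}), Fintype.card_subtype] at hle
  have h3 := small_stab w hw
  have : Nat.card S ≠ 3 := fun h => by rw [h] at hco; norm_num at hco
  omega

end Cfg

/-- A subgroup of order at most two normalised by `x` is trivial. -/
theorem FourAct.triv_of_le_two {G : Type u} [Group G] [Finite G] {W : Subgroup G} {x y : G}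
    (A : FourAct W x y) (i : Fin 3) {S : Subgroup G}
    (hS : S ≤ Subgroup.centralizer (W : Set G))
    (hz : ∀ s ∈ S, s * (x ^ i.val * y) = x ^ i.val * y * s) (hco : (Nat.card S).Coprime 3)
    (h2 : Nat.card S ≤ 2) (hx : ∀ s ∈ S, x * s * x⁻¹ ∈ S) : S = ⊥ := by
  by_contra hne
  obtain ⟨s, hs, hs1⟩ : ∃ s ∈ S, s ≠ 1 := by
    by_contra hc; push Not at hc; exact hne ((Subgroup.eq_bot_iff_forall _).2 hc)
  have hxs : x * s * x⁻¹ = s := by
    by_contra hxne
    have hsub : ({1, s, x * s * x⁻¹} : Set G) ⊆ S := by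
      rintro w (rfl | rfl | rfl)
      exacts [one_mem _, hs, hx s hs]
    have h3 : ({1, s, x * s * x⁻¹} : Set G).ncard = 3 := by
      rw [Set.ncard_insert_of_notMem (by
          simp only [Set.mem_insert_iff, Set.mem_singleton_iff, not_or]
          exact ⟨Ne.symm hs1, fun e => hs1 (conj_eq_one_iff.1 e.symm)⟩),
        Set.ncard_pair (Ne.symm hxne)]
    have := Set.ncard_le_ncard hsub (Set.toFinite _)
    rw [h3, ← Nat.card_coe_set_eq] at this
    have : Nat.card ((S : Set G) : Type u) = Nat.card S := rfl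
    omega
  obtain ⟨n, w, hw, hsw⟩ := A.cent s (hS hs) (mul_inv_eq_iff_eq_mul.1 hxs).symm
  have hw1 : w = 1 := by
    refine A.yfpf w hw ?_
    have hwz : Commute (x ^ i.val * y) w := by
      have e : w = (x ^ n)⁻¹ * s := by rw [hsw, inv_mul_cancel_left]
      rw [e]
      exact Commute.mul_right ((A.z_facts i).2.2.symm.pow_right n).inv_right (hz s hs).symm
    rw [← mul_inv_eq_iff_eq_mul, ← (A.z_facts i).2.1 w hw, hwz.eq, mul_inv_cancel_right]
  rw [hw1, mul_one] at hsw
  have h3 : s ^ 3 = 1 := by rw [hsw, ← pow_mul, mul_comm, pow_mul, pow_three', A.x3, one_pow]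
  have hd := orderOf_dvd_of_pow_eq_one h3
  rcases (Nat.dvd_prime Nat.prime_three).1 hd with e | e
  · exact hs1 (orderOf_eq_one_iff.1 e)
  · exact absurd (e ▸ Subgroup.orderOf_dvd_natCard S hs)
      (Nat.prime_three.coprime_iff_not_dvd.1 hco.symm)

end Cfsg.Agent.A9Three
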